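import Cfsg.Agent.Lib.Chev.RootOrbit
import Cfsg.Agent.Lib.Chev.Torus
import Cfsg.Agent.Lib.Chev.Weyl
import Cfsg.Agent.Lib.Chev.WeakClosureData

/-!
Decidable facts about the highest root used for the maximality of subfield subgroups.
-/

set_option autoImplicit false

namespace Cfsg.Agent.Lib.ChevSubfield

open Cfsg.Lie Cfsg.Agent.Lib.Chev

variable (D : ChevalleyDatum) (C : Cert)

/-- The highest root. -/
def top : ℕ := D.nroots - 1

/-- Highest root: maximal height, central among positive roots, dominant; and each fundamental root orthogonal to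
it is the difference of two roots that are not. -/
def chkTopRoot : Bool :=
  Nat.blt 1 D.nroots &&
  (allN D.nroots fun s => Nat.beq s (top D) || decide (htB D C s < htB D C (top D))) &&
  (allN (D.nroots / 2) fun j =>
    (cTerms C (top D) (D.nroots / 2 + j)).isEmpty && (cTerms C (D.nroots / 2 + j) (top D)).isEmpty) &&
  (allN D.rank fun l => decide (0 ≤ D.pairing (top D) (D.simple l)) && decide (0 < coef D C l (top D))) &&
  (allN D.rank fun j => decide (D.pairing (top D) (D.simple j) ≠ 0) ||
    (List.range (D.nroots / 2)).any fun r0 =>
      decide (0 < D.pairing (top D) (D.nroots / 2 + r0)) &&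
        (cTerms C (D.simple j) (D.nroots / 2 + r0)).any fun c =>
          decide (c.2.2 = (1, 1)) && decide (0 < D.pairing (top D) c.1))

/-- A structure constant that is non-zero in characteristic `p` (`5` stands for all larger ones). -/
def okM (p : ℕ) (M : ℤ) : Bool :=
  if p = 2 ∨ p = 3 then decide (¬ (p : ℤ) ∣ M) else decide (M ≠ 0 ∧ M.natAbs ≤ 4)

/-- Every positive root outside `Z` has a commutator with another that is visible in characteristic `p`. -/
def chkVisible (p : ℕ) (Z : List ℕ) : Bool :=
  allN (D.nroots / 2) fun j => Z.contains (D.nroots / 2 + j) ||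
    (List.range (D.nroots / 2)).any fun s => !Nat.beq s j &&
      (cTerms C (D.nroots / 2 + j) (D.nroots / 2 + s)).any fun c => decide (c.2.2 = (1, 1)) && okM p c.2.1 &&
        decide (((cTerms C (D.nroots / 2 + j) (D.nroots / 2 + s)).filter fun d => Nat.beq d.1 c.1) = [c])

/-- The roots of `Z` are positive and central in the positive part in characteristic `p`. -/
def chkCentral (p : ℕ) (Z : List ℕ) : Bool :=
  Z.all fun z => Nat.ble (D.nroots / 2) z && Nat.blt z D.nroots &&
    allN (D.nroots / 2) fun j => (cTerms C z (D.nroots / 2 + j)).all fun c => decide ((p : ℤ) ∣ c.2.1)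

/-- The fundamental root reached by lowering a positive root. -/
def descend : ℕ → ℕ → Option ℕ
  | 0, _ => none
  | fuel + 1, r =>
    match (List.range D.rank).find? fun i => Nat.beq r (D.simple i) with
    | some i => some i
    | none =>
      match (List.range D.rank).find? fun i => Nat.blt (refl C i r) r with
      | some i => descend fuel (refl C i r)
      | none => none

/-- An exponent whose power map is onto in characteristic `p`. -/
def okExp (p : ℕ) (m : ℤ) : Bool := Nat.beq m.natAbs 1 || Nat.beq m.natAbs p

/-- One step of spreading over the fundamental roots. -/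
def spreadStep (p : ℕ) (S : List ℕ) : List ℕ :=
  (List.range D.rank).filter fun j =>
    S.contains j || S.any fun i => okExp p (D.pairing (D.simple i) (D.simple j))

/-- From each root of `Z` all fundamental roots are reached. -/
def chkSpread (p : ℕ) (Z : List ℕ) : Bool :=
  Z.all fun z =>
    match descend D C D.nroots z with
    | some i0 => Nat.blt i0 D.rank &&
        allN D.rank fun j => ((spreadStep D p)^[D.rank] [i0]).contains j
    | none => false

/-- The sum of the squares of the pairings: it tells the root lengths apart. -/
def lenInv (s : ℕ) : ℤ := zsum (fun t => D.pairing s t * D.pairing s t) D.nroots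

/-- The roots in `L` form an orbit-closed set; two of them that are not opposite commute or have a single
commutator term commuting with both. -/
def chkLong (L : ℕ → Bool) : Bool :=
  L (top D) &&
  (allN D.rank fun i => allN D.nroots fun s => !L s || L (refl C i s)) &&
  allN D.nroots fun B => !L B || Nat.beq B (top D) || Nat.beq B (ng D (top D)) ||
    match cTerms C (top D) B with
    | [] => true
    | [c] => (Nat.beq c.2.2.1 1 && Nat.beq c.2.2.2 1) && decide (c.2.1 = 1 ∨ c.2.1 = -1) &&
        (cTerms C (top D) c.1).isEmpty && (cTerms C B c.1).isEmpty &&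
        !(Nat.beq c.1 (top D) || Nat.beq c.1 (ng D (top D)) || Nat.beq c.1 B || Nat.beq c.1 (ng D B))
    | _ => false

/-- The fundamental root `i` meets the highest root in a chain of length one. -/
def chkLineOne (i : ℕ) : Bool :=
  Nat.blt i D.rank && !Nat.beq (refl C i (top D)) (D.simple i) &&
    !Nat.beq (refl C i (top D)) (ng D (D.simple i)) &&
    match cE C (D.simple i) (refl C i (top D)) with
    | [e] => Nat.beq e.1 (top D) && decide (e.2 = 1 ∨ e.2 = -1)
    | _ => false

/-- Two orthogonal fundamental roots or a fundamental short root. -/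
def chkTwoClass (L : ℕ → Bool) (w : ℕ × ℕ) : Bool :=
  Nat.blt w.1 D.rank && Nat.blt w.2 D.rank &&
    (if w.1 = w.2 then !L (D.simple w.1)
      else (cTerms C (D.simple w.1) (D.simple w.2)).isEmpty)

/-- The `B₂` subsystem around the highest short root `As`. -/
def chkShortTop (As a b : ℕ) (L₁ L₂ : List ℕ) : Bool :=
  (L₁.all fun i => Nat.blt i D.rank) && (L₂.all fun i => Nat.blt i D.rank) &&
    Nat.blt As D.nroots && Nat.blt a D.nroots && Nat.blt b D.nroots &&
    Nat.ble (D.nroots / 2) a && Nat.ble (D.nroots / 2) b && !Nat.beq a b &&
    Nat.beq (perm C L₁ As) As && Nat.beq (perm C L₁ (top D)) b &&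
    Nat.beq (perm C L₂ (top D)) (top D) && Nat.beq (perm C L₂ As) a &&
    match cTerms C b a with
    | [c, d] => decide (c.1 = As ∧ c.2.2 = (1, 1) ∧ (c.2.1 = 1 ∨ c.2.1 = -1)) &&
        decide (d.1 = top D ∧ d.2.2 = (1, 2) ∧ (d.2.1 = 1 ∨ d.2.1 = -1))
    | _ => false

/-- In `G₂` the data of the short highest root. -/
def chkG2Top : Bool :=
  decide (refl C 1 9 = 9 ∧ refl C 1 (top D) = 10 ∧ D.simple 1 = 6) &&
    decide ((cTerms C 9 6).isEmpty = true ∧ ((cTerms C 10 6).map fun c => (c.1, c.2.1.natAbs, c.2.2)) = [(top D, 1, (1, 1))])

/-- Every long root of an equal-length system. -/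
def allLong : ℕ → Bool := fun _ => true

/-- The long roots when there are two lengths. -/
def twoLong : ℕ → Bool := fun s => decide (lenInv D s = lenInv D (top D))

theorem topRoot_G2 : chkTopRoot chevG2 G2.cert = true := by decide +kernel
theorem topRoot_B2 : chkTopRoot chevB2 B2.cert = true := by decide +kernel
theorem topRoot_D4 : chkTopRoot chevD4 D4.cert = true := by decide +kernel
theorem topRoot_F4 : chkTopRoot chevF4 F4.cert = true := by decide +kernel
theorem topRoot_E6 : chkTopRoot chevE6 E6.cert = true := by decide +kernel
theorem topRoot_E7 : chkTopRoot chevE7 E7.cert = true := by decide +kernel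
theorem topRoot_E8 : chkTopRoot chevE8 E8.cert = true := by decide +kernel

theorem long_G2 : chkLong chevG2 G2.cert (twoLong chevG2) = true := by decide +kernel
theorem long_B2 : chkLong chevB2 B2.cert (twoLong chevB2) = true := by decide +kernel
theorem long_D4 : chkLong chevD4 D4.cert allLong = true := by decide +kernel
theorem long_F4 : chkLong chevF4 F4.cert (twoLong chevF4) = true := by decide +kernel
theorem long_E6 : chkLong chevE6 E6.cert allLong = true := by decide +kernel
theorem long_E7 : chkLong chevE7 E7.cert allLong = true := by decide +kernel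
theorem long_E8 : chkLong chevE8 E8.cert allLong = true := by decide +kernel

end Cfsg.Agent.Lib.ChevSubfield
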