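import Cfsg.Agent.Lib.ChevSubfield.Checks
import Cfsg.Agent.Lib.Chev.BorelTits
import Cfsg.Agent.Lib.Chev.Simple
import Cfsg.Agent.Lib.Chev.SL2Hom

/-!
The height filtration of the positive unipotent group and its coordinates as matrix entries.
-/

set_option autoImplicit false

namespace Cfsg.Agent.Lib.ChevSubfield

open Cfsg.Lie Cfsg.Agent.Lib.Chev

variable {D : ChevalleyDatum} {C : Cert} {F : Type*} [Field F]

/-- The positive roots of height at least `k`. -/
def htSet (D : ChevalleyDatum) (C : Cert) (k : ℤ) : Set ℕ := {r | r ∈ posSet D ∧ k ≤ ht D C r}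

/-- The height level of a basis vector. -/
def hlev (D : ChevalleyDatum) (C : Cert) : D.Idx → ℤ := wgt D (ht D C)

theorem htSet_subset (k : ℤ) : htSet D C k ⊆ posSet D := fun _ hr => hr.1

theorem htSet_lt (k : ℤ) : ∀ r ∈ htSet D C k, r < D.nroots := fun _ hr => hr.1.2

theorem htSet_mono {j k : ℤ} (h : j ≤ k) : htSet D C k ⊆ htSet D C j := fun _ hr => ⟨hr.1, le_trans h hr.2⟩

theorem closedSet_htSet (h : Checked D C) {k : ℤ} (hk : 0 ≤ k) : ClosedSet D C (htSet D C k) := by
  intro r hr s hs _ _ c hc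
  obtain ⟨hlt, hi, hj, hφ⟩ := h.cTerms_spec hr.1.2 hs.1.2 c hc
  refine ⟨(h.cTerms_pos hr.1 hs.1 hc).1, ?_⟩
  rw [hφ _ h.isAdd_ht]
  have h1 := hr.2
  have h2 := hs.2
  have h3 : (1 : ℤ) ≤ c.2.2.1 := by exact_mod_cast hi
  have h4 : (0 : ℤ) ≤ c.2.2.2 := Nat.cast_nonneg _
  nlinarith

theorem htSet_one (h : Checked D C) : htSet D C 1 = posSet D := by
  refine Set.ext fun r => ⟨fun hr => hr.1, fun hr => ⟨hr, ?_⟩⟩
  have := h.ht_pos hr.2 hr.1
  omega

/-- An entry of `g - 1`. -/
def dEnt (g : GL D.Idx F) (y x : D.Idx) : F := ((g : Matrix D.Idx D.Idx F) - 1) y x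

section

variable (h : Checked D C)
include h

theorem raises_x_ht {r : ℕ} (hr : r ∈ posSet D) (t : F) {k : ℤ} (hk : k ≤ ht D C r) :
    Raises (hlev D C) k (D.x F r t - 1) := by
  intro y x hne
  by_cases e : y = x
  · subst e
    simp [h.x_diag hr.2] at hne
  rw [Matrix.sub_apply, Matrix.one_apply_ne e, sub_zero] at hne
  rcases h.x_entry hr.2 t hne with e' | ⟨j, hj, hφ⟩
  · exact absurd e' e
  show hlev D C x + k ≤ wgt D (ht D C) y
  rw [hφ _ h.isAdd_ht]
  show hlev D C x + k ≤ hlev D C x + _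
  have h0 := h.ht_pos hr.2 hr.1
  have h1 : (1 : ℤ) ≤ j := by exact_mod_cast hj
  nlinarith

theorem raises_htGen {k : ℤ} (hk : 0 ≤ k) {g : GL D.Idx F} (hg : g ∈ rootGen D F (htSet D C k)) :
    Raises (hlev D C) k ((g : Matrix D.Idx D.Idx F) - 1) ∧
      Raises (hlev D C) k (((g⁻¹ : GL D.Idx F) : Matrix D.Idx D.Idx F) - 1) := by
  refine raises_of_mem_closure hk ?_ hg
  rintro g ⟨r, t, hr, e⟩
  rw [h.rootGen_inv_mem (htSet_lt k) hr e, e]
  exact ⟨raises_x_ht h hr.1 t hr.2, raises_x_ht h hr.1 (-t) hr.2⟩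

theorem dEnt_mul {k : ℤ} {g g' : GL D.Idx F} (hg : Raises (hlev D C) k ((g : Matrix D.Idx D.Idx F) - 1))
    (hg' : Raises (hlev D C) k ((g' : Matrix D.Idx D.Idx F) - 1)) {y x : D.Idx}
    (hlt : hlev D C y < hlev D C x + (k + k)) : dEnt (g * g') y x = dEnt g y x + dEnt g' y x := by
  have e : ((g * g' : GL D.Idx F) : Matrix D.Idx D.Idx F) - 1 =
      ((g : Matrix D.Idx D.Idx F) - 1) + ((g' : Matrix D.Idx D.Idx F) - 1) +
        ((g : Matrix D.Idx D.Idx F) - 1) * ((g' : Matrix D.Idx D.Idx F) - 1) := by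
    rw [Units.val_mul]; noncomm_ring
  have h0 : (((g : Matrix D.Idx D.Idx F) - 1) * ((g' : Matrix D.Idx D.Idx F) - 1)) y x = 0 := by
    by_contra hne
    have := (hg.mul hg') y x hne
    omega
  simp only [dEnt, e, Matrix.add_apply, h0, add_zero]

theorem dEnt_eq_zero {k : ℤ} {g : GL D.Idx F} (hg : Raises (hlev D C) k ((g : Matrix D.Idx D.Idx F) - 1))
    {y x : D.Idx} (hlt : hlev D C y < hlev D C x + k) : dEnt g y x = 0 := by
  by_contra hne
  have := hg y x hne
  omega

theorem raises_conj {k : ℤ} (hk : 0 ≤ k) {a c : GL D.Idx F}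
    (ha : a ∈ rootGen D F (htSet D C 1)) (hc : Raises (hlev D C) k ((c : Matrix D.Idx D.Idx F) - 1)) :
    Raises (hlev D C) k (((a * c * a⁻¹ : GL D.Idx F) : Matrix D.Idx D.Idx F) - 1) ∧
    ∀ y x, hlev D C y < hlev D C x + k + 1 → dEnt (a * c * a⁻¹) y x = dEnt c y x := by
  obtain ⟨h1, h2⟩ := raises_htGen h (by norm_num) ha
  have e : ((a * c * a⁻¹ : GL D.Idx F) : Matrix D.Idx D.Idx F) - 1 =
      (a : Matrix D.Idx D.Idx F) * ((c : Matrix D.Idx D.Idx F) - 1) * ((a⁻¹ : GL D.Idx F) : Matrix D.Idx D.Idx F) := by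
    rw [mul_sub, sub_mul, mul_one, Units.mul_inv, Units.val_mul, Units.val_mul]
  set N := (c : Matrix D.Idx D.Idx F) - 1
  set A := (a : Matrix D.Idx D.Idx F) - 1
  set B := ((a⁻¹ : GL D.Idx F) : Matrix D.Idx D.Idx F) - 1
  have e2 : (a : Matrix D.Idx D.Idx F) * N * ((a⁻¹ : GL D.Idx F) : Matrix D.Idx D.Idx F) =
      N + (A * N + N * B + A * N * B) := by
    simp only [A, B]; noncomm_ring
  have hrest : Raises (hlev D C) (k + 1) (A * N + N * B + A * N * B) :=
    (((h1.mul hc).mono (by omega)).add ((hc.mul h2).mono le_rfl)).add (((h1.mul hc).mul h2).mono (by omega))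
  refine ⟨?_, fun y x hlt => ?_⟩
  · rw [e, e2]; exact hc.add (hrest.mono (by omega))
  · simp only [dEnt, e, e2, Matrix.add_apply]
    have : (A * N + N * B + A * N * B) y x = 0 := by
      by_contra hne
      have := hrest y x hne
      omega
    simp only [Matrix.add_apply] at this
    rw [this, add_zero]

/-- The commutator's entries of exact height are bilinear in the two factors' ones. -/
theorem dEnt_comm {k l : ℤ} (hk : 1 ≤ k) (hl : 1 ≤ l) {g x : GL D.Idx F}
    (hg : g ∈ rootGen D F (htSet D C k)) (hx : x ∈ rootGen D F (htSet D C l)) :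
    Raises (hlev D C) (k + l) (((g * x * g⁻¹ * x⁻¹ : GL D.Idx F) : Matrix D.Idx D.Idx F) - 1) ∧
    ∀ a b, hlev D C a < hlev D C b + (k + l) + 1 → dEnt (g * x * g⁻¹ * x⁻¹) a b =
      ∑ z, (dEnt g a z * dEnt x z b - dEnt x a z * dEnt g z b) := by
  obtain ⟨g1, g2⟩ := raises_htGen h (by omega) hg
  obtain ⟨x1, x2⟩ := raises_htGen h (by omega) hx
  set G := (g : Matrix D.Idx D.Idx F)
  set X := (x : Matrix D.Idx D.Idx F)
  set G' := ((g⁻¹ : GL D.Idx F) : Matrix D.Idx D.Idx F)
  set X' := ((x⁻¹ : GL D.Idx F) : Matrix D.Idx D.Idx F)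
  have e : ((g * x * g⁻¹ * x⁻¹ : GL D.Idx F) : Matrix D.Idx D.Idx F) - 1 =
      ((G - 1) * (X - 1) - (X - 1) * (G - 1)) +
        ((G - 1) * (X - 1) - (X - 1) * (G - 1)) * (G' * X' - 1) := by
    have h1 : (X * G) * (G' * X') = 1 := by
      simp only [X, G, G', X', mul_assoc]
      rw [← mul_assoc (g : Matrix D.Idx D.Idx F), Units.mul_inv, one_mul, Units.mul_inv]
    have h2 : (G - 1) * (X - 1) - (X - 1) * (G - 1) = G * X - X * G := by noncomm_ring
    rw [h2, Units.val_mul, Units.val_mul, Units.val_mul]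
    show G * X * G' * X' - 1 = G * X - X * G + (G * X - X * G) * (G' * X' - 1)
    rw [mul_sub, mul_one, sub_mul (G * X), h1, ← mul_assoc]
    abel
  have hb : Raises (hlev D C) (k + l) ((G - 1) * (X - 1) - (X - 1) * (G - 1)) :=
    (g1.mul x1).sub ((x1.mul g1).mono (by omega))
  have hV : Raises (hlev D C) 1 (G' * X' - 1) :=
    raises_mul_sub_one (by norm_num) (g2.mono hk) (x2.mono hl)
  have hrest := hb.mul hV
  refine ⟨?_, fun a b hlt => ?_⟩
  · rw [e]; exact hb.add (hrest.mono (by omega))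
  simp only [dEnt, e, Matrix.add_apply]
  have h0 : (((G - 1) * (X - 1) - (X - 1) * (G - 1)) * (G' * X' - 1)) a b = 0 := by
    by_contra hne
    have := hrest a b hne
    omega
  rw [h0, add_zero, Matrix.sub_apply, Matrix.mul_apply, Matrix.mul_apply, Finset.sum_sub_distrib]

/-- The entries of exact height of the commutator are additive in the first factor. -/
theorem dEnt_comm_mul {k l : ℤ} (hk : 1 ≤ k) (hl : 1 ≤ l) {g g' x : GL D.Idx F}
    (hg : g ∈ rootGen D F (htSet D C k)) (hg' : g' ∈ rootGen D F (htSet D C k))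
    (hx : x ∈ rootGen D F (htSet D C l)) {a b : D.Idx} (hab : hlev D C a < hlev D C b + (k + l) + 1) :
    dEnt (g * g' * x * (g * g')⁻¹ * x⁻¹) a b =
      dEnt (g * x * g⁻¹ * x⁻¹) a b + dEnt (g' * x * g'⁻¹ * x⁻¹) a b := by
  rw [(dEnt_comm h hk hl (mul_mem hg hg') hx).2 a b hab, (dEnt_comm h hk hl hg hx).2 a b hab,
    (dEnt_comm h hk hl hg' hx).2 a b hab, ← Finset.sum_add_distrib]
  refine Finset.sum_congr rfl fun z _ => ?_
  have g1 := (raises_htGen h (by omega) hg).1
  have g1' := (raises_htGen h (by omega) hg').1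
  have x1 := (raises_htGen h (by omega) hx).1
  have e1 : dEnt (g * g') a z * dEnt x z b = (dEnt g a z + dEnt g' a z) * dEnt x z b := by
    by_cases hz : dEnt x z b = 0
    · rw [hz, mul_zero, mul_zero]
    · have := x1 z b hz
      rw [dEnt_mul h g1 g1' (by omega)]
  have e2 : dEnt x a z * dEnt (g * g') z b = dEnt x a z * (dEnt g z b + dEnt g' z b) := by
    by_cases hz : dEnt x a z = 0
    · rw [hz, zero_mul, zero_mul]
    · have := x1 a z hz
      rw [dEnt_mul h g1 g1' (by omega)]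
  rw [e1, e2]
  ring

end

section

variable (hh : Rooted D C)
include hh

/-- A coroot coefficient of `r` that is non-zero in the field. -/
theorem exists_cor_ne {r : ℕ} (hr : r < D.nroots) : ∃ i < D.rank, (cor D C i r : F) ≠ 0 := by
  by_contra hcon
  simp only [not_exists, not_and, not_not] at hcon
  exact one_ne_zero (hh.cor_cancel (F := F) hr (a := 1) (b := 0) fun i hi => by simp [hcon i hi])

/-- The coordinate of a unipotent element at a root of minimal height. -/
noncomputable def crd {r : ℕ} (hr : r < D.nroots) (g : GL D.Idx F) : F :=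
  dEnt g (Sum.inl ⟨(exists_cor_ne (F := F) hh hr).choose, (exists_cor_ne (F := F) hh hr).choose_spec.1⟩)
      (Sum.inr ⟨ng D r, Checked.ng_lt hr⟩) / (cor D C (exists_cor_ne (F := F) hh hr).choose r : F)

theorem hlev_crd {r : ℕ} (hr : r < D.nroots) (i : Fin D.rank) :
    hlev D C (Sum.inl i) = hlev D C (Sum.inr ⟨ng D r, Checked.ng_lt hr⟩) + ht D C r := by
  simp [hlev, wgt, hh.toChecked.isAdd_ht.map_ng r hr]

theorem crd_mul {k : ℤ} (hk : 0 ≤ k) {r : ℕ} (hr : r < D.nroots) (hlt : ht D C r < k + k) {g g' : GL D.Idx F}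
    (hg : g ∈ rootGen D F (htSet D C k)) (hg' : g' ∈ rootGen D F (htSet D C k)) :
    crd hh hr (g * g') = crd hh hr g + crd hh hr g' := by
  simp only [crd]
  rw [dEnt_mul hh.toChecked (raises_htGen hh.toChecked hk hg).1 (raises_htGen hh.toChecked hk hg').1
    (by rw [hlev_crd hh hr]; omega), add_div]

theorem crd_one {r : ℕ} (hr : r < D.nroots) : crd hh hr (1 : GL D.Idx F) = 0 := by
  simp [crd, dEnt]

theorem crd_inv {k : ℤ} (hk : 0 ≤ k) {r : ℕ} (hr : r < D.nroots) (hlt : ht D C r < k + k) {g : GL D.Idx F}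
    (hg : g ∈ rootGen D F (htSet D C k)) : crd hh hr g⁻¹ = - crd hh hr g := by
  have := crd_mul hh hk hr hlt hg (inv_mem hg)
  rw [mul_inv_cancel, crd_one hh hr] at this
  linear_combination -this

theorem crd_eq_zero {k : ℤ} (hk : 0 ≤ k) {r : ℕ} (hr : r < D.nroots) (hlt : ht D C r < k) {g : GL D.Idx F}
    (hg : g ∈ rootGen D F (htSet D C k)) : crd hh hr g = 0 := by
  simp only [crd]
  rw [dEnt_eq_zero hh.toChecked (raises_htGen hh.toChecked hk hg).1 (by rw [hlev_crd hh hr]; omega), zero_div]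

theorem crd_conj {k : ℤ} (hk : 0 ≤ k) {r : ℕ} (hr : r < D.nroots) (hlt : ht D C r ≤ k) {a g : GL D.Idx F}
    (ha : a ∈ D.posUnipotent F) (hg : g ∈ rootGen D F (htSet D C k)) :
    crd hh hr (a * g * a⁻¹) = crd hh hr g := by
  simp only [crd]
  rw [(raises_conj hh.toChecked hk (by rwa [htSet_one hh.toChecked, ← hh.toChecked.posUnipotent_eq])
    (raises_htGen hh.toChecked hk hg).1).2 _ _ (by rw [hlev_crd hh hr]; omega)]

theorem crd_x {r s : ℕ} (hr : r < D.nroots) (hrp : r ∈ posSet D) (hs : s ∈ posSet D) (hle : ht D C r ≤ ht D C s) (t : F) :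
    crd hh hr (xGL hh.toChecked F hs.2 t) = if s = r then t else 0 := by
  have h := hh.toChecked
  obtain ⟨hi, hne⟩ := (exists_cor_ne (F := F) hh hr).choose_spec
  simp only [crd, dEnt, coe_xGL, Matrix.sub_apply, ne_eq, reduceCtorEq, not_false_eq_true, Matrix.one_apply_ne,
    sub_zero]
  set i := (exists_cor_ne (F := F) hh hr).choose
  split_ifs with e
  · subst e
    have hneg : D.negIdx.getD s 0 = ng D s := h.neg_eq hr
    rw [ChevalleyDatum.x, dif_pos hr]
    simp only [ChevalleyDatum.xMat, Matrix.of_apply, hneg, Fin.ext_iff]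
    rw [if_neg (h.ng_ne hr)]
    simp only [if_true]
    rw [h.coroot_getD hi hr, mul_div_cancel_left₀ _ hne]
  · rw [div_eq_zero_iff]
    left
    by_contra hx
    rcases h.x_entry hs.2 t hx with e' | ⟨j, hj, hφ⟩
    · exact absurd e' (by simp)
    have e1 := hφ _ h.isAdd_ht
    have e2 := hφ _ h.isAdd_cd
    simp only [wgt, h.isAdd_ht.map_ng r hr, h.isAdd_cd.map_ng r hr] at e1 e2
    have h0 := h.ht_pos hs.2 hs.1
    have hj1 : (j : ℤ) = 1 := by
      have : (1 : ℤ) ≤ j := by exact_mod_cast hj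
      nlinarith
    rw [hj1, one_mul] at e2
    rcases lt_trichotomy r s with hl | hl | hl
    · have := (h.lt_iff_cd_lt hr hs.2).1 hl; omega
    · exact e hl.symm
    · have := (h.lt_iff_cd_lt hs.2 hr).1 hl; omega

theorem crd_word {k : ℤ} (hk : 0 ≤ k) {r : ℕ} (hr : r < D.nroots) (hrp : r ∈ posSet D) (hrk : ht D C r ≤ k)
    (hlt : ht D C r < k + k) : ∀ (w : List (ℕ × F)), (∀ p ∈ w, p.1 ∈ htSet D C k) →
    ∀ g : GL D.Idx F, (g : Matrix D.Idx D.Idx F) = D.wordMat F w →
      crd hh hr g = ((w.filter fun p => Nat.beq p.1 r).map Prod.snd).sum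
  | [], _, g, e => by
    have : g = 1 := Units.ext (by rw [e]; rfl)
    simp [this, crd_one hh hr]
  | p :: w, hw, g, e => by
    have hp := hw p List.mem_cons_self
    obtain ⟨g', hg', e'⟩ := hh.toChecked.exists_wordGL (F := F) (htSet_lt k) w
      fun a ha => hw a (List.mem_cons_of_mem _ ha)
    have eg : g = xGL hh.toChecked F hp.1.2 p.2 * g' := Units.ext (by
      rw [e, Units.val_mul, coe_xGL, e']; rfl)
    rw [eg, crd_mul hh hk hr hlt (mem_rootGen hp (coe_xGL _ _ _)) hg',
      crd_x hh hr hrp hp.1 (le_trans hrk hp.2),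
      crd_word hk hr hrp hrk hlt w (fun a ha => hw a (List.mem_cons_of_mem _ ha)) g' e']
    by_cases e1 : p.1 = r
    · simp [e1]
    · simp [e1]

/-- A word lies in every subgroup containing its letters. -/
theorem mem_of_word (M : Subgroup (GL D.Idx F)) : ∀ (w : List (ℕ × F)),
    (∀ p ∈ w, ∃ hp : p.1 < D.nroots, xGL hh.toChecked F hp p.2 ∈ M) →
    ∀ g : GL D.Idx F, (g : Matrix D.Idx D.Idx F) = D.wordMat F w → g ∈ M
  | [], _, g, e => by
    have : g = 1 := Units.ext (by rw [e]; rfl)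
    exact this ▸ one_mem M
  | a :: w, hw, g, e => by
    obtain ⟨ha, hm⟩ := hw a List.mem_cons_self
    have h1 := mem_of_word M w (fun p hp => hw p (List.mem_cons_of_mem _ hp))
      ((xGL hh.toChecked F ha a.2)⁻¹ * g) (by
        rw [Units.val_mul, e]
        show _ * D.wordMat F (a :: w) = _
        rw [ChevalleyDatum.wordMat, ChevalleyDatum.wordMat, List.map_cons, List.prod_cons, ← coe_xGL hh.toChecked ha,
          ← mul_assoc, Units.inv_mul, one_mul])
    have := mul_mem hm h1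
    rwa [mul_inv_cancel_left] at this

/-- The product of root elements of one height with given coordinates. -/
theorem exists_layer (k : ℤ) (hk : 1 ≤ k) (t : ℕ → F) :
    ∃ v ∈ rootGen D F (htSet D C k), (∀ r, ∀ hr : r ∈ posSet D, ht D C r = k → crd hh hr.2 v = t r) ∧
      ∀ M : Subgroup (GL D.Idx F), (∀ r, ∀ hr : r ∈ posSet D, ht D C r = k →
        xGL hh.toChecked F hr.2 (t r) ∈ M) → v ∈ M := by
  classical
  obtain ⟨v, hv, e⟩ := hh.toChecked.exists_wordGL (F := F) (S := htSet D C k) (htSet_lt k)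
    ((D.posRoots.filter fun r => decide (ht D C r = k)).map fun r => (r, t r)) (by
      intro p hp
      obtain ⟨a, ha, rfl⟩ := List.mem_map.1 hp
      obtain ⟨ha1, ha2⟩ := List.mem_filter.1 ha
      exact ⟨hh.toChecked.mem_posRoots.1 ha1, (of_decide_eq_true ha2).ge⟩)
  refine ⟨v, hv, fun r hr hrk => ?_, fun M hM => mem_of_word hh M _ (fun p hp => ?_) v e⟩
  swap
  · obtain ⟨a, ha, rfl⟩ := List.mem_map.1 hp
    obtain ⟨ha1, ha2⟩ := List.mem_filter.1 ha
    exact ⟨(hh.toChecked.mem_posRoots.1 ha1).2, hM a (hh.toChecked.mem_posRoots.1 ha1) (of_decide_eq_true ha2)⟩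
  rw [crd_word hh (by omega) hr.2 hr hrk.le (by omega) _ (fun p hp => by
    obtain ⟨a, ha, rfl⟩ := List.mem_map.1 hp
    obtain ⟨ha1, ha2⟩ := List.mem_filter.1 ha
    exact ⟨hh.toChecked.mem_posRoots.1 ha1, (of_decide_eq_true ha2).ge⟩) v e, List.filter_map, List.map_map,
    List.filter_filter]
  have : (D.posRoots.filter fun a => ((fun p : ℕ × F => Nat.beq p.1 r) ∘ fun r => (r, t r)) a &&
      decide (ht D C a = k)) = [r] := by
    have h1 : (D.posRoots.filter fun a => a == r) = [r] := by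
      rw [List.filter_beq, List.count_eq_one_of_mem (hh.toChecked.posRoots_pairwise.imp fun h => Nat.ne_of_lt h)
        (hh.toChecked.mem_posRoots.2 hr)]
      rfl
    rw [← h1]
    refine List.filter_congr fun a _ => ?_
    by_cases e : a = r <;> simp [e, hrk, natBeq_eq]
  rw [this]
  simp

/-- An element of the layer with vanishing coordinates lies in the next one. -/
theorem mem_next {k : ℤ} (hk : 1 ≤ k) {g : GL D.Idx F} (hg : g ∈ rootGen D F (htSet D C k))
    (hz : ∀ r, ∀ hr : r ∈ posSet D, ht D C r = k → crd hh hr.2 g = 0) :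
    g ∈ rootGen D F (htSet D C (k + 1)) := by
  classical
  have h := hh.toChecked
  obtain ⟨t, ht', e⟩ := hh.exists_prod_filter (htSet_subset k) (closedSet_htSet h (by omega)) hg
  have key : ∀ r ∈ D.posRoots, decide (r ∈ htSet D C (k + 1)) = false → t r = 0 := by
    intro r hr hf
    have hne : r ∉ htSet D C (k + 1) := of_decide_eq_false hf
    by_cases hS : r ∈ htSet D C k
    · have hrk : ht D C r = k := le_antisymm (Int.lt_add_one_iff.1 (not_le.1 fun a => hne ⟨hS.1, a⟩)) hS.2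
      have h1 := hz r hS.1 hrk
      set L := D.posRoots.filter fun a => decide (a ∈ htSet D C k) with hL
      have e1 : (g : Matrix D.Idx D.Idx F) = D.wordMat F (L.map fun a => (a, t a)) := by
        rw [h.wordMat_filter_eq t _ D.posRoots (fun a ha => (h.mem_posRoots.1 ha).2)
          (fun a _ ha => ht' a (of_decide_eq_false ha)), e]
      rw [crd_word hh (by omega) hS.1.2 hS.1 hrk.le (by omega) _ (fun p hp => by
        obtain ⟨a, ha, rfl⟩ := List.mem_map.1 hp
        exact of_decide_eq_true (List.mem_filter.1 ha).2) g e1, List.filter_map, List.map_map,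
        List.filter_filter] at h1
      have : (D.posRoots.filter fun a => ((fun p : ℕ × F => Nat.beq p.1 r) ∘ fun r => (r, t r)) a &&
          decide (a ∈ htSet D C k)) = [r] := by
        have h2 : (D.posRoots.filter fun a => a == r) = [r] := by
          rw [List.filter_beq, List.count_eq_one_of_mem (h.posRoots_pairwise.imp fun h => Nat.ne_of_lt h) hr]
          rfl
        rw [← h2]
        refine List.filter_congr fun a _ => ?_
        by_cases e : a = r <;> simp [e, hS, natBeq_eq]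
      rw [this] at h1
      simpa using h1
    · exact ht' r hS
  obtain ⟨g', hg', e'⟩ := h.exists_wordGL (F := F) (htSet_lt (k + 1))
    ((D.posRoots.filter fun r => decide (r ∈ htSet D C (k + 1))).map fun r => (r, t r)) (by
      intro p hp
      obtain ⟨a, ha, rfl⟩ := List.mem_map.1 hp
      exact of_decide_eq_true (List.mem_filter.1 ha).2)
  have : g = g' := Units.ext (by
    rw [e', h.wordMat_filter_eq t _ D.posRoots (fun r hr => (h.mem_posRoots.1 hr).2) key, e])
  rwa [this]

/-- A unipotent element raising the height by `k` lies in the layer of height `k`. -/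
theorem mem_htGen_of_raises {g : GL D.Idx F} (hg : g ∈ D.posUnipotent F) : ∀ n : ℕ, 1 ≤ n →
    Raises (hlev D C) (n : ℤ) ((g : Matrix D.Idx D.Idx F) - 1) → g ∈ rootGen D F (htSet D C (n : ℤ)) := by
  intro n hn
  induction n, hn using Nat.le_induction with
  | base =>
    intro _
    rw [Nat.cast_one, htSet_one hh.toChecked, ← hh.toChecked.posUnipotent_eq]
    exact hg
  | succ n hn ih =>
    intro hr
    push_cast at hr ⊢
    refine mem_next hh (by omega) (ih (hr.mono (by omega))) fun r hr' hrn => ?_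
    simp only [crd]
    rw [dEnt_eq_zero hh.toChecked hr (by rw [hlev_crd hh hr'.2]; omega), zero_div]

/-- The coordinates of a commutator with a root element. -/
theorem crd_comm {k : ℤ} (hk : 1 ≤ k) {r s : ℕ} (hr : r ∈ posSet D) (hrk : ht D C r = k) (hs : s ∈ posSet D)
    (hrs : s ≠ r) {c : ℕ × ℤ × ℕ × ℕ} (hc : c ∈ cTerms C r s) (h11 : c.2.2 = (1, 1))
    (huniq : ((cTerms C r s).filter fun d => Nat.beq d.1 c.1) = [c]) (hcp : c.1 < D.nroots)
    {g : GL D.Idx F} (hg : g ∈ rootGen D F (htSet D C k)) :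
    crd hh hcp (g * xGL hh.toChecked F hs.2 1 * g⁻¹ * (xGL hh.toChecked F hs.2 1)⁻¹) =
      (c.2.1 : F) * crd hh hr.2 g := by
  have h := hh.toChecked
  obtain ⟨-, -, -, hφ⟩ := h.cTerms_spec hr.2 hs.2 c hc
  have hcR : c.1 ∈ posSet D := (h.cTerms_pos hr hs hc).1
  have hc1 : c.2.2.1 = 1 := by rw [h11]
  have hc2 : c.2.2.2 = 1 := by rw [h11]
  have hl : (1 : ℤ) ≤ ht D C s := h.ht_pos hs.2 hs.1
  set l := ht D C s with hldef
  set X := xGL hh.toChecked F hs.2 (1 : F) with hX
  have hXmem : X ∈ rootGen D F (htSet D C l) := mem_rootGen ⟨hs, le_rfl⟩ (coe_xGL _ _ _)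
  have hRl : ht D C c.1 = k + l := by rw [hφ _ h.isAdd_ht, hc1, hc2, hrk]; simp [l]
  have hlev' : ∀ i : Fin D.rank, hlev D C (Sum.inl i) <
      hlev D C (Sum.inr ⟨ng D c.1, Checked.ng_lt hcp⟩) + (k + l) + 1 := fun i => by
    rw [hlev_crd hh hcp i, hRl]; omega
  induction hg using Subgroup.closure_induction with
  | mem g hgm =>
    obtain ⟨r', t, hr', e⟩ := hgm
    have eg : g = xGL hh.toChecked F hr'.1.2 t := Units.ext e
    subst eg
    rw [crd_x hh hr.2 hr hr'.1 (hrk.le.trans hr'.2)]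
    by_cases hsr : s = r'
    · subst hsr
      rw [if_neg hrs, mul_zero]
      have : xGL hh.toChecked F hr'.1.2 t * X * (xGL hh.toChecked F hr'.1.2 t)⁻¹ * X⁻¹ = 1 := by
        rw [hX, h.xGL_add, add_comm, ← h.xGL_add, mul_assoc _ (xGL hh.toChecked F hr'.1.2 t), mul_inv_cancel,
          mul_one, mul_inv_cancel]
      rw [this, crd_one hh hcp]
    have hng : s ≠ ng D r' := Checked.ne_ng_of_pos hr'.1 hs h.two_mul_half
    obtain ⟨W, hW, eW⟩ := h.exists_wordGL (F := F) (htSet_lt (k + l)) (D.commWord F r' s t 1) (by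
      intro p hp
      rw [h.commWord_eq hr'.1.2 hs.2] at hp
      obtain ⟨d, hd, rfl⟩ := List.mem_map.1 hp
      obtain ⟨-, hi, hj, hφd⟩ := h.cTerms_spec hr'.1.2 hs.2 d hd
      refine ⟨(h.cTerms_pos hr'.1 hs hd).1, ?_⟩
      rw [hφd _ h.isAdd_ht]
      have h1 : (1 : ℤ) ≤ d.2.2.1 := by exact_mod_cast hi
      have h2 : (1 : ℤ) ≤ d.2.2.2 := by exact_mod_cast hj
      have h3 := hr'.2
      nlinarith)
    have eform : X * xGL hh.toChecked F hr'.1.2 t = xGL hh.toChecked F hr'.1.2 t * X * W := Units.ext (by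
      simp only [Units.val_mul, hX, coe_xGL, eW]
      exact h.commutator_formula hr'.1.2 hs.2 hsr hng t 1)
    have e1 : xGL hh.toChecked F hr'.1.2 t * X * (xGL hh.toChecked F hr'.1.2 t)⁻¹ * X⁻¹ =
        (xGL hh.toChecked F hr'.1.2 t * X) * W⁻¹ * (xGL hh.toChecked F hr'.1.2 t * X)⁻¹ := by
      have : W⁻¹ = (xGL hh.toChecked F hr'.1.2 t)⁻¹ * X⁻¹ * (xGL hh.toChecked F hr'.1.2 t * X) := by
        rw [show W = (xGL hh.toChecked F hr'.1.2 t * X)⁻¹ * (X * xGL hh.toChecked F hr'.1.2 t) by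
          rw [eform]; group]
        group
      rw [this]
      group
    have hmem1 : xGL hh.toChecked F hr'.1.2 t * X ∈ D.posUnipotent F := by
      rw [h.posUnipotent_eq]
      exact mul_mem (mem_rootGen hr'.1 (coe_xGL _ _ _)) (mem_rootGen hs (coe_xGL _ _ _))
    rw [e1, crd_conj hh (k := k + l) (by omega) hcp hRl.le hmem1 (inv_mem hW),
      crd_inv hh (k := k + l) (by omega) hcp (by rw [hRl]; omega) hW,
      crd_word hh (k := k + l) (by omega) hcp hcR hRl.le (by rw [hRl]; omega) _ (fun p hp => by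
        rw [h.commWord_eq hr'.1.2 hs.2] at hp
        obtain ⟨d, hd, rfl⟩ := List.mem_map.1 hp
        obtain ⟨-, hi, hj, hφd⟩ := h.cTerms_spec hr'.1.2 hs.2 d hd
        refine ⟨(h.cTerms_pos hr'.1 hs hd).1, ?_⟩
        rw [hφd _ h.isAdd_ht]
        have h1 : (1 : ℤ) ≤ d.2.2.1 := by exact_mod_cast hi
        have h2 : (1 : ℤ) ≤ d.2.2.2 := by exact_mod_cast hj
        have h3 := hr'.2
        nlinarith) W eW,
      h.commWord_eq hr'.1.2 hs.2, List.filter_map, List.map_map]
    simp only [Function.comp_def]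
    by_cases e2 : r' = r
    · subst e2
      rw [if_pos rfl, huniq]
      simp [hc1, hc2]
    · rw [if_neg e2]
      have : ((cTerms C r' s).filter fun d => Nat.beq d.1 c.1) = [] := by
        rw [List.filter_eq_nil_iff]
        intro d hd hb
        have hb' : d.1 = c.1 := natBeq_iff.1 hb
        obtain ⟨-, hi, hj, hφd⟩ := h.cTerms_spec hr'.1.2 hs.2 d hd
        have a1 := hφd _ h.isAdd_ht
        have a2 := hφd _ h.isAdd_cd
        rw [hb', hφ _ h.isAdd_ht, hc1, hc2, hrk] at a1
        rw [hb', hφ _ h.isAdd_cd, hc1, hc2] at a2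
        simp only [Nat.cast_one, one_mul] at a1 a2
        have i1 : (1 : ℤ) ≤ d.2.2.1 := by exact_mod_cast hi
        have j1 : (1 : ℤ) ≤ d.2.2.2 := by exact_mod_cast hj
        have hi' : (d.2.2.1 : ℤ) = 1 := by nlinarith [hr'.2]
        have hj' : (d.2.2.2 : ℤ) = 1 := by nlinarith [hr'.2]
        rw [hi', hj', one_mul, one_mul] at a2
        rcases lt_trichotomy r r' with hl' | hl' | hl'
        · have := (h.lt_iff_cd_lt hr.2 hr'.1.2).1 hl'; omega
        · exact e2 hl'.symm
        · have := (h.lt_iff_cd_lt hr'.1.2 hr.2).1 hl'; omega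
      rw [this]
      simp
  | one =>
    rw [one_mul, inv_one, mul_one, mul_inv_cancel, crd_one hh hcp, crd_one hh hr.2, mul_zero]
  | mul a b ha hb iha ihb =>
    rw [crd_mul hh (by omega) hr.2 (by omega) ha hb, mul_add, ← iha, ← ihb]
    simp only [crd]
    rw [dEnt_comm_mul h hk hl ha hb hXmem (hlev' _), add_div]
  | inv a ha iha =>
    rw [crd_inv hh (by omega) hr.2 (by omega) ha, mul_neg, ← iha]
    have := dEnt_comm_mul h hk hl ha (inv_mem ha) hXmem (hlev' ⟨_, (exists_cor_ne (F := F) hh hcp).choose_spec.1⟩)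
    rw [mul_inv_cancel, one_mul, inv_one, mul_one, mul_inv_cancel] at this
    simp only [crd]
    have h0 : dEnt (1 : GL D.Idx F) (Sum.inl ⟨_, (exists_cor_ne (F := F) hh hcp).choose_spec.1⟩)
        (Sum.inr ⟨ng D c.1, Checked.ng_lt hcp⟩) = 0 := by simp [dEnt]
    rw [h0] at this
    rw [← neg_div]
    congr 1
    linear_combination -this

end

end Cfsg.Agent.Lib.ChevSubfield
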