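import Cfsg.Agent.Lib.ChevSubfield.Parabolic

/-!
Characteristic two: strong embedding leaves only one class of involutions.
-/

set_option autoImplicit false

namespace Cfsg.Agent.Lib.ChevSubfield

open Cfsg.Lie Cfsg.Agent.Lib.Chev Cfsg.Agent.Lib.ChevField

/-- Two involutions are conjugate or commute with a common involution. -/
theorem involutions_dichotomy {G : Type*} [Group G] [Finite G] {i j : G} (hi : i * i = 1) (hj : j * j = 1) :
    (∃ n : ℕ, (i * j) ^ n * i * ((i * j) ^ n)⁻¹ = j) ∨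
      ∃ n : ℕ, (i * j) ^ n ≠ 1 ∧ (i * j) ^ n * (i * j) ^ n = 1 ∧ (i * j) ^ n * i = i * (i * j) ^ n ∧
        (i * j) ^ n * j = j * (i * j) ^ n := by
  set d := i * j with hd
  have hii : i⁻¹ = i := inv_eq_of_mul_eq_one_right hi
  have hjj : j⁻¹ = j := inv_eq_of_mul_eq_one_right hj
  have hdi : ∀ n : ℕ, i * d ^ n = (d ^ n)⁻¹ * i := by
    intro n
    have h1 : i * d * i⁻¹ = d⁻¹ := by
      rw [hd, mul_inv_rev, hii, hjj, ← mul_assoc, hi, one_mul]
    have h2 : (i * d * i⁻¹) ^ n = (d ^ n)⁻¹ := by rw [h1, inv_pow]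
    rw [conj_pow] at h2
    rw [← h2, inv_mul_cancel_right]
  rcases Nat.even_or_odd (orderOf d) with ⟨m, hm⟩ | ⟨m, hm⟩
  · right
    have hpos : 0 < orderOf d := orderOf_pos d
    have hinv : (d ^ m)⁻¹ = d ^ m := inv_eq_of_mul_eq_one_right (by rw [← pow_add, ← hm, pow_orderOf_eq_one])
    refine ⟨m, pow_ne_one_of_lt_orderOf (by omega) (by omega), by rw [← pow_add, ← hm, pow_orderOf_eq_one], ?_, ?_⟩
    · rw [hdi m, hinv]
    · have ej : j = i * d := by rw [hd, ← mul_assoc, hi, one_mul]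
      calc d ^ m * j = d ^ m * i * d := by rw [ej, mul_assoc]
        _ = i * d ^ m * d := by rw [hdi m, hinv]
        _ = i * d * d ^ m := by rw [mul_assoc, ← pow_succ, pow_succ', ← mul_assoc]
        _ = j * d ^ m := by rw [ej]
  · left
    refine ⟨m, ?_⟩
    have h1 : d ^ m * d ^ m = d⁻¹ := by
      refine eq_inv_of_mul_eq_one_left ?_
      rw [← pow_add, ← pow_succ, show m + m + 1 = orderOf d by omega, pow_orderOf_eq_one]
    calc d ^ m * i * (d ^ m)⁻¹ = d ^ m * (i * (d ^ m)⁻¹) := by group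
      _ = d ^ m * (d ^ m * i) := by
          congr 1
          have := hdi m
          calc i * (d ^ m)⁻¹ = i * ((d ^ m)⁻¹ * i) * i⁻¹ := by group
            _ = i * (i * d ^ m) * i⁻¹ := by rw [this]
            _ = d ^ m * i := by rw [← mul_assoc i i, hi, one_mul, hii]
      _ = j := by rw [← mul_assoc, h1, hd, mul_inv_rev, hii, hjj, mul_assoc, hi, mul_one]

variable {D : ChevalleyDatum} {C : Cert} {K : Type*} [Field K]

theorem perm_mem_long {L : ℕ → Bool} (h : Checked D C)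
    (hinv : ∀ i < D.rank, ∀ s < D.nroots, L s = true → L (refl C i s) = true) :
    ∀ {W : List ℕ}, IsWord D W → ∀ {s : ℕ}, s < D.nroots → L s = true → L (perm C W s) = true
  | [], _, s, _, hs => hs
  | i :: W, hW, s, hlt, hs => by
    rw [perm_cons]
    exact hinv i hW.cons.1 _ (h.perm_lt hW.cons.2 hlt) (perm_mem_long h hinv hW.cons.2 hlt hs)

namespace Ctx

variable (X : Ctx D C K)
include X

theorem even_contra [Fintype K] [CharP K 2] {L : ℕ → Bool}
    (hinv : ∀ i < D.rank, ∀ s < D.nroots, L s = true → L (refl C i s) = true) (htopL : L (top D) = true)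
    {w : ℕ × ℕ} (hw : chkTwoClass D C L w = true) : X.H ≤ ratGroup D X.S := by
  classical
  by_contra hne
  haveI : Finite (GL D.Idx K) := inferInstance
  have hc := X.hh.toChecked
  have h20 : (2 : K) = 0 := CharP.cast_eq_zero K 2
  have hx : X.xA (1 : K) ∈ ratGroup D X.S := X.xA_mem_rat (one_mem _)
  have hsq : ∀ {r : ℕ} (hr : r < D.nroots) (t : K),
      xGL X.hh.toChecked K hr t * xGL X.hh.toChecked K hr t = 1 := fun hr t => by
    rw [hc.xGL_add hr]
    refine Units.ext ?_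
    rw [coe_xGL, show t + t = 0 by linear_combination t * h20, hc.x_zero hr]; rfl
  obtain ⟨h, hhH, hhM⟩ := Set.not_subset.1 (fun hs => hne hs)
  set y := h * X.xA (1 : K) * h⁻¹
  have hyH : y ∈ X.H := mul_mem (mul_mem hhH (X.hMH hx)) (inv_mem hhH)
  have hyM : y ∉ ratGroup D X.S := fun e => hhM (X.conj_top_rat hhH one_ne_zero (one_mem _) e)
  have hy2 : y * y = 1 := by
    simp only [y, Ctx.xA]
    rw [conj_mul, hsq, mul_one, mul_inv_cancel]
  -- every rational involution is conjugate to a highest root element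
  have hall : ∀ z ∈ ratGroup D X.S, z ≠ 1 → z * z = 1 →
      ∃ g ∈ D.group K, g * X.xA (1 : K) * g⁻¹ = z := by
    intro z hz hz1 hz2
    rcases involutions_dichotomy hz2 hy2 with ⟨n, hn⟩ | ⟨n, hne1, hsq', hcz, hcy⟩
    · have hdG : (z * y) ^ n ∈ D.group K := pow_mem (mul_mem (ratGroup_le _ hz) (X.hHG hyH)) n
      refine ⟨((z * y) ^ n)⁻¹ * h, mul_mem (inv_mem hdG) (X.hHG hhH), ?_⟩
      calc _ = ((z * y) ^ n)⁻¹ * y * (z * y) ^ n := by simp only [y]; group
        _ = ((z * y) ^ n)⁻¹ * ((z * y) ^ n * z * ((z * y) ^ n)⁻¹) * (z * y) ^ n := by rw [hn]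
        _ = z := by group
    · exfalso
      set v := (z * y) ^ n
      have hvH : v ∈ X.H := pow_mem (mul_mem (X.hMH hz) hyH) n
      have hvM : v ∈ ratGroup D X.S := X.centralizer_rat 2 hz (by rw [sq]; exact hz2) hz1 hvH hcz
      exact hyM (X.centralizer_rat 2 hvM (by rw [sq]; exact hsq') hne1 hyH hcy.symm)
  -- coordinates at the fundamental roots of a conjugate of a highest root element
  have hcrd : ∀ g ∈ D.group K, g * X.xA (1 : K) * g⁻¹ ∈ D.posUnipotent K →
      ∃ B, L B = true ∧ ∀ i, ∀ hi : i < D.rank, D.simple i ≠ B →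
        crd X.hh (hc.simple_lt hi) (g * X.xA (1 : K) * g⁻¹) = 0 := by
    intro g hg hgU
    obtain ⟨W, hW, -, b, hb, m, hm, e⟩ := X.exists_conj_form hg one_ne_zero
    set B := perm C W (top D)
    have hB : B < D.nroots := hc.perm_lt hW X.top_lt
    refine ⟨B, perm_mem_long hc hinv hW X.top_lt htopL, fun i hi hiB => ?_⟩
    have hbU : b⁻¹ * (g * X.xA (1 : K) * g⁻¹) * b ∈ D.posUnipotent K := by
      obtain ⟨v, hv, t, ht, rfl⟩ := X.hh.mem_borel_iff.1 hb
      have h1 : v⁻¹ * (g * X.xA (1 : K) * g⁻¹) * v ∈ D.posUnipotent K := mul_mem (mul_mem (inv_mem hv) hgU) hv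
      have h2 := (Subgroup.mem_normalizer_iff.1
        (X.hh.diagonal_le_normalizer_posUnipotent (inv_mem ht)) _).1 h1
      convert h2 using 1
      group
    have hxB : xGL X.hh.toChecked K hB m ∈ D.posUnipotent K := by
      rw [e] at hbU
      convert hbU using 1
      group
    have hBp : B ∈ posSet D := by
      refine ⟨?_, hB⟩
      by_contra hn
      have h1 : xGL X.hh.toChecked K hB m ∈ D.negUnipotent K := by
        rw [hc.negUnipotent_eq]; exact mem_rootGen (not_le.1 hn : B ∈ negSet D) (coe_xGL _ _ _)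
      have h2 := Subgroup.mem_bot.1 (X.hh.borel_inf_negUnipotent.le
        (Subgroup.mem_inf.2 ⟨Subgroup.mem_sup_left hxB, h1⟩))
      exact hm ((hc.x_eq_one_iff hB m).1 (congrArg Units.val h2))
    obtain ⟨v, hv, t, ht, rfl⟩ := X.hh.mem_borel_iff.1 hb
    rw [X.hh.diagonalSubgroup_eq] at ht
    obtain ⟨c, rfl⟩ := ht
    have e' : g * X.xA (1 : K) * g⁻¹ = v * xGL X.hh.toChecked K hB ((torusFun D c B : K) * m) * v⁻¹ := by
      rw [e, ← hc.conj_x hB]
      group
    have hip : D.simple i ∈ posSet D := ⟨hc.sroot_pos hi, hc.simple_lt hi⟩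
    have hmem : xGL X.hh.toChecked K hB ((torusFun D c B : K) * m) ∈ rootGen D K (htSet D C 1) :=
      mem_rootGen (by rw [htSet_one hc]; exact hBp) (coe_xGL _ _ _)
    rw [e', crd_conj X.hh (k := 1) (by omega) (hc.simple_lt hi) (hc.simple_ht hi).le hv hmem,
      crd_x X.hh (hc.simple_lt hi) hip hBp (by
        rw [hc.simple_ht hi]; have := hc.ht_pos hB hBp.1; omega), if_neg (Ne.symm hiB)]
  simp only [chkTwoClass, Bool.and_eq_true, Nat.blt_eq] at hw
  obtain ⟨⟨hw1, hw2⟩, hw3⟩ := hw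
  have hp1 : D.simple w.1 ∈ posSet D := ⟨hc.sroot_pos hw1, hc.simple_lt hw1⟩
  have hp2 : D.simple w.2 ∈ posSet D := ⟨hc.sroot_pos hw2, hc.simple_lt hw2⟩
  set a := xGL X.hh.toChecked K hp1.2 (1 : K)
  set b := xGL X.hh.toChecked K hp2.2 (1 : K)
  have haM : a ∈ ratGroup D X.S := xGL_mem_rat X.hh X.S hp1.2 (one_mem _)
  have haU : a ∈ D.posUnipotent K := by rw [hc.posUnipotent_eq]; exact mem_rootGen hp1 (coe_xGL _ _ _)
  have hbU : b ∈ D.posUnipotent K := by rw [hc.posUnipotent_eq]; exact mem_rootGen hp2 (coe_xGL _ _ _)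
  have hane : a ≠ 1 := fun e => one_ne_zero ((hc.x_eq_one_iff hp1.2 (1 : K)).1 (congrArg Units.val e))
  have hcrd1 : crd X.hh hp1.2 a = 1 := by rw [crd_x X.hh hp1.2 hp1 hp1 le_rfl, if_pos rfl]
  by_cases heq : w.1 = w.2
  · rw [if_pos heq, Bool.not_eq_true'] at hw3
    obtain ⟨g, hg, e⟩ := hall a haM hane (hsq _ _)
    obtain ⟨B, hLB, hB⟩ := hcrd g hg (e.symm ▸ haU)
    have := hB w.1 hw1 (fun e' => by rw [e', hLB] at hw3; exact absurd hw3 (by decide))
    rw [e, hcrd1] at this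
    exact one_ne_zero this
  · rw [if_neg heq, List.isEmpty_iff] at hw3
    have hne12 : D.simple w.1 ≠ D.simple w.2 := fun e => heq (by
      have h1 := (hc.simple_tab hw1 hw1).2.1
      have h2 := (hc.simple_tab hw2 hw1).2.1
      rw [e] at h1
      rw [h1, if_pos rfl] at h2
      by_contra hne'
      simp [heq, Ne.symm heq] at h2)
    have hcrd2 : crd X.hh hp2.2 b = 1 := by rw [crd_x X.hh hp2.2 hp2 hp2 le_rfl, if_pos rfl]
    have ha1 : a ∈ rootGen D K (htSet D C 1) := by rw [htSet_one hc]; exact mem_rootGen hp1 (coe_xGL _ _ _)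
    have hb1 : b ∈ rootGen D K (htSet D C 1) := by rw [htSet_one hc]; exact mem_rootGen hp2 (coe_xGL _ _ _)
    have hz1 : crd X.hh hp1.2 (a * b) = 1 := by
      rw [crd_mul X.hh (k := 1) (by omega) hp1.2 (by rw [hc.simple_ht hw1]; omega) ha1 hb1, hcrd1,
        crd_x X.hh hp1.2 hp1 hp2 (by rw [hc.simple_ht hw1, hc.simple_ht hw2]), if_neg (Ne.symm hne12), add_zero]
    have hz2 : crd X.hh hp2.2 (a * b) = 1 := by
      rw [crd_mul X.hh (k := 1) (by omega) hp2.2 (by rw [hc.simple_ht hw2]; omega) ha1 hb1, hcrd2,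
        crd_x X.hh hp2.2 hp2 hp1 (by rw [hc.simple_ht hw1, hc.simple_ht hw2]), if_neg hne12, zero_add]
    have hcomm : b * a = a * b := commute_of_nil X.hh hp1.2 hp2.2 (Ne.symm hne12)
      (Checked.ne_ng_of_pos hp1 hp2 hc.two_mul_half) hw3 _ _
    have hzz : (a * b) * (a * b) = 1 := by
      rw [← mul_assoc, mul_assoc a, hcomm, ← mul_assoc, hsq, one_mul, hsq]
    have hzne : a * b ≠ 1 := fun e => by
      rw [e, crd_one X.hh hp1.2] at hz1
      exact zero_ne_one hz1
    obtain ⟨g, hg, e⟩ := hall (a * b) (mul_mem haM (xGL_mem_rat X.hh X.S hp2.2 (one_mem _))) hzne hzz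
    obtain ⟨B, -, hB⟩ := hcrd g hg (e.symm ▸ mul_mem haU hbU)
    by_cases hB1 : D.simple w.1 = B
    · have := hB w.2 hw2 (fun e' => hne12 (hB1.trans e'.symm))
      rw [e, hz2] at this
      exact one_ne_zero this
    · have := hB w.1 hw1 hB1
      rw [e, hz1] at this
      exact one_ne_zero this

end Ctx

end Cfsg.Agent.Lib.ChevSubfield
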