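import Cfsg.Agent.Lib.ChevSubfield.Odd

/-!
Maximality of the rational points in the seven exceptional and small-rank families.
-/

set_option autoImplicit false

namespace Cfsg.Agent.Lib.ChevSubfield

open Cfsg.Lie Cfsg.Agent.Lib.Chev Cfsg.Agent.Lib.ChevField

section

variable {K : Type*} [Field K] [Fintype K] (p : ℕ) [hp : Fact p.Prime] [CharP K p]

/-- The fixed field of the `a`th power of Frobenius in an extension of prime degree. -/
theorem exists_subData (a r : ℕ) (ha : 1 ≤ a) (hr : r.Prime) (hK : Fintype.card K = (p ^ a) ^ r) :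
    ∃ S : SubData K, ∀ x, x ∈ S.k ↔ x ^ (p ^ a) = x := by
  classical
  set q := p ^ a
  have hq2 : 2 ≤ q := le_trans hp.out.two_le (Nat.le_self_pow (by omega) p)
  set σ := iterateFrobenius K p a
  set k := σ.eqLocusField (RingHom.id K)
  have hmem : ∀ x, x ∈ k ↔ x ^ q = x := fun x => by
    rw [RingHom.mem_eqLocusField, RingHom.id_apply, iterateFrobenius_def]
  have hker : Nat.card kˣ = Nat.card (powMonoidHom (q - 1) : Kˣ →* Kˣ).ker := by
    refine Nat.card_congr ⟨fun x => ⟨Units.map k.subtype.toMonoidHom x, ?_⟩,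
      fun y => Units.mk0 ⟨(y.1 : K), (hmem _).2 ?_⟩ (fun e => y.1.ne_zero (congrArg Subtype.val e)),
      fun x => Units.ext (Subtype.ext rfl), fun y => Subtype.ext (Units.ext rfl)⟩
    · rw [MonoidHom.mem_ker, powMonoidHom_apply]
      refine Units.ext ?_
      have h1 := (hmem _).1 (x : k).2
      have h0 : ((x : k) : K) ≠ 0 := fun e => x.ne_zero (Subtype.ext e)
      rw [show q = q - 1 + 1 by omega, pow_succ] at h1
      simpa using mul_eq_right₀ h0 |>.1 h1
    · have h1 := congrArg Units.val (MonoidHom.mem_ker.1 y.2)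
      simp only [powMonoidHom_apply, Units.val_pow_eq_pow_val, Units.val_one] at h1
      calc ((y.1 : Kˣ) : K) ^ q = ((y.1 : Kˣ) : K) ^ (q - 1) * ((y.1 : Kˣ) : K) := by
            rw [← pow_succ]; congr 1; omega
        _ = _ := by rw [h1, one_mul]
  have hcard : Nat.card k = q := by
    have h1 : (q - 1).gcd (q ^ r - 1) = q - 1 :=
      Nat.gcd_eq_left (Nat.sub_one_dvd_pow_sub_one q r)
    rw [IsCyclic.card_powMonoidHom_ker, Nat.card_units, Nat.card_units, Nat.card_eq_fintype_card (α := K), hK,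
      Nat.gcd_comm, h1] at hker
    omega
  haveI : Module.Finite k K := Module.Finite.of_finite
  have hdim : Module.finrank k K = r := by
    have h := Module.natCard_eq_pow_finrank (K := k) (V := K)
    rw [Nat.card_eq_fintype_card, hK, hcard] at h
    exact (Nat.pow_right_injective hq2 h).symm
  refine ⟨⟨k, σ, fun x => Iff.rfl, fun e => ?_, fun L hL => ?_⟩, hmem⟩
  · have h1 : Nat.card k = Nat.card K := by rw [e]; exact Nat.card_congr Subfield.topEquiv.toEquiv
    rw [hcard, Nat.card_eq_fintype_card, hK] at h1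
    have := Nat.pow_lt_pow_right (show 1 < q by omega) hr.one_lt
    rw [pow_one] at this
    omega
  · let A : Subalgebra k K := { L.toSubring.toSubsemiring with algebraMap_mem' := fun b => hL b.2 }
    rcases (Subalgebra.isSimpleOrder_of_finrank_prime k K (hdim ▸ hr)).eq_bot_or_eq_top A with e | e
    · refine Or.inl (le_antisymm (fun x hx => ?_) hL)
      have hxA : x ∈ (⊥ : Subalgebra k K) := e ▸ (hx : x ∈ A)
      obtain ⟨b, hb⟩ := Algebra.mem_bot.mp hxA
      exact hb ▸ b.2
    · exact Or.inr (top_le_iff.mp fun x _ => (e ▸ Algebra.mem_top : x ∈ A))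

end

/-- The characteristic as seen by the tables. -/
def repChar (p : ℕ) : ℕ := if p = 2 then 2 else if p = 3 then 3 else 5

section

variable {D : ChevalleyDatum} {C : Cert} {K : Type*} [Field K] (hh : Rooted D C) (p : ℕ) [hp : Fact p.Prime]
  [CharP K p]

theorem okM_ne {M : ℤ} (h : okM (repChar p) M = true) : (M : K) ≠ 0 := by
  intro h0
  have hd : (p : ℤ) ∣ M := (CharP.intCast_eq_zero_iff K p M).1 h0
  unfold okM repChar at h
  by_cases h2 : p = 2
  · subst h2; simp at h; omega
  by_cases h3 : p = 3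
  · subst h3; simp at h; omega
  simp [h2, h3] at h
  have hn := Int.natCast_dvd.1 hd
  have := Nat.le_of_dvd (Int.natAbs_pos.2 h.1) hn
  have := hp.out.two_le
  have : p ≠ 4 := fun e => absurd (e ▸ hp.out) (by decide)
  omega

include hh

theorem isVisible_of_chk {Z : List ℕ} (hV : chkVisible D C (repChar p) Z = true) : IsVisible D C K Z := by
  intro r hr hrZ
  have h := hh.toChecked
  obtain ⟨hr1, hr2⟩ := hr
  have hn := h.two_mul_half
  simp only [chkVisible, allN_iff] at hV
  have h1 := hV (r - D.nroots / 2) (by omega)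
  rw [show D.nroots / 2 + (r - D.nroots / 2) = r by omega] at h1
  simp only [Bool.or_eq_true, List.contains_iff_mem, hrZ, false_or, List.any_eq_true, List.mem_range,
    Bool.and_eq_true, Bool.not_eq_true', natBeq_eq, decide_eq_false_iff_not, decide_eq_true_eq] at h1
  obtain ⟨s, hs, hne, c, hc, ⟨h11, hM⟩, hu⟩ := h1
  refine ⟨D.nroots / 2 + s, ⟨by omega, by omega⟩, by omega, c, hc, h11, okM_ne p hM, ?_⟩
  simpa only [natBeq_eq] using hu

theorem isCentral_of_chk {p' : ℕ} (hp' : p' = p) {Z : List ℕ} (hC : chkCentral D C p' Z = true) :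
    IsCentralSet D C K Z := by
  subst hp'
  obtain ⟨h1, h2⟩ := chkCentral_facts hh hC
  exact fun z hz => ⟨h1 z hz, fun s hs c hc => (CharP.intCast_eq_zero_iff K p' _).2 (h2 z hz s hs c hc)⟩

omit hp [CharP K p] in
theorem isCentral_top (hT : chkTopRoot D C = true) : IsCentralSet D C K [top D] := by
  intro z hz
  rw [List.mem_singleton] at hz
  subst hz
  refine ⟨(topRoot_facts hh hT).1, fun s hs c hc => ?_⟩
  rw [((topRoot_facts hh hT).2.2.2.1 s hs).1] at hc
  simp at hc

omit hh in
theorem long_inv {Lg : ℕ → Bool} (hlong : chkLong D C Lg = true) :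
    (∀ i < D.rank, ∀ s < D.nroots, Lg s = true → Lg (refl C i s) = true) ∧ Lg (top D) = true := by
  simp only [chkLong, Bool.and_eq_true, allN_iff] at hlong
  refine ⟨fun i hi s hs e => ?_, hlong.1.1⟩
  have := hlong.1.2 i hi s hs
  rw [e] at this
  simpa using this

variable [Fintype K] {S : SubData K} {H : Subgroup (GL D.Idx K)}

/-- The general step: rational central elements or everything. -/
theorem max_step (hT : chkTopRoot D C = true) (hsig : Twisted.chkEtaSigns D C = true)
    (hMH : ratGroup D S ≤ H) (hHG : H ≤ D.group K) {Z : List ℕ} (hC : IsCentralSet D C K Z)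
    (hV : IsVisible D C K Z) {p' : ℕ} (hp' : p' = 1 ∨ p' = p) (hsp : chkSpread D C p' Z = true)
    (hcen : (∀ z ∈ Z, ∀ hz : z < D.nroots, ∀ t, xGL hh.toChecked K hz t ∈ H → t ∈ S.k) →
      ∀ v ∈ zGroup D K Z, v ∈ H → v ∈ ratGroup D S)
    (hfin : ∀ X : Ctx D C K, X.H ≤ ratGroup D X.S) :
    H = ratGroup D S ∨ H = D.group K := by
  by_cases hno : ∀ z ∈ Z, ∀ hz : z < D.nroots, ∀ t, xGL hh.toChecked K hz t ∈ H → t ∈ S.k
  · exact Or.inl (le_antisymm (hfin ⟨hh, hT, S, H, hMH, hHG, unipotent_rat hh hMH hT hC hV (hcen hno)⟩) hMH)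
  push Not at hno
  obtain ⟨z, hz, hzn, t, htH, ht⟩ := hno
  refine Or.inr (eq_group_of_root hh hMH p (p' := p') (fun m hm => ?_) hsig hHG hsp hz hzn ht htH)
  rcases hp' with rfl | rfl
  · simp only [okExp, natBeq_eq, Bool.or_eq_true, decide_eq_true_eq] at hm ⊢
    omega
  · exact hm

/-- The general characteristic. -/
theorem max_std (hT : chkTopRoot D C = true) (hsig : Twisted.chkEtaSigns D C = true)
    (hMH : ratGroup D S ≤ H) (hHG : H ≤ D.group K) (hV : chkVisible D C (repChar p) [top D] = true)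
    (hsp : chkSpread D C 1 [top D] = true) (hfin : ∀ X : Ctx D C K, X.H ≤ ratGroup D X.S) :
    H = ratGroup D S ∨ H = D.group K :=
  max_step hh p hT hsig hMH hHG (isCentral_top hh hT) (isVisible_of_chk hh p hV) (Or.inl rfl) hsp
    (fun hno => central_rat_one hh hMH (topRoot_facts hh hT).1.2
      (hno _ (List.mem_singleton_self _) _)) hfin

omit hh in
include p in
/-- No room between the rational points and an element outside. -/
theorem fin_of_data {Lg : ℕ → Bool} (hsig : Twisted.chkEtaSigns D C = true) (hlong : chkLong D C Lg = true)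
    {w : ℕ × ℕ} (hw : chkTwoClass D C Lg w = true) {i : ℕ} (hi : chkLineOne D C i = true)
    (X : Ctx D C K) : X.H ≤ ratGroup D X.S := by
  by_cases h2 : p = 2
  · subst h2
    exact X.even_contra (long_inv hlong).1 (long_inv hlong).2 hw
  · exact X.odd_line p h2 hsig hlong hi

end

theorem visible_G2 : chkVisible chevG2 G2.cert 2 [top chevG2] = true ∧
    chkVisible chevG2 G2.cert 5 [top chevG2] = true ∧ chkVisible chevG2 G2.cert 3 [top chevG2, 9] = true ∧
    chkCentral chevG2 G2.cert 3 [top chevG2, 9] = true ∧ chkSpread chevG2 G2.cert 1 [top chevG2] = true ∧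
    chkSpread chevG2 G2.cert 3 [top chevG2, 9] = true ∧ chkG2Top chevG2 G2.cert = true ∧
    chkTwoClass chevG2 G2.cert (twoLong chevG2) (0, 0) = true ∧ chkLineOne chevG2 G2.cert 1 = true ∧
    1 < chevG2.rank ∧ top chevG2 < chevG2.nroots ∧ 9 < chevG2.nroots ∧
    chevG2.nroots / 2 ≤ 6 ∧ 6 < chevG2.nroots := by decide +kernel

theorem visible_B2 : chkVisible chevB2 B2.cert 3 [top chevB2] = true ∧
    chkVisible chevB2 B2.cert 5 [top chevB2] = true ∧ chkVisible chevB2 B2.cert 2 [top chevB2, 6] = true ∧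
    chkCentral chevB2 B2.cert 2 [top chevB2, 6] = true ∧ chkSpread chevB2 B2.cert 1 [top chevB2] = true ∧
    chkSpread chevB2 B2.cert 2 [top chevB2, 6] = true ∧
    chkShortTop chevB2 B2.cert 6 5 4 [0] [1] = true ∧
    chkTwoClass chevB2 B2.cert (twoLong chevB2) (0, 0) = true ∧
    top chevB2 < chevB2.nroots ∧ 6 < chevB2.nroots := by decide +kernel

theorem visible_F4 : chkVisible chevF4 F4.cert 3 [top chevF4] = true ∧
    chkVisible chevF4 F4.cert 5 [top chevF4] = true ∧ chkVisible chevF4 F4.cert 2 [top chevF4, 44] = true ∧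
    chkCentral chevF4 F4.cert 2 [top chevF4, 44] = true ∧ chkSpread chevF4 F4.cert 1 [top chevF4] = true ∧
    chkSpread chevF4 F4.cert 2 [top chevF4, 44] = true ∧
    chkShortTop chevF4 F4.cert 44 29 41 [3, 2, 1, 2, 3] [0, 1, 2, 1, 0] = true ∧
    chkTwoClass chevF4 F4.cert (twoLong chevF4) (1, 1) = true ∧ chkLineOne chevF4 F4.cert 3 = true ∧
    top chevF4 < chevF4.nroots ∧ 44 < chevF4.nroots := by decide +kernel

theorem visible_D4 : chkVisible chevD4 D4.cert 2 [top chevD4] = true ∧
    chkVisible chevD4 D4.cert 3 [top chevD4] = true ∧ chkVisible chevD4 D4.cert 5 [top chevD4] = true ∧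
    chkSpread chevD4 D4.cert 1 [top chevD4] = true ∧ chkTwoClass chevD4 D4.cert allLong (0, 2) = true ∧
    chkLineOne chevD4 D4.cert 1 = true := by decide +kernel

theorem visible_E6 : chkVisible chevE6 E6.cert 2 [top chevE6] = true ∧
    chkVisible chevE6 E6.cert 3 [top chevE6] = true ∧ chkVisible chevE6 E6.cert 5 [top chevE6] = true ∧
    chkSpread chevE6 E6.cert 1 [top chevE6] = true ∧ chkTwoClass chevE6 E6.cert allLong (0, 1) = true ∧
    chkLineOne chevE6 E6.cert 1 = true := by decide +kernel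

theorem visible_E7 : chkVisible chevE7 E7.cert 2 [top chevE7] = true ∧
    chkVisible chevE7 E7.cert 3 [top chevE7] = true ∧ chkVisible chevE7 E7.cert 5 [top chevE7] = true ∧
    chkSpread chevE7 E7.cert 1 [top chevE7] = true ∧ chkTwoClass chevE7 E7.cert allLong (0, 1) = true ∧
    chkLineOne chevE7 E7.cert 0 = true := by decide +kernel

theorem visible_E8 : chkVisible chevE8 E8.cert 2 [top chevE8] = true ∧
    chkVisible chevE8 E8.cert 3 [top chevE8] = true ∧ chkVisible chevE8 E8.cert 5 [top chevE8] = true ∧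
    chkSpread chevE8 E8.cert 1 [top chevE8] = true ∧ chkTwoClass chevE8 E8.cert allLong (0, 1) = true ∧
    chkLineOne chevE8 E8.cert 7 = true := by decide +kernel

section

variable {K : Type*} [Field K] [Fintype K] (p : ℕ) [Fact p.Prime] [CharP K p] {S : SubData K}

include p

omit [Fintype K] [CharP K p] [Fact p.Prime] in
theorem rep_cases : repChar p = 2 ∧ p = 2 ∨ repChar p = 3 ∧ p = 3 ∨ repChar p = 5 ∧ p ≠ 2 ∧ p ≠ 3 := by
  unfold repChar
  split_ifs with h2 h3
  · exact Or.inl ⟨rfl, h2⟩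
  · exact Or.inr (Or.inl ⟨rfl, h3⟩)
  · exact Or.inr (Or.inr ⟨rfl, h2, h3⟩)

/-- One root length. -/
theorem max_simply {D : ChevalleyDatum} {C : Cert} (hh : Rooted D C) (hT : chkTopRoot D C = true)
    (hsig : Twisted.chkEtaSigns D C = true) (hlong : chkLong D C allLong = true) {w : ℕ × ℕ} {i : ℕ}
    (hd : chkVisible D C 2 [top D] = true ∧ chkVisible D C 3 [top D] = true ∧ chkVisible D C 5 [top D] = true ∧
      chkSpread D C 1 [top D] = true ∧ chkTwoClass D C allLong w = true ∧ chkLineOne D C i = true)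
    {H : Subgroup (GL D.Idx K)} (hMH : ratGroup D S ≤ H) (hHG : H ≤ D.group K) :
    H = ratGroup D S ∨ H = D.group K := by
  obtain ⟨v2, v3, v5, hsp, hw, hi⟩ := hd
  refine max_std hh p hT hsig hMH hHG ?_ hsp (fun X => fin_of_data p hsig hlong hw hi X)
  rcases rep_cases p with ⟨e, -⟩ | ⟨e, -⟩ | ⟨e, -⟩ <;> rw [e] <;> assumption

theorem max_G2 {H : Subgroup (GL chevG2.Idx K)} (hMH : ratGroup chevG2 S ≤ H) (hHG : H ≤ chevG2.group K) :
    H = ratGroup chevG2 S ∨ H = chevG2.group K := by
  obtain ⟨v2, v5, v3, c3, s1, s3, hG, hw, hi, hr, hA, h9, h6, h6'⟩ := visible_G2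
  have hfin := fun X => fin_of_data (K := K) p Twisted.etaSigns_G2 long_G2 hw hi X
  rcases rep_cases p with ⟨e, -⟩ | ⟨e, e'⟩ | ⟨e, -⟩
  · exact max_std (Rooted.mk checked_G2 descent_G2) p topRoot_G2 Twisted.etaSigns_G2 hMH hHG (by rw [e]; exact v2) s1 hfin
  · refine max_step (Rooted.mk checked_G2 descent_G2) p topRoot_G2 Twisted.etaSigns_G2 hMH hHG (isCentral_of_chk (Rooted.mk checked_G2 descent_G2) p e'.symm c3)
      (isVisible_of_chk (Rooted.mk checked_G2 descent_G2) p (by rw [e]; exact v3)) (Or.inr e'.symm) s3 (fun hno => ?_) hfin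
    exact central_rat_g2 (Rooted.mk checked_G2 descent_G2) hMH hG hr hA h9 (isCentral_of_chk (Rooted.mk checked_G2 descent_G2) p e'.symm c3) ⟨h6, h6'⟩
      (hno _ (by simp) _) (hno _ (by simp) _)
  · exact max_std (Rooted.mk checked_G2 descent_G2) p topRoot_G2 Twisted.etaSigns_G2 hMH hHG (by rw [e]; exact v5) s1 hfin

theorem max_B2 {H : Subgroup (GL chevB2.Idx K)} (hMH : ratGroup chevB2 S ≤ H) (hHG : H ≤ chevB2.group K) :
    H = ratGroup chevB2 S ∨ H = chevB2.group K := by
  obtain ⟨v3, v5, v2, c2, s1, s2, hS, hw, hA, h6⟩ := visible_B2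
  have hfin : ∀ X : Ctx chevB2 B2.cert K, X.H ≤ ratGroup chevB2 X.S := by
    intro X
    by_cases h2 : p = 2
    · subst h2
      exact X.even_contra (long_inv long_B2).1 (long_inv long_B2).2 hw
    · exact X.odd_B2 p h2 Twisted.etaSigns_B2
  rcases rep_cases p with ⟨e, e'⟩ | ⟨e, -⟩ | ⟨e, -⟩
  · refine max_step (Rooted.mk checked_B2 descent_B2) p topRoot_B2 Twisted.etaSigns_B2 hMH hHG (isCentral_of_chk (Rooted.mk checked_B2 descent_B2) p e'.symm c2)
      (isVisible_of_chk (Rooted.mk checked_B2 descent_B2) p (by rw [e]; exact v2)) (Or.inr e'.symm) s2 (fun hno => ?_) hfin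
    subst e'
    exact central_rat_two (Rooted.mk checked_B2 descent_B2) hMH hS hA h6 (isCentral_of_chk (Rooted.mk checked_B2 descent_B2) 2 rfl c2) (hno _ (by simp) _)
  · exact max_std (Rooted.mk checked_B2 descent_B2) p topRoot_B2 Twisted.etaSigns_B2 hMH hHG (by rw [e]; exact v3) s1 hfin
  · exact max_std (Rooted.mk checked_B2 descent_B2) p topRoot_B2 Twisted.etaSigns_B2 hMH hHG (by rw [e]; exact v5) s1 hfin

theorem max_F4 {H : Subgroup (GL chevF4.Idx K)} (hMH : ratGroup chevF4 S ≤ H) (hHG : H ≤ chevF4.group K) :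
    H = ratGroup chevF4 S ∨ H = chevF4.group K := by
  obtain ⟨v3, v5, v2, c2, s1, s2, hS, hw, hi, hA, h44⟩ := visible_F4
  have hfin := fun X => fin_of_data (K := K) p Twisted.etaSigns_F4 long_F4 hw hi X
  rcases rep_cases p with ⟨e, e'⟩ | ⟨e, -⟩ | ⟨e, -⟩
  · refine max_step (Rooted.mk checked_F4 descent_F4) p topRoot_F4 Twisted.etaSigns_F4 hMH hHG (isCentral_of_chk (Rooted.mk checked_F4 descent_F4) p e'.symm c2)
      (isVisible_of_chk (Rooted.mk checked_F4 descent_F4) p (by rw [e]; exact v2)) (Or.inr e'.symm) s2 (fun hno => ?_) hfin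
    subst e'
    exact central_rat_two (Rooted.mk checked_F4 descent_F4) hMH hS hA h44 (isCentral_of_chk (Rooted.mk checked_F4 descent_F4) 2 rfl c2) (hno _ (by simp) _)
  · exact max_std (Rooted.mk checked_F4 descent_F4) p topRoot_F4 Twisted.etaSigns_F4 hMH hHG (by rw [e]; exact v3) s1 hfin
  · exact max_std (Rooted.mk checked_F4 descent_F4) p topRoot_F4 Twisted.etaSigns_F4 hMH hHG (by rw [e]; exact v5) s1 hfin

/-- Maximality in all seven cases. -/
theorem subfield_max {D : ChevalleyDatum}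
    (hD : D ∈ [chevG2, chevB2, chevD4, chevF4, chevE6, chevE7, chevE8]) :
    (∃ g ∈ D.group K, g ∉ ratGroup D S) ∧
      ∀ H : Subgroup (GL D.Idx K), ratGroup D S ≤ H → H ≤ D.group K → H = ratGroup D S ∨ H = D.group K := by
  have hne : ∀ {C : Cert}, Rooted D C → chkTopRoot D C = true → ∃ g ∈ D.group K, g ∉ ratGroup D S := by
    intro C hh hT
    obtain ⟨t, ht⟩ : ∃ t, t ∉ S.k := by
      by_contra h
      push Not at h
      exact S.ne_top (eq_top_iff.2 fun x _ => h x)
    exact ⟨_, hh.toChecked.xGL_mem_group (topRoot_facts hh hT).1.2 t, fun h => ht ((xGL_rat_iff hh S _).1 h)⟩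
  simp only [List.mem_cons, List.not_mem_nil, or_false] at hD
  rcases hD with rfl | rfl | rfl | rfl | rfl | rfl | rfl
  · exact ⟨hne (Rooted.mk checked_G2 descent_G2) topRoot_G2, fun H => max_G2 p⟩
  · exact ⟨hne (Rooted.mk checked_B2 descent_B2) topRoot_B2, fun H => max_B2 p⟩
  · exact ⟨hne (Rooted.mk checked_D4 descent_D4) topRoot_D4, fun H => max_simply p (Rooted.mk checked_D4 descent_D4) topRoot_D4 Twisted.etaSigns_D4 long_D4 visible_D4⟩
  · exact ⟨hne (Rooted.mk checked_F4 descent_F4) topRoot_F4, fun H => max_F4 p⟩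
  · exact ⟨hne (Rooted.mk checked_E6 descent_E6) topRoot_E6, fun H => max_simply p (Rooted.mk checked_E6 descent_E6) topRoot_E6 Twisted.etaSigns_E6 long_E6 visible_E6⟩
  · exact ⟨hne (Rooted.mk checked_E7 descent_E7) topRoot_E7, fun H => max_simply p (Rooted.mk checked_E7 descent_E7) topRoot_E7 Twisted.etaSigns_E7 long_E7 visible_E7⟩
  · exact ⟨hne (Rooted.mk checked_E8 descent_E8) topRoot_E8, fun H => max_simply p (Rooted.mk checked_E8 descent_E8) topRoot_E8 Twisted.etaSigns_E8 long_E8 visible_E8⟩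

end

end Cfsg.Agent.Lib.ChevSubfield
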