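import Cfsg.Agent.Lib.ChevSubfield.Even

/-!
Odd characteristic: the entry at the opposite of the highest root leaves no room outside the rational points.
-/

set_option autoImplicit false

namespace Cfsg.Agent.Lib.ChevSubfield

open Cfsg.Lie Cfsg.Agent.Lib.Chev Cfsg.Agent.Lib.ChevField Matrix

/-- In the subfield or a square root of minus one. -/
def Good {K : Type*} [Field K] (S : SubData K) (c : K) : Prop := c ∈ S.k ∨ c * c = -1

section

variable {K : Type*} [Field K]

/-- An affine function on the subfield with good values has a rational root. -/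
theorem affine_good {S : SubData K} (h20 : (2 : K) ≠ 0) {c τ e : K} (hc : c ≠ 0) (he : e = 1 ∨ e = -1)
    (hg : ∀ t ∈ S.k, Good S (c * (τ + e * t))) : τ ∈ S.k := by
  have hek : e ∈ S.k := by rcases he with rfl | rfl <;> simp
  have he0 : e ≠ 0 := by rcases he with rfl | rfl <;> simp
  have h2k : (2 : K) ∈ S.k := by simpa using natCast_mem S.k 2
  have hp := hg 1 (one_mem _)
  have hm := hg (-1) (neg_mem (one_mem _))
  have h0 := hg 0 (zero_mem _)
  rw [mul_zero, add_zero] at h0
  rw [mul_one] at hp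
  rw [mul_neg, mul_one] at hm
  have hck : c ∈ S.k → (∀ d ∈ S.k, c * (τ + d) ∈ S.k → τ ∈ S.k) := fun hck d hd h => by
    have := sub_mem (div_mem h hck) hd
    rwa [mul_div_cancel_left₀ _ hc, add_sub_cancel_right] at this
  have hne : ∀ {x y : K}, x * x = -1 → y * y = -1 → (x - y) * (x + y) = 0 := fun {x y} hx hy => by
    linear_combination hx - hy
  rcases h0 with h0 | h0
  · by_cases hcm : c ∈ S.k
    · exact hck hcm 0 (zero_mem _) (by rwa [add_zero])
    rcases hp with hp | hp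
    · refine absurd ?_ hcm
      have := div_mem (sub_mem hp h0) hek
      rwa [show c * (τ + e) - c * τ = c * e by ring, mul_div_cancel_right₀ _ he0] at this
    rcases hm with hm | hm
    · refine absurd ?_ hcm
      have := div_mem (sub_mem h0 hm) hek
      rwa [show c * τ - c * (τ + -e) = c * e by ring, mul_div_cancel_right₀ _ he0] at this
    rcases mul_eq_zero.1 (hne hp hm) with h | h
    · exact absurd (show 2 * c * e = 0 by linear_combination h) (mul_ne_zero (mul_ne_zero h20 hc) he0)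
    · have : τ = 0 := by
        have : 2 * c * τ = 0 := by linear_combination h
        simpa [h20, hc] using this
      exact this ▸ zero_mem _
  · rcases hp with hp | hp
    · rcases hm with hm | hm
      · have hcm : c ∈ S.k := by
          have := div_mem (sub_mem hp hm) (mul_mem h2k hek)
          rwa [show c * (τ + e) - c * (τ + -e) = c * (2 * e) by ring,
            mul_div_cancel_right₀ _ (mul_ne_zero h20 he0)] at this
        exact hck hcm e hek hp
      · rcases mul_eq_zero.1 (hne hm h0) with h | h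
        · exact absurd (show c * e = 0 by linear_combination -h) (mul_ne_zero hc he0)
        · have : τ = e / 2 := by
            rw [eq_div_iff h20]
            have : c * (τ * 2 - e) = 0 := by linear_combination h
            linear_combination (mul_eq_zero.1 this).resolve_left hc
          exact this ▸ div_mem hek h2k
    · rcases mul_eq_zero.1 (hne hp h0) with h | h
      · exact absurd (show c * e = 0 by linear_combination h) (mul_ne_zero hc he0)
      · have : τ = -e / 2 := by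
          rw [eq_div_iff h20]
          have : c * (τ * 2 + e) = 0 := by linear_combination h
          linear_combination (mul_eq_zero.1 this).resolve_left hc
        exact this ▸ div_mem (neg_mem hek) h2k

/-- Outside the subfield a square root of minus one spans everything with it. -/
theorem exists_coords (S : SubData K) {i : K} (hi : i * i = -1) (hik : i ∉ S.k) (x : K) :
    ∃ a ∈ S.k, ∃ b ∈ S.k, x = a + b * i := by
  let L : Subfield K :=
    { carrier := {x | ∃ a ∈ S.k, ∃ b ∈ S.k, x = a + b * i}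
      mul_mem' := by
        rintro _ _ ⟨a, ha, b, hb, rfl⟩ ⟨a', ha', b', hb', rfl⟩
        exact ⟨a * a' - b * b', sub_mem (mul_mem ha ha') (mul_mem hb hb'), a * b' + b * a',
          add_mem (mul_mem ha hb') (mul_mem hb ha'), by linear_combination b * b' * hi⟩
      one_mem' := ⟨1, one_mem _, 0, zero_mem _, by ring⟩
      add_mem' := by
        rintro _ _ ⟨a, ha, b, hb, rfl⟩ ⟨a', ha', b', hb', rfl⟩
        exact ⟨a + a', add_mem ha ha', b + b', add_mem hb hb', by ring⟩
      zero_mem' := ⟨0, zero_mem _, 0, zero_mem _, by ring⟩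
      neg_mem' := by
        rintro _ ⟨a, ha, b, hb, rfl⟩
        exact ⟨-a, neg_mem ha, -b, neg_mem hb, by ring⟩
      inv_mem' := by
        rintro _ ⟨a, ha, b, hb, rfl⟩
        by_cases hn : a * a + b * b = 0
        · by_cases hb0 : b = 0
          · have : a = 0 := by
              rw [hb0, mul_zero, add_zero] at hn
              exact mul_self_eq_zero.1 hn
            exact ⟨0, zero_mem _, 0, zero_mem _, by simp [this, hb0]⟩
          · exfalso
            apply hik
            have h1 : (i - a / b) * (i + a / b) = 0 := by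
              field_simp
              linear_combination b * b * hi - hn
            rcases mul_eq_zero.1 h1 with h | h
            · rw [sub_eq_zero.1 h]; exact div_mem ha hb
            · rw [eq_neg_of_add_eq_zero_left h]; exact neg_mem (div_mem ha hb)
        · refine ⟨a / (a * a + b * b), div_mem ha (add_mem (mul_mem ha ha) (mul_mem hb hb)),
            -b / (a * a + b * b), div_mem (neg_mem hb) (add_mem (mul_mem ha ha) (mul_mem hb hb)), ?_⟩
          refine inv_eq_of_mul_eq_one_right ?_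
          have hn' : (a + b * i) * (a - b * i) = a * a + b * b := by linear_combination -(b * b) * hi
          calc (a + b * i) * (a / (a * a + b * b) + -b / (a * a + b * b) * i)
              = (a + b * i) * (a - b * i) / (a * a + b * b) := by ring
            _ = 1 := by rw [hn', div_self hn] }
  have hkL : S.k ≤ L := fun a ha => ⟨a, ha, 0, zero_mem _, by ring⟩
  rcases S.max L hkL with e | e
  · exact absurd (e ▸ (⟨0, zero_mem _, 1, one_mem _, by ring⟩ : i ∈ L)) hik
  · exact (e.symm ▸ Subfield.mem_top x : x ∈ L)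

/-- The two quadratic families of type `B₂` have a rational zero. -/
theorem square_good {S : SubData K} (h20 : (2 : K) ≠ 0) {c τ σ : K} (hc : c ≠ 0) (hgc : Good S c)
    (h1 : ∀ t ∈ S.k, c * (τ + t) ^ 2 ≠ 0 ∧ Good S (c * (τ + t) ^ 2))
    (h2 : ∀ t ∈ S.k, ∀ t' ∈ S.k, σ + t' - t * τ ≠ 0) : False := by
  have hτ : τ ∉ S.k := fun h => (h1 (-τ) (neg_mem h)).1 (by ring)
  by_cases hall : c ∈ S.k ∧ ∀ t ∈ S.k, c * (τ + t) ^ 2 ∈ S.k
  · obtain ⟨hcm, hall⟩ := hall
    apply hτ
    have a0 := div_mem (hall 0 (zero_mem _)) hcm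
    have a1 := div_mem (hall 1 (one_mem _)) hcm
    rw [mul_div_cancel_left₀ _ hc] at a0 a1
    have h2k : (2 : K) ∈ S.k := by simpa using natCast_mem S.k 2
    have := div_mem (sub_mem (sub_mem a1 a0) (one_mem _)) h2k
    rwa [show (τ + 1) ^ 2 - (τ + 0) ^ 2 - 1 = τ * 2 by ring, mul_div_cancel_right₀ _ h20] at this
  obtain ⟨i, hi, hik⟩ : ∃ i, i * i = -1 ∧ i ∉ S.k := by
    by_contra hcon
    push Not at hcon
    refine hall ⟨?_, fun t ht => ?_⟩
    · exact hgc.elim id (hcon c)
    · exact (h1 t ht).2.elim id (hcon _)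
  obtain ⟨a, ha, b, hb, eτ⟩ := exists_coords S hi hik τ
  obtain ⟨a', ha', b', hb', eσ⟩ := exists_coords S hi hik σ
  have hb0 : b ≠ 0 := fun e => hτ (by rw [eτ, e, zero_mul, add_zero]; exact ha)
  refine h2 (b' / b) (div_mem hb' hb) (b' / b * a - a') (sub_mem (mul_mem (div_mem hb' hb) ha) ha') ?_
  rw [eτ, eσ]
  field_simp
  ring

end

variable {D : ChevalleyDatum} {C : Cert} {K : Type*} [Field K]

section

variable (hh : Rooted D C)
include hh

theorem nProd_root_inl : ∀ {L : List ℕ}, IsWord D L → ∀ (s : Fin D.nroots) (j : Fin D.rank),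
    (nProd hh.toChecked K L : Matrix D.Idx D.Idx K) (Sum.inr s) (Sum.inl j) = 0
  | [], _, s, j => by simp [nProd]
  | i :: L, hL, s, j => by
    rw [nProd_cons, Units.val_mul, coe_nS hh.toChecked hL.cons.1, Matrix.mul_apply]
    refine Finset.sum_eq_zero fun x _ => ?_
    rcases x with l | r
    · have h1 := congrFun (hh.toChecked.nMat_bv_h (F := K) hL.cons.1 l.2) (Sum.inr s)
      rw [show D.nroots + l.1 = idxCode D (Sum.inl l) from rfl, mulVec_bv] at h1
      dsimp only at h1
      rw [h1]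
      have e1 : ∀ m, s.1 ≠ D.nroots + m := fun m => by omega
      simp [bv, idxCode, e1]
    · rw [nProd_root_inl hL.cons.2 r j, mul_zero]

/-- A row of the Weyl representative. -/
theorem nProd_row {L : List ℕ} (hL : IsWord D L) {r : ℕ} (hr : r < D.nroots) (M : Matrix D.Idx D.Idx K)
    (x : D.Idx) : ((nProd hh.toChecked K L : Matrix D.Idx D.Idx K) * M)
      (Sum.inr ⟨perm C L r, hh.toChecked.perm_lt hL hr⟩) x = (weta C L r : K) * M (Sum.inr ⟨r, hr⟩) x := by
  have hcol : ∀ s : Fin D.nroots, (nProd hh.toChecked K L : Matrix D.Idx D.Idx K)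
      (Sum.inr ⟨perm C L r, hh.toChecked.perm_lt hL hr⟩) (Sum.inr s) =
      if s.1 = r then (weta C L r : K) else 0 := by
    intro s
    have h1 := congrFun (hh.toChecked.nProd_bv (F := K) hL s.2)
      (Sum.inr ⟨perm C L r, hh.toChecked.perm_lt hL hr⟩)
    rw [show s.1 = idxCode D (Sum.inr s) from rfl, mulVec_bv] at h1
    dsimp only at h1
    rw [h1]
    by_cases e : s.1 = r
    · simp [bv, idxCode, e]
    · have : perm C L r ≠ perm C L s.1 := fun e' => e (hh.toChecked.perm_inj hL hr s.2 e').symm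
      simp [bv, idxCode, e, this]
  rw [Matrix.mul_apply, Finset.sum_eq_single (Sum.inr ⟨r, hr⟩)]
  · rw [hcol, if_pos rfl]
  · rintro (l | s) - hne
    · rw [nProd_root_inl hh hL, zero_mul]
    · rw [hcol, if_neg (fun e => hne (congrArg Sum.inr (Fin.ext e))), zero_mul]
  · simp

/-- A column of a product with the Weyl representative. -/
theorem mul_nProd_col {L : List ℕ} (hL : IsWord D L) {r : ℕ} (hr : r < D.nroots) (M : Matrix D.Idx D.Idx K)
    (y : D.Idx) : (M * (nProd hh.toChecked K L : Matrix D.Idx D.Idx K)) y (Sum.inr ⟨r, hr⟩) =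
      (weta C L r : K) * M y (Sum.inr ⟨perm C L r, hh.toChecked.perm_lt hL hr⟩) := by
  have e1 : ∀ (N : Matrix D.Idx D.Idx K) {s : ℕ} (hs : s < D.nroots), N y (Sum.inr ⟨s, hs⟩) = (N *ᵥ bv D K s) y :=
    fun N s hs => (congrFun (mulVec_bv N (Sum.inr ⟨s, hs⟩)) y).symm
  refine (e1 _ hr).trans ?_
  rw [← Matrix.mulVec_mulVec, hh.toChecked.nProd_bv hL hr, Matrix.mulVec_smul, Pi.smul_apply, smul_eq_mul]
  exact congrArg ((weta C L r : K) * ·) (e1 M (hh.toChecked.perm_lt hL hr)).symm

theorem xGL_pow {r : ℕ} (hr : r < D.nroots) (t : K) : ∀ n : ℕ,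
    xGL hh.toChecked K hr t ^ n = xGL hh.toChecked K hr ((n : K) * t)
  | 0 => by
    rw [pow_zero, Nat.cast_zero, zero_mul]
    exact Units.ext (by rw [coe_xGL, hh.toChecked.x_zero hr]; rfl)
  | n + 1 => by rw [pow_succ, xGL_pow hr t n, hh.toChecked.xGL_add hr, Nat.cast_succ, add_mul, one_mul]

theorem xGL_pow_char {r : ℕ} (hr : r < D.nroots) (t : K) (p : ℕ) [CharP K p] :
    xGL hh.toChecked K hr t ^ p = 1 := by
  rw [xGL_pow hh hr t p, CharP.cast_eq_zero, zero_mul]
  exact Units.ext (by rw [coe_xGL, hh.toChecked.x_zero hr]; rfl)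

end

namespace Ctx

variable (X : Ctx D C K)
include X

theorem hlev_ge (x : D.Idx) : - ht D C (top D) ≤ hlev D C x := by
  have hc := X.hh.toChecked
  have hmax := (topRoot_facts X.hh X.hT).2.1
  rcases x with l | s
  · have := hc.ht_pos X.top_lt X.top_pos.1
    simp only [hlev, wgt]
    omega
  · have := hmax (ng D s.1) (Checked.ng_lt s.2)
    rw [hc.isAdd_ht.map_ng s.1 s.2] at this
    simp only [hlev, wgt]
    omega

/-- The bottom row of a positive unipotent element. -/
theorem bottom_row {v : GL D.Idx K} (hv : v ∈ D.posUnipotent K) (M : Matrix D.Idx D.Idx K) (x : D.Idx) :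
    ((v : Matrix D.Idx D.Idx K) * M) (Sum.inr ⟨ng D (top D), Checked.ng_lt X.top_lt⟩) x =
      M (Sum.inr ⟨ng D (top D), Checked.ng_lt X.top_lt⟩) x := by
  have hc := X.hh.toChecked
  have hr := (raises_htGen (C := C) hc (k := 1) (by omega)
    (g := v) (by rwa [htSet_one hc, ← hc.posUnipotent_eq])).1
  have h0 : ∀ z, ((v : Matrix D.Idx D.Idx K) - 1) (Sum.inr ⟨ng D (top D), Checked.ng_lt X.top_lt⟩) z = 0 := by
    intro z
    by_contra hne
    have h1 := hr _ z hne
    have h2 := X.hlev_ge z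
    have h3 : hlev D C (Sum.inr ⟨ng D (top D), Checked.ng_lt X.top_lt⟩) = - ht D C (top D) := by
      simp [hlev, wgt, hc.isAdd_ht.map_ng _ X.top_lt]
    omega
  have e : (v : Matrix D.Idx D.Idx K) * M = ((v : Matrix D.Idx D.Idx K) - 1) * M + M := by
    rw [sub_mul, one_mul, sub_add_cancel]
  rw [e, Matrix.add_apply, Matrix.mul_apply, Finset.sum_eq_zero fun z _ => by rw [h0 z, zero_mul], zero_add]

theorem diag_one {u : GL D.Idx K} (hu : u ∈ D.posUnipotent K) (x : D.Idx) :
    (u : Matrix D.Idx D.Idx K) x x = 1 := by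
  have hc := X.hh.toChecked
  have := dEnt_eq_zero (C := C) hc (k := 1)
    (raises_htGen hc (by omega) (g := u) (by rwa [htSet_one hc, ← hc.posUnipotent_eq])).1
    (y := x) (x := x) (by omega)
  rwa [dEnt, Matrix.sub_apply, Matrix.one_apply_eq, sub_eq_zero] at this

/-- Outside the rational points the double coset of `B` reverses the highest root. -/
theorem perm_top_eq [Fintype K] (p : ℕ) [Fact p.Prime] [CharP K p] {Lg : ℕ → Bool} (hlong : chkLong D C Lg = true)
    {h : GL D.Idx K} (hhH : h ∈ X.H) (hhM : h ∉ ratGroup D X.S) {v : GL D.Idx K} (hv : v ∈ D.posUnipotent K)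
    {c : ℕ → Kˣ} {L : List ℕ} (hL : IsWord D L) {u : GL D.Idx K} (hu : u ∈ D.posUnipotent K)
    (e : h = v * torusHom D K c * nProd X.hh.toChecked K L * u) : perm C L (top D) = ng D (top D) := by
  have hc := X.hh.toChecked
  simp only [chkLong, Bool.and_eq_true, allN_iff] at hlong
  obtain ⟨⟨htopL, hinv⟩, hpair⟩ := hlong
  have hinv' : ∀ i < D.rank, ∀ s < D.nroots, Lg s = true → Lg (refl C i s) = true := by
    intro i hi s hs hLs
    have := hinv i hi s hs
    rw [hLs] at this
    simpa using this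
  have hBlt : perm C L (top D) < D.nroots := hc.perm_lt hL X.top_lt
  have hLB := perm_mem_long hc hinv' hL X.top_lt htopL
  set m : K := (torusFun D c (perm C L (top D)) : K) * ((weta C L (top D) : K) * 1)
  have hm : m ≠ 0 := mul_ne_zero (Units.ne_zero _) (by
    rcases weta_cases (C := C) L (top D) with e | e <;> simp [e])
  set xB := xGL hc K hBlt m
  set y := h * X.xA (1 : K) * h⁻¹
  have hy : y = v * xB * v⁻¹ := by
    simp only [y, xB, m, e]
    rw [← hc.conj_x hBlt, ← conj_nProd X.hh hL X.top_lt]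
    calc _ = v * torusHom D K c * nProd hc K L * (u * X.xA 1) * u⁻¹ * (nProd hc K L)⁻¹ *
          (torusHom D K c)⁻¹ * v⁻¹ := by group
      _ = _ := by rw [← X.xA_central hu]; simp only [Ctx.xA]; group
  have hA : X.xA (1 : K) = v * X.xA (1 : K) * v⁻¹ := by rw [← X.xA_central hv, mul_inv_cancel_right]
  have hxM : X.xA (1 : K) ∈ ratGroup D X.S := X.xA_mem_rat (one_mem _)
  have hx1 : X.xA (1 : K) ≠ 1 := fun e1 => one_ne_zero ((hc.x_eq_one_iff X.top_lt (1 : K)).1 (congrArg Units.val e1))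
  have hyH : y ∈ X.H := mul_mem (mul_mem hhH (X.hMH hxM)) (inv_mem hhH)
  have hyM : y ∉ ratGroup D X.S := fun hyM => hhM (X.conj_top_rat hhH one_ne_zero (one_mem _) hyM)
  have hconj : ∀ a b : GL D.Idx K, a * b = b * a → v * a * v⁻¹ * (v * b * v⁻¹) = v * b * v⁻¹ * (v * a * v⁻¹) :=
    fun a b hab => by rw [conj_mul, conj_mul, hab]
  by_contra hne
  have hcomm : xB * X.xA 1 ≠ X.xA 1 * xB := by
    intro hcm
    refine hyM (X.centralizer_rat p hxM (xGL_pow_char X.hh _ _ p) hx1 hyH ?_)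
    rw [hy, hA]
    exact hconj _ _ hcm
  have hBt : perm C L (top D) ≠ top D := by
    intro e1
    refine hcomm ?_
    have : xB = X.xA m := Units.ext (by simp only [xB, Ctx.xA, coe_xGL, e1])
    rw [this, Ctx.xA, Ctx.xA, hc.xGL_add, hc.xGL_add, add_comm]
  have hsp := hpair _ hBlt
  rw [hLB] at hsp
  simp only [Bool.not_true, Bool.false_or, Bool.or_eq_true, natBeq_iff, hBt, hne, false_or] at hsp
  rcases hct : cTerms C (top D) (perm C L (top D)) with _ | ⟨d, _ | ⟨d', rest⟩⟩ <;> rw [hct] at hsp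
  · exact hcomm (commute_of_nil X.hh X.top_lt hBlt hBt hne hct _ _)
  · simp only [Bool.and_eq_true, natBeq_iff, decide_eq_true_eq, List.isEmpty_iff, Bool.not_eq_true',
      Bool.or_eq_false_iff, natBeq_eq, decide_eq_false_iff_not] at hsp
    obtain ⟨⟨⟨⟨⟨hd1, hd2⟩, hd3⟩, hnA⟩, hnB⟩, ⟨⟨hdA, hdA'⟩, hdB⟩, hdB'⟩ := hsp
    have hdlt : d.1 < D.nroots := hc.cTerms_lt X.top_lt hBlt d (by rw [hct]; simp)
    set zc : K := (d.2.1 : K) * (-1 : K) ^ d.2.2.1 * m ^ d.2.2.2
    set z := xGL hc K hdlt zc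
    have hform : xB * X.xA 1 = X.xA 1 * xB * z := by
      refine Units.ext ?_
      simp only [Units.val_mul, xB, z, zc, Ctx.xA, coe_xGL]
      rw [hc.commutator_formula X.top_lt hBlt hBt hne 1 m, hc.commWord_eq X.top_lt hBlt, hct]
      simp [ChevalleyDatum.wordMat]
    have hzc : zc ≠ 0 := by
      refine mul_ne_zero (mul_ne_zero ?_ (pow_ne_zero _ (by simp))) (pow_ne_zero _ hm)
      rcases hd3 with e1 | e1 <;> simp [e1]
    have hzA : z * X.xA 1 = X.xA 1 * z := commute_of_nil X.hh X.top_lt hdlt hdA hdA' hnA _ _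
    have hzB : z * xB = xB * z := commute_of_nil X.hh hBlt hdlt hdB hdB' hnB _ _
    set z' := v * z * v⁻¹
    have hz' : z' = (X.xA 1 * y)⁻¹ * (y * X.xA 1) := by
      rw [hy, hA, conj_mul, conj_mul, hform]
      simp only [z']
      group
    have hz'H : z' ∈ X.H := hz' ▸ mul_mem (inv_mem (mul_mem (X.hMH hxM) hyH)) (mul_mem hyH (X.hMH hxM))
    have hz'M : z' ∈ ratGroup D X.S := X.centralizer_rat p hxM (xGL_pow_char X.hh _ _ p) hx1 hz'H (by
      rw [hA]; exact hconj _ _ hzA)
    have hz'1 : z' ≠ 1 := fun e1 => by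
      rw [conj_eq_one_iff] at e1
      exact hzc ((hc.x_eq_one_iff hdlt zc).1 (congrArg Units.val e1))
    refine hyM (X.centralizer_rat p hz'M ?_ hz'1 hyH ?_)
    · simp only [z', z]
      rw [conj_pow, xGL_pow_char X.hh, mul_one, mul_inv_cancel]
    · rw [hy]; exact (hconj _ _ hzB).symm
  · simp at hsp

/-- The entry at the opposite of the highest root of an element outside the rational points. -/
theorem entry_good [Fintype K] (p : ℕ) [Fact p.Prime] [CharP K p] (hp2 : p ≠ 2)
    (hs : Twisted.chkEtaSigns D C = true) {Lg : ℕ → Bool} (hlong : chkLong D C Lg = true)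
    {h : GL D.Idx K} (hhH : h ∈ X.H) (hhM : h ∉ ratGroup D X.S) :
    ∃ c ≠ (0 : K), Good X.S c ∧ ∃ u ∈ D.posUnipotent K, ∀ g : Matrix D.Idx D.Idx K,
      ((h : Matrix D.Idx D.Idx K) * g) (Sum.inr ⟨ng D (top D), Checked.ng_lt X.top_lt⟩) (Sum.inr ⟨top D, X.top_lt⟩) =
        c * ((u : Matrix D.Idx D.Idx K) * g) (Sum.inr ⟨top D, X.top_lt⟩) (Sum.inr ⟨top D, X.top_lt⟩) := by
  have hc := X.hh.toChecked
  obtain ⟨L, hL, b, hb, u, hu, e⟩ := X.hh.exists_canonical (X.hHG hhH)
  obtain ⟨v, hv, t, ht, rfl⟩ := X.hh.mem_borel_iff.1 hb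
  rw [X.hh.diagonalSubgroup_eq] at ht
  obtain ⟨cc, rfl⟩ := ht
  have huU : u ∈ D.posUnipotent K := by
    rw [hc.posUnipotent_eq]; exact rootGen_mono (hc.invSet_subset L) hu
  have hperm := X.perm_top_eq p hlong hhH hhM hv hL huU e
  set A : D.Idx := Sum.inr ⟨top D, X.top_lt⟩
  set NA : D.Idx := Sum.inr ⟨ng D (top D), Checked.ng_lt X.top_lt⟩
  set η : K := (weta C L (top D) : K)
  set τ : K := (torusFun D cc (ng D (top D)) : K)
  have hentry : ∀ g : Matrix D.Idx D.Idx K, ((h : Matrix D.Idx D.Idx K) * g) NA A =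
      τ * η * ((u : Matrix D.Idx D.Idx K) * g) A A := by
    intro g
    rw [e]
    simp only [Units.val_mul, Matrix.mul_assoc]
    rw [X.bottom_row hv, coe_torusHom, ChevalleyDatum.charDiag, Matrix.diagonal_mul]
    have h1 := nProd_row (K := K) X.hh hL X.top_lt ((u : Matrix D.Idx D.Idx K) * g) A
    simp only [hperm] at h1
    simp only [NA, τ, η, h1, mul_assoc, Sum.elim_inr]
    rfl
  refine ⟨τ * η, mul_ne_zero (Units.ne_zero _) ?_, ?_, u, huU, hentry⟩
  · rcases weta_cases (C := C) L (top D) with e1 | e1 <;> simp [η, e1]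
  -- the pair of root subgroups
  obtain ⟨φ, -, hφ⟩ := X.hh.hasSL2 (F := K) hs (top D) X.top_lt X.top_lt
  set R := Subgroup.comap ((MulAut.conj v).toMonoidHom.comp φ) X.H with hR
  have hup : ∀ a, (MulAut.conj v).toMonoidHom.comp φ (SL2.upper a) = X.xA a := fun a => by
    simp only [MonoidHom.comp_apply, MulEquiv.coe_toMonoidHom, MulAut.conj_apply]
    rw [show φ (SL2.upper a) = xGL hc K X.top_lt a from (hφ a).1]
    show v * X.xA a * v⁻¹ = X.xA a
    rw [← X.xA_central hv, mul_inv_cancel_right]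
  have hlow : ∀ a, (MulAut.conj v).toMonoidHom.comp φ (SL2.lower (a * (τ * η))) = h * X.xA a * h⁻¹ := fun a => by
    simp only [MonoidHom.comp_apply, MulEquiv.coe_toMonoidHom, MulAut.conj_apply]
    rw [show φ (SL2.lower (a * (τ * η))) = xGL hc K (Checked.ng_lt X.top_lt) (a * (τ * η)) from (hφ _).2]
    have h2 : torusHom D K cc * (nProd X.hh.toChecked K L * X.xA a * (nProd X.hh.toChecked K L)⁻¹) *
        (torusHom D K cc)⁻¹ = xGL hc K (Checked.ng_lt X.top_lt) (a * (τ * η)) := by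
      rw [Ctx.xA, conj_nProd X.hh hL X.top_lt, hc.conj_x]
      refine Units.ext ?_
      simp only [coe_xGL, hperm, τ, η]
      congr 1
      ring
    rw [← h2, e]
    calc _ = v * torusHom D K cc * nProd hc K L * X.xA a * (nProd hc K L)⁻¹ * (torusHom D K cc)⁻¹ * v⁻¹ := by
          group
      _ = v * torusHom D K cc * nProd hc K L * (X.xA a * u) * u⁻¹ * (nProd hc K L)⁻¹ *
          (torusHom D K cc)⁻¹ * v⁻¹ := by group
      _ = _ := by rw [X.xA_central huU]; group
  have hgood := mem_or_of_pair (k := X.S.k) p hp2 X.S.max X.S.ne_top (R := R) (c := τ * η)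
    (mul_ne_zero (Units.ne_zero _) (by rcases weta_cases (C := C) L (top D) with e1 | e1 <;> simp [η, e1]))
    (fun a ha => by rw [hR, Subgroup.mem_comap, hup]; exact X.hMH (X.xA_mem_rat ha))
    (fun a ha => by
      rw [hR, Subgroup.mem_comap, hlow]
      exact mul_mem (mul_mem hhH (X.hMH (X.xA_mem_rat ha))) (inv_mem hhH))
    (fun a ha => by
      rw [hR, Subgroup.mem_comap, hup] at ha
      exact (xGL_rat_iff X.hh X.S X.top_lt).1
        (X.hU _ (by rw [hc.posUnipotent_eq]; exact mem_rootGen X.top_pos (coe_xGL _ _ _)) ha))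
  exact hgood.imp id And.right

/-- The values at rational translates. -/
theorem family_good [Fintype K] (p : ℕ) [Fact p.Prime] [CharP K p] (hp2 : p ≠ 2)
    (hs : Twisted.chkEtaSigns D C = true) {Lg : ℕ → Bool} (hlong : chkLong D C Lg = true)
    {h : GL D.Idx K} (hhH : h ∈ X.H) (hhM : h ∉ ratGroup D X.S) :
    ∃ c ≠ (0 : K), Good X.S c ∧ ∃ u ∈ D.posUnipotent K,
      ∀ g ∈ ratGroup D X.S, ∀ L, IsWord D L → ∀ s, ∀ hs : s < D.nroots, perm C L (top D) = s →
        c * ((u * g : GL D.Idx K) : Matrix D.Idx D.Idx K) (Sum.inr ⟨top D, X.top_lt⟩) (Sum.inr ⟨s, hs⟩) ≠ 0 ∧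
        Good X.S (c * ((u * g : GL D.Idx K) : Matrix D.Idx D.Idx K) (Sum.inr ⟨top D, X.top_lt⟩) (Sum.inr ⟨s, hs⟩)) := by
  obtain ⟨c, hc0, hgc, u, hu, hu'⟩ := X.entry_good p hp2 hs hlong hhH hhM
  refine ⟨c, hc0, hgc, u, hu, fun g hg L hL s hs' hperm => ?_⟩
  set g' := g * nProd X.hh.toChecked K L
  have hg' : g' ∈ ratGroup D X.S := mul_mem hg (nProd_mem_rat X.hh X.S hL)
  have hH' : h * g' ∈ X.H := mul_mem hhH (X.hMH hg')
  have hM' : h * g' ∉ ratGroup D X.S := fun hm => hhM (by
    have := mul_mem hm (inv_mem hg')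
    rwa [mul_inv_cancel_right] at this)
  obtain ⟨c', hc0', hgc', u', hu1, hu2⟩ := X.entry_good p hp2 hs hlong hH' hM'
  have h1 := hu' ((g : Matrix D.Idx D.Idx K) * (nProd X.hh.toChecked K L : Matrix D.Idx D.Idx K))
  have h2 := hu2 1
  rw [Matrix.mul_one, Matrix.mul_one, X.diag_one hu1, mul_one] at h2
  simp only [g', Units.val_mul] at h2
  rw [h2, ← Matrix.mul_assoc, ← Units.val_mul, mul_nProd_col X.hh hL X.top_lt] at h1
  subst hperm
  set x := c * ((u * g : GL D.Idx K) : Matrix D.Idx D.Idx K) (Sum.inr ⟨top D, X.top_lt⟩)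
    (Sum.inr ⟨perm C L (top D), hs'⟩)
  have hx : x = c' ∨ x = -c' := by
    rcases weta_cases (C := C) L (top D) with e | e <;> simp only [e, Int.cast_one, Int.cast_neg] at h1
    · exact Or.inl (by simp only [x, h1, one_mul])
    · exact Or.inr (by simp only [x, h1]; ring)
  rcases hx with e | e <;> rw [e]
  · exact ⟨hc0', hgc'⟩
  · refine ⟨neg_ne_zero.2 hc0', hgc'.imp (fun hm => neg_mem hm) fun hm => ?_⟩
    rw [neg_mul_neg, hm]

/-- A fundamental root one step below the highest root rules out odd characteristic. -/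
theorem odd_line [Fintype K] (p : ℕ) [Fact p.Prime] [CharP K p] (hp2 : p ≠ 2)
    (hs : Twisted.chkEtaSigns D C = true) {Lg : ℕ → Bool} (hlong : chkLong D C Lg = true) {i : ℕ}
    (hi : chkLineOne D C i = true) : X.H ≤ ratGroup D X.S := by
  intro h hhH
  by_contra hhM
  have hc := X.hh.toChecked
  have h20 : (2 : K) ≠ 0 := by
    rw [← Nat.cast_two, Ne, CharP.cast_eq_zero_iff K p]
    exact fun hd => hp2 ((Nat.prime_dvd_prime_iff_eq (Fact.out) Nat.prime_two).1 hd)
  simp only [chkLineOne, Bool.and_eq_true, Nat.blt_eq, Bool.not_eq_true', Bool.eq_false_iff, ne_eq, natBeq_iff] at hi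
  obtain ⟨⟨⟨hir, hs1⟩, hs2⟩, hcE⟩ := hi
  obtain ⟨c, hc0, hgc, u, hu, hfam⟩ := X.family_good p hp2 hs hlong hhH hhM
  set s := refl C i (top D)
  have hslt : s < D.nroots := hc.refl_lt hir X.top_lt
  have hwi : IsWord D [i] := by simp [IsWord, hir]
  have hperm : perm C [i] (top D) = s := by simp [perm, s]
  obtain ⟨e, he⟩ : ∃ e, cE C (D.simple i) s = [e] := by
    rcases hl : cE C (D.simple i) s with _ | ⟨e, _ | ⟨_, _⟩⟩ <;> simp [hl] at hcE
    exact ⟨e, rfl⟩
  rw [he] at hcE
  simp only [Bool.and_eq_true, natBeq_iff, decide_eq_true_eq] at hcE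
  obtain ⟨he1, he2⟩ := hcE
  set A : D.Idx := Sum.inr ⟨top D, X.top_lt⟩
  set τ : K := (u : Matrix D.Idx D.Idx K) A (Sum.inr ⟨s, hslt⟩)
  set ε : K := (e.2 : K)
  have hε : ε = 1 ∨ ε = -1 := by rcases he2 with e' | e' <;> simp [ε, e']
  have hval : ∀ t ∈ X.S.k, c * (τ + ε * t) ≠ 0 ∧ Good X.S (c * (τ + ε * t)) := by
    intro t ht
    have h1 := hfam _ (xGL_mem_rat X.hh X.S (hc.simple_lt hir) ht) [i] hwi s hslt hperm
    have key : ((u * xGL hc K (hc.simple_lt hir) t : GL D.Idx K) : Matrix D.Idx D.Idx K) A (Sum.inr ⟨s, hslt⟩) =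
        τ + ε * t := by
      have e2 : ((u * xGL hc K (hc.simple_lt hir) t : GL D.Idx K) : Matrix D.Idx D.Idx K) A (Sum.inr ⟨s, hslt⟩) =
          ((u : Matrix D.Idx D.Idx K) *ᵥ (D.x K (D.simple i) t *ᵥ bv D K s)) A := by
        rw [Matrix.mulVec_mulVec, Units.val_mul, coe_xGL]
        exact (congrFun (mulVec_bv _ (Sum.inr ⟨s, hslt⟩)) A).symm
      rw [e2, hc.x_mulVec_bv (hc.simple_lt hir) (by omega)]
      simp only [Finset.sum_range_succ, Finset.sum_range_zero, zero_add, hc.eCol_gen hslt hs1 hs2, he,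
        List.getElem?_cons_zero, List.getElem?_cons_succ, List.getElem?_nil, Option.toList_some, Option.toList_none,
        evalC_singleton, evalC_nil, smul_zero, add_zero, pow_zero, one_smul, pow_one,
        show eCol D C (D.simple i) s 0 = [(s, 1)] from rfl, Int.cast_one, he1]
      rw [Matrix.mulVec_add, Matrix.mulVec_smul, Matrix.mulVec_smul, Pi.add_apply, Pi.smul_apply, Pi.smul_apply]
      have es : ((u : Matrix D.Idx D.Idx K) *ᵥ bv D K s) A = τ := congrFun (mulVec_bv _ (Sum.inr ⟨s, hslt⟩)) A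
      have eA : ((u : Matrix D.Idx D.Idx K) *ᵥ bv D K (top D)) A = 1 :=
        (congrFun (mulVec_bv _ A) A).trans (X.diag_one hu A)
      simp only [es, eA, smul_eq_mul, ε]
      ring
    rwa [key] at h1
  have hτ := affine_good h20 hc0 hε fun t ht => (hval t ht).2
  have hεk : ε ∈ X.S.k := by rcases hε with e' | e' <;> simp [e']
  refine (hval (-τ / ε) (div_mem (neg_mem hτ) hεk)).1 ?_
  rw [mul_div_cancel₀ _ (by rcases hε with e' | e' <;> simp [e']), add_neg_cancel, mul_zero]

end Ctx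

/-! ### Type `B₂` -/

theorem B2_row_four : ∀ c < 10, ∀ k < 4, k ≠ 0 → ∀ e ∈ eCol chevB2 B2.cert 4 c k, e.1 ≠ 7 := by
  decide +kernel

theorem B2_cols :
    eCol chevB2 B2.cert 5 4 1 = [(6, -1)] ∧ eCol chevB2 B2.cert 5 4 2 = [(7, -1)] ∧
      eCol chevB2 B2.cert 5 4 3 = [] ∧ eCol chevB2 B2.cert 6 4 1 = [] ∧ eCol chevB2 B2.cert 6 4 2 = [] ∧
      eCol chevB2 B2.cert 6 4 3 = [] ∧ eCol chevB2 B2.cert 7 4 1 = [] ∧ eCol chevB2 B2.cert 7 4 2 = [] ∧
      eCol chevB2 B2.cert 7 4 3 = [] ∧ eCol chevB2 B2.cert 6 3 1 = [(5, -1)] ∧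
      eCol chevB2 B2.cert 6 3 2 = [(7, 1)] ∧ eCol chevB2 B2.cert 6 3 3 = [] ∧
      eCol chevB2 B2.cert 7 3 1 = [] ∧ eCol chevB2 B2.cert 7 3 2 = [] ∧ eCol chevB2 B2.cert 7 3 3 = [] ∧
      eCol chevB2 B2.cert 5 3 1 = [] ∧ eCol chevB2 B2.cert 5 3 2 = [] ∧ eCol chevB2 B2.cert 5 3 3 = [] ∧
      eCol chevB2 B2.cert 5 5 1 = [] ∧ eCol chevB2 B2.cert 5 5 2 = [] ∧ eCol chevB2 B2.cert 5 5 3 = [] ∧
      eCol chevB2 B2.cert 5 7 1 = [] ∧ eCol chevB2 B2.cert 5 7 2 = [] ∧ eCol chevB2 B2.cert 5 7 3 = [] := by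
  decide +kernel

theorem B2_terms :
    cTerms B2.cert 4 5 = [(6, 1, 1, 1), (7, -1, 1, 2)] ∧ cTerms B2.cert 5 6 = [(7, 2, 1, 1)] ∧
      cTerms B2.cert 4 6 = [] ∧ cTerms B2.cert 4 7 = [] ∧ cTerms B2.cert 5 7 = [] ∧ cTerms B2.cert 6 7 = [] ∧
      perm B2.cert [0] 7 = 4 ∧ perm B2.cert [1, 0] 7 = 3 ∧ chevB2.posRoots = [4, 5, 6, 7] ∧
      top chevB2 = 7 ∧ chevB2.nroots = 8 ∧ chevB2.rank = 2 := by
  decide +kernel

namespace Ctx

/-- In type `B₂` the two families leave no element outside. -/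
theorem odd_B2 (X : Ctx chevB2 B2.cert K) [Fintype K] (p : ℕ) [Fact p.Prime] [CharP K p] (hp2 : p ≠ 2)
    (hs : Twisted.chkEtaSigns chevB2 B2.cert = true) : X.H ≤ ratGroup chevB2 X.S := by
  intro h hhH
  by_contra hhM
  have hc := X.hh.toChecked
  have h20 : (2 : K) ≠ 0 := by
    rw [← Nat.cast_two, Ne, CharP.cast_eq_zero_iff K p]
    exact fun hd => hp2 ((Nat.prime_dvd_prime_iff_eq (Fact.out) Nat.prime_two).1 hd)
  obtain ⟨t45, t56, t46, t47, t57, t67, hp1, hp10, hpos, htop, hn8, hrk⟩ := B2_terms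
  obtain ⟨a1, a2, a3, b1, b2, b3, c1, c2, c3, d1, d2, d3, f1, f2, f3, g1, g2, g3, i1, i2, i3, j1, j2, j3⟩ := B2_cols
  obtain ⟨c, hc0, hgc, u, hu, hfam⟩ := X.family_good p hp2 hs long_B2 hhH hhM
  have r4 : 4 < chevB2.nroots := by omega
  have r5 : 5 < chevB2.nroots := by omega
  have r6 : 6 < chevB2.nroots := by omega
  have r7 : 7 < chevB2.nroots := by omega
  have r3 : 3 < chevB2.nroots := by omega
  let x4 := fun t : K => xGL hc K r4 t
  let x5 := fun t : K => xGL hc K r5 t
  let x6 := fun t : K => xGL hc K r6 t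
  let x7 := fun t : K => xGL hc K r7 t
  -- the entries of a product in the canonical order
  have hent : ∀ b w q z : K,
      ((x4 b * x5 w * x6 q * x7 z : GL chevB2.Idx K) : Matrix chevB2.Idx chevB2.Idx K)
        (Sum.inr ⟨7, r7⟩) (Sum.inr ⟨4, r4⟩) = -w ^ 2 ∧
      ((x4 b * x5 w * x6 q * x7 z : GL chevB2.Idx K) : Matrix chevB2.Idx chevB2.Idx K)
        (Sum.inr ⟨7, r7⟩) (Sum.inr ⟨3, r3⟩) = q ^ 2 := by
    intro b w q z
    have hrow : ∀ M : Matrix chevB2.Idx chevB2.Idx K, ∀ x, (chevB2.x K 4 b * M) (Sum.inr ⟨7, r7⟩) x =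
        M (Sum.inr ⟨7, r7⟩) x := by
      intro M x
      rw [Matrix.mul_apply, Finset.sum_eq_single (Sum.inr ⟨7, r7⟩)]
      · rw [hc.x_diag r4, one_mul]
      · intro y _ hy
        have h1 := congrFun (hc.x_mulVec_bv (F := K) r4 (idxCode_lt y) b) (Sum.inr ⟨7, r7⟩)
        rw [mulVec_bv] at h1
        dsimp only at h1
        rw [h1, Finset.sum_apply, Finset.sum_eq_zero, zero_mul]
        intro k hk
        simp only [Finset.mem_range] at hk
        rw [Pi.smul_apply]
        suffices evalC chevB2 K (eCol chevB2 B2.cert 4 (idxCode chevB2 y) k) (Sum.inr ⟨7, r7⟩) = 0 by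
          rw [this, smul_zero]
        have hz : ∀ l : List (ℕ × ℤ), (∀ e ∈ l, bv chevB2 K e.1 (Sum.inr ⟨7, r7⟩) = 0) →
            evalC chevB2 K l (Sum.inr ⟨7, r7⟩) = 0 := by
          intro l hl
          induction l with
          | nil => rfl
          | cons e l ih =>
            have : evalC chevB2 K (e :: l) = (e.2 : K) • bv chevB2 K e.1 + evalC chevB2 K l := by simp [evalC]
            rw [this, Pi.add_apply, Pi.smul_apply, hl e List.mem_cons_self, smul_zero,
              ih fun a ha => hl a (List.mem_cons_of_mem _ ha), add_zero]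
        refine hz _ fun e he => ?_
        by_cases hk0 : k = 0
        · subst hk0
          simp only [eCol, List.mem_singleton] at he
          subst he
          have : idxCode chevB2 y ≠ 7 := fun e => hy (idxCode_inj (e.trans rfl))
          exact if_neg (Ne.symm this)
        · have := B2_row_four _ (by have := idxCode_lt y; omega) k hk hk0 e he
          exact if_neg (Ne.symm this)
      · simp
    have e4 : ∀ (M : Matrix chevB2.Idx chevB2.Idx K) {s : ℕ} (hs : s < chevB2.nroots),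
        M (Sum.inr ⟨7, r7⟩) (Sum.inr ⟨s, hs⟩) = (M *ᵥ bv chevB2 K s) (Sum.inr ⟨7, r7⟩) := fun M s hs =>
      (congrFun (mulVec_bv M (Sum.inr ⟨s, hs⟩)) (Sum.inr ⟨7, r7⟩)).symm
    simp only [x4, x5, x6, x7, Units.val_mul, coe_xGL, Matrix.mul_assoc, hrow]
    refine ⟨(e4 _ r4).trans ?_, (e4 _ r3).trans ?_⟩
    all_goals simp only [← Matrix.mulVec_mulVec]
    · simp [hc.x_mulVec_bv r7 (show 4 < chevB2.nroots + chevB2.rank by omega),
        hc.x_mulVec_bv r6 (show 4 < chevB2.nroots + chevB2.rank by omega),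
        hc.x_mulVec_bv r5 (show 4 < chevB2.nroots + chevB2.rank by omega),
        Finset.sum_range_succ, show ∀ r s, eCol chevB2 B2.cert r s 0 = [(s, 1)] from fun _ _ => rfl,
        evalC_singleton, evalC_nil, a1, a2, a3, b1, b2, b3, c1, c2, c3, bv, idxCode]
    · simp [hc.x_mulVec_bv r7 (show 3 < chevB2.nroots + chevB2.rank by omega),
        hc.x_mulVec_bv r6 (show 3 < chevB2.nroots + chevB2.rank by omega),
        Finset.sum_range_succ, show ∀ r s, eCol chevB2 B2.cert r s 0 = [(s, 1)] from fun _ _ => rfl,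
        evalC_singleton, evalC_nil, d1, d2, d3, f1, f2, f3, Matrix.mulVec_add, Matrix.mulVec_smul, Matrix.mulVec_neg,
        hc.x_mulVec_bv r5 (show 3 < chevB2.nroots + chevB2.rank by omega),
        hc.x_mulVec_bv r5 (show 5 < chevB2.nroots + chevB2.rank by omega),
        hc.x_mulVec_bv r5 (show 7 < chevB2.nroots + chevB2.rank by omega),
        g1, g2, g3, i1, i2, i3, j1, j2, j3, bv, idxCode]
  -- the four coordinates
  obtain ⟨f, -, ef⟩ := X.hh.exists_prod_filter (S := posSet chevB2) subset_rfl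
    (fun r hr s hs _ _ d hd => (hc.cTerms_pos hr hs hd).1)
    (show u ∈ rootGen chevB2 K (posSet chevB2) by rwa [← hc.posUnipotent_eq])
  have eu : u = x4 (f 4) * x5 (f 5) * x6 (f 6) * x7 (f 7) := Units.ext (by
    rw [ef, hpos]
    simp [ChevalleyDatum.wordMat, x4, x5, x6, x7, coe_xGL, Matrix.mul_assoc])
  have comm : ∀ {r s : ℕ} (hr : r < chevB2.nroots) (hs : s < chevB2.nroots), 4 ≤ r → 4 ≤ s → r ≠ s →
      cTerms B2.cert r s = [] → ∀ a b : K,
      Commute (xGL hc K hs b) (xGL hc K hr a) := fun {r s} hr hs r0 s0 hne hnil a b =>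
    commute_of_nil X.hh hr hs (Ne.symm hne) (by simp [ng]; omega) hnil a b
  have h56 : ∀ a b : K, x6 b * x5 a = x5 a * x6 b * x7 (2 * -a * b) := fun a b => Units.ext (by
    simp only [Units.val_mul, x5, x6, x7, coe_xGL]
    rw [hc.commutator_formula r5 r6 (by omega) (by simp [ng]; omega) a b, hc.commWord_eq r5 r6, t56]
    simp [ChevalleyDatum.wordMat])
  have h45 : ∀ a b : K, x5 b * x4 a = x4 a * x5 b * (x6 (-a * b) * x7 (-(-a * b ^ 2))) := fun a b => Units.ext (by
    simp only [Units.val_mul, x4, x5, x6, x7, coe_xGL]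
    rw [hc.commutator_formula r4 r5 (by omega) (by simp [ng]; omega) a b, hc.commWord_eq r4 r5, t45]
    simp [ChevalleyDatum.wordMat])
  refine square_good h20 (c := -c) (neg_ne_zero.2 hc0) (hgc.imp (fun hm => neg_mem hm) fun hm => by
    rw [neg_mul_neg, hm]) (τ := f 5) (σ := f 6) (fun t ht => ?_) (fun t ht t' ht' => ?_)
  · have h1 := hfam _ (xGL_mem_rat X.hh X.S r5 ht) [0] (by simp [IsWord, hrk]) 4 r4 (by rw [htop, hp1])
    have e : u * x5 t = x4 (f 4) * x5 (f 5 + t) * x6 (f 6) * x7 (2 * -t * f 6 + f 7) := by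
      rw [eu, mul_assoc _ (x7 (f 7)), (show Commute (x7 (f 7)) (x5 t) from comm r5 r7 (by omega) (by omega)
        (by omega) t57 t (f 7)).eq, ← mul_assoc, mul_assoc _ (x6 (f 6)) (x5 t), h56, ← mul_assoc, ← mul_assoc,
        mul_assoc (x4 (f 4)) (x5 (f 5))]
      simp only [x5, x7, hc.xGL_add]
      rw [mul_assoc _ (xGL hc K r7 (2 * -t * f 6)), hc.xGL_add]
    simp only [htop] at h1
    rw [show u * xGL hc K r5 t = u * x5 t from rfl, e, (hent _ _ _ _).1] at h1
    rwa [neg_mul, ← mul_neg]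
  · intro hzero
    have hg : x4 t * x6 t' ∈ ratGroup chevB2 X.S :=
      mul_mem (xGL_mem_rat X.hh X.S r4 ht) (xGL_mem_rat X.hh X.S r6 ht')
    have h1 := hfam _ hg [1, 0] (by simp [IsWord, hrk]) 3 r3 (by rw [htop, hp10])
    obtain ⟨z, e⟩ : ∃ z, u * (x4 t * x6 t') =
        x4 (f 4 + t) * x5 (f 5) * x6 (-t * f 5 + (f 6 + t')) * x7 z := by
      refine ⟨-(-t * f 5 ^ 2) + f 7, ?_⟩
      have c74 : Commute (x7 (f 7)) (x4 t * x6 t') :=
        (comm r4 r7 (by omega) (by omega) (by omega) t47 t (f 7)).mul_right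
          (comm r6 r7 (by omega) (by omega) (by omega) t67 t' (f 7))
      have c64 : Commute (x6 (f 6)) (x4 t) := comm r4 r6 (by omega) (by omega) (by omega) t46 t (f 6)
      have c76 : ∀ a b, Commute (x7 a) (x6 b) := fun a b => comm r6 r7 (by omega) (by omega) (by omega) t67 b a
      calc u * (x4 t * x6 t') = x4 (f 4) * x5 (f 5) * (x6 (f 6) * (x4 t * x6 t')) * x7 (f 7) := by
            rw [eu, mul_assoc _ (x7 (f 7)), c74.eq]; group
        _ = x4 (f 4) * (x5 (f 5) * x4 t) * (x6 (f 6) * x6 t') * x7 (f 7) := by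
            rw [← mul_assoc (x6 (f 6)), c64.eq]; group
        _ = x4 (f 4) * x4 t * x5 (f 5) * x6 (-t * f 5) * (x7 (-(-t * f 5 ^ 2)) * (x6 (f 6) * x6 t')) * x7 (f 7) := by
            rw [h45]; group
        _ = x4 (f 4) * x4 t * x5 (f 5) * (x6 (-t * f 5) * (x6 (f 6) * x6 t')) *
              (x7 (-(-t * f 5 ^ 2)) * x7 (f 7)) := by
            rw [((c76 _ _).mul_right (c76 _ _)).eq]; group
        _ = _ := by simp only [x4, x6, x7, hc.xGL_add]
    simp only [htop] at h1
    rw [e, (hent _ _ _ _).2] at h1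
    apply h1.1
    rw [show -t * f 5 + (f 6 + t') = 0 by linear_combination hzero]
    ring

end Ctx

end Cfsg.Agent.Lib.ChevSubfield
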