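import Cfsg.Agent.Lib.ChevSubfield.Special

/-!
The parabolic subgroup of the highest root in an overgroup of the rational points: normalisers of rational
`p`-subgroups stay rational.
-/

set_option autoImplicit false

namespace Cfsg.Agent.Lib.ChevSubfield

open Cfsg.Lie Cfsg.Agent.Lib.Chev Cfsg.Agent.Lib.ChevField

/-- An overgroup of the rational points whose unipotent part is rational. -/
structure Ctx (D : ChevalleyDatum) (C : Cert) (K : Type*) [Field K] where
  hh : Rooted D C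
  hT : chkTopRoot D C = true
  /-- the subfield -/
  S : SubData K
  /-- the overgroup -/
  H : Subgroup (GL D.Idx K)
  hMH : ratGroup D S ≤ H
  hHG : H ≤ D.group K
  hU : ∀ u ∈ D.posUnipotent K, u ∈ H → u ∈ ratGroup D S

variable {D : ChevalleyDatum} {C : Cert} {K : Type*} [Field K]

/-- The pairing with the coroot of the highest root. -/
noncomputable def topWt (D : ChevalleyDatum) (r : Fin D.nroots) : ℝ := (D.pairing (top D) r.1 : ℝ)

section

variable (hh : Rooted D C)
include hh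

theorem pairing_perm {L : List ℕ} (hL : IsWord D L) {r s : ℕ} (hr : r < D.nroots) (hs : s < D.nroots) :
    D.pairing (perm C L r) (perm C L s) = D.pairing r s := by
  induction L with
  | nil => rfl
  | cons i L ih =>
    rw [perm_cons, perm_cons, hh.toChecked.pairing_refl hL.cons.1 (hh.toChecked.perm_lt hL.cons.2 hr)
      (hh.toChecked.perm_lt hL.cons.2 hs), ih hL.cons.2]

theorem pairing_expand {a r : ℕ} (ha : a < D.nroots) (hr : r < D.nroots) :
    D.pairing a r = ∑ l ∈ Finset.range D.rank, coef D C l r * D.pairing a (D.simple l) := by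
  have h := hh.toChecked
  rw [h.pairing_eq ha]
  calc ∑ k ∈ Finset.range D.rank, cor D C k a * D.cartan k r
      = ∑ k ∈ Finset.range D.rank, ∑ l ∈ Finset.range D.rank, cor D C k a * (coef D C l r * cm C k l) :=
        Finset.sum_congr rfl fun k hk => by
          rw [h.cartan_eq (Finset.mem_range.1 hk) hr, zsum_eq, Finset.mul_sum]
    _ = ∑ l ∈ Finset.range D.rank, coef D C l r * D.pairing a (D.simple l) := by
        rw [Finset.sum_comm]
        refine Finset.sum_congr rfl fun l hl => ?_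
        rw [h.pairing_eq ha, Finset.mul_sum]
        refine Finset.sum_congr rfl fun k hk => ?_
        rw [h.cm_eq (Finset.mem_range.1 hl) (Finset.mem_range.1 hk)]
        ring

theorem xGL_eq_imp {r s : ℕ} (hr : r < D.nroots) (hs : s < D.nroots) {a b : K} (ha : a ≠ 0)
    (e : xGL hh.toChecked K hr a = xGL hh.toChecked K hs b) : r = s := by
  have h := hh.toChecked
  have em : D.x K r a = D.x K s b := congrArg Units.val e
  have hb : b ≠ 0 := fun hb => ha ((h.x_eq_one_iff hr a).1 (em.trans ((h.x_eq_one_iff hs b).2 hb)))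
  have key : ∀ {r s : ℕ} (hr : r < D.nroots) (hs : s < D.nroots) {a b : K}, a ≠ 0 → D.x K r a = D.x K s b →
      ∃ j : ℕ, 1 ≤ j ∧ cd D C r = (j : ℤ) * cd D C s := by
    intro r s hr hs a b ha em
    obtain ⟨i, hi, hne⟩ := exists_cor_ne (F := K) hh hr
    have hent : D.x K r a (Sum.inl ⟨i, hi⟩) (Sum.inr ⟨ng D r, Checked.ng_lt hr⟩) = (cor D C i r : K) * a := by
      have hneg : D.negIdx.getD r 0 = ng D r := h.neg_eq hr
      rw [ChevalleyDatum.x, dif_pos hr]
      simp only [ChevalleyDatum.xMat, Matrix.of_apply, hneg, Fin.ext_iff]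
      rw [if_neg (h.ng_ne hr)]
      simp only [if_true]
      rw [h.coroot_getD hi hr]
    rw [em] at hent
    have hx : D.x K s b (Sum.inl ⟨i, hi⟩) (Sum.inr ⟨ng D r, Checked.ng_lt hr⟩) ≠ 0 :=
      hent ▸ mul_ne_zero hne ha
    rcases h.x_entry hs b hx with e' | ⟨j, hj, hφ⟩
    · exact absurd e' (by simp)
    have e2 := hφ _ h.isAdd_cd
    simp only [wgt, h.isAdd_cd.map_ng r hr] at e2
    exact ⟨j, hj, by omega⟩
  obtain ⟨j, hj, e1⟩ := key hr hs ha em
  obtain ⟨j', hj', e2⟩ := key hs hr hb em.symm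
  rcases lt_trichotomy r s with hl | hl | hl
  · exfalso
    have hlt := (h.lt_iff_cd_lt hr hs).1 hl
    have h0 := h.cd_ne_zero hs
    have : ((j : ℤ) * j' - 1) * cd D C s = 0 := by linear_combination (-1 : ℤ) * e2 - (j' : ℤ) * e1
    rcases mul_eq_zero.1 this with e3 | e3
    · have : j * j' = 1 := by exact_mod_cast (show ((j : ℤ) * j') = 1 by omega)
      rw [Nat.eq_one_of_mul_eq_one_right this, Nat.cast_one, one_mul] at e1
      omega
    · exact h0 e3
  · exact hl
  · exfalso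
    have hlt := (h.lt_iff_cd_lt hs hr).1 hl
    have h0 := h.cd_ne_zero hs
    have : ((j : ℤ) * j' - 1) * cd D C s = 0 := by linear_combination (-1 : ℤ) * e2 - (j' : ℤ) * e1
    rcases mul_eq_zero.1 this with e3 | e3
    · have : j * j' = 1 := by exact_mod_cast (show ((j : ℤ) * j') = 1 by omega)
      rw [Nat.eq_one_of_mul_eq_one_right this, Nat.cast_one, one_mul] at e1
      omega
    · exact h0 e3

theorem closedSet_outSet {J : Finset ℕ} : ClosedSet D C (outSet D C J) := by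
  have h := hh.toChecked
  intro r hr s hs _ _ c hc
  obtain ⟨hlt, hi, hj, hφ⟩ := h.cTerms_spec hr.1.2 hs.1.2 c hc
  obtain ⟨l, hl, hlJ, hp⟩ := h.exists_coef_pos_of_not_supp hr
  refine h.mem_outSet_of_coef_pos hlt hl hlJ ?_
  rw [hφ _ (h.isAdd_coef hl)]
  have h1 := h.coef_nonneg hl hs.1.2 hs.1.1
  have h2 : (0 : ℤ) < (c.2.2.1 : ℤ) := by exact_mod_cast hi
  positivity

end

namespace Ctx

variable (X : Ctx D C K)
include X

theorem top_pos : top D ∈ posSet D := (topRoot_facts X.hh X.hT).1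

theorem top_lt : top D < D.nroots := X.top_pos.2

/-- The highest root elements. -/
def xA (t : K) : GL D.Idx K := xGL X.hh.toChecked K X.top_lt t

theorem xA_mem_rat {t : K} (ht : t ∈ X.S.k) : X.xA t ∈ ratGroup D X.S := xGL_mem_rat X.hh X.S X.top_lt ht

/-- The type of the parabolic subgroup of the highest root. -/
noncomputable def JA : Finset ℕ := btType X.hh.toChecked (topWt D)

theorem JA_subset : X.JA ⊆ Finset.range D.rank := btType_subset _ _

theorem mem_JA {j : ℕ} (hj : j < D.rank) : j ∈ X.JA ↔ D.pairing (top D) (D.simple j) = 0 := by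
  rw [JA, mem_btType _ hj]
  simp [topWt, Checked.sroot]

theorem topWt_lin : BTLin X.hh.toChecked (topWt D) := by
  intro r
  simp only [topWt]
  rw [pairing_expand X.hh X.top_lt r.2, Finset.sum_range]
  push_cast
  refine Finset.sum_congr rfl fun l _ => ?_
  rfl

theorem topWt_dom : BTDom X.hh.toChecked (topWt D) := fun l => by
  have := ((topRoot_facts X.hh X.hT).2.2.2.2.1 l.1 l.2).1
  show (0 : ℝ) ≤ (D.pairing (top D) (D.simple l.1) : ℝ)
  exact_mod_cast this

theorem mem_out_of_pairing {r : ℕ} (hr : r ∈ posSet D) (hp : 0 < D.pairing (top D) r) :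
    r ∈ outSet D C X.JA := by
  refine ⟨hr, fun hs => ?_⟩
  rw [pairing_expand X.hh X.top_lt hr.2, Finset.sum_eq_zero] at hp
  · exact lt_irrefl _ hp
  intro l hl
  by_cases hlJ : l ∈ X.JA
  · rw [(X.mem_JA (Finset.mem_range.1 hl)).1 hlJ, mul_zero]
  · rw [hs l (Finset.mem_range.1 hl) hlJ, zero_mul]

theorem top_mem_out {J : Finset ℕ} (hJ : ∃ i < D.rank, i ∉ J) : top D ∈ outSet D C J := by
  obtain ⟨i, hi, hiJ⟩ := hJ
  exact X.hh.toChecked.mem_outSet_of_coef_pos X.top_lt hi hiJ ((topRoot_facts X.hh X.hT).2.2.2.2.1 i hi).2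

/-- The highest root commutes with the positive part. -/
theorem xA_central {g : GL D.Idx K} (hg : g ∈ D.posUnipotent K) (t : K) : X.xA t * g = g * X.xA t := by
  refine zGroup_central X.hh (Z := [top D]) (fun z hz => ?_) hg (mem_rootGen (by simp) (coe_xGL _ X.top_lt t))
  rw [List.mem_singleton] at hz
  subst hz
  refine ⟨X.top_pos, fun s hs c hc => ?_⟩
  rw [((topRoot_facts X.hh X.hT).2.2.2.1 s hs).1] at hc
  simp at hc

theorem borel_conj_top {b : GL D.Idx K} (hb : b ∈ D.borelSubgroup K) {l : K} (hl : l ≠ 0) :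
    ∃ m : K, m ≠ 0 ∧ b * X.xA l * b⁻¹ = X.xA m := by
  obtain ⟨u, hu, t, ht, rfl⟩ := X.hh.mem_borel_iff.1 hb
  rw [X.hh.diagonalSubgroup_eq] at ht
  obtain ⟨c, rfl⟩ := ht
  refine ⟨(torusFun D c (top D) : K) * l, mul_ne_zero (Units.ne_zero _) hl, ?_⟩
  rw [mul_inv_rev]
  calc u * torusHom D K c * X.xA l * ((torusHom D K c)⁻¹ * u⁻¹)
      = u * (torusHom D K c * X.xA l * (torusHom D K c)⁻¹) * u⁻¹ := by group
    _ = u * X.xA ((torusFun D c (top D) : K) * l) * u⁻¹ := by rw [xA, X.hh.toChecked.conj_x X.top_lt]; rfl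
    _ = _ := by rw [← X.xA_central hu, mul_inv_cancel_right]

/-- The Bruhat form of a conjugate of a highest root element. -/
theorem exists_conj_form {g : GL D.Idx K} (hg : g ∈ D.group K) {l : K} (hl : l ≠ 0) :
    ∃ L, ∃ hL : IsWord D L, g ∈ bcell X.hh.toChecked K (wperm X.hh.toChecked L) ∧
      ∃ b ∈ D.borelSubgroup K, ∃ m : K, m ≠ 0 ∧ g * X.xA l * g⁻¹ =
        b * xGL X.hh.toChecked K (X.hh.toChecked.perm_lt hL X.top_lt) m * b⁻¹ := by
  obtain ⟨w, hw⟩ := X.hh.exists_bcell hg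
  obtain ⟨L, hL, e⟩ := X.hh.toChecked.exists_word_of_weyl (bcell_mem_weyl hw)
  obtain ⟨b, hb, c, hc, e'⟩ := X.hh.exists_of_mem_bcell hL (e.symm ▸ hw)
  obtain ⟨m, hm, em⟩ := X.borel_conj_top hc hl
  refine ⟨L, hL, e.symm ▸ hw, b, hb, (weta C L (top D) : K) * m, mul_ne_zero ?_ hm, ?_⟩
  · rcases weta_cases (C := C) L (top D) with e1 | e1 <;> simp [e1]
  subst e'
  calc _ = b * (nProd X.hh.toChecked K L * (c * X.xA l * c⁻¹) * (nProd X.hh.toChecked K L)⁻¹) * b⁻¹ := by group
    _ = _ := by rw [em, xA, conj_nProd X.hh hL X.top_lt]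

theorem fix_top {L : List ℕ} (hL : IsWord D L) (e : perm C L (top D) = top D) :
    wperm X.hh.toChecked L ∈ weyl X.hh.toChecked X.JA := by
  refine (X.hh.mem_weyl_btType X.topWt_lin X.topWt_dom _ (X.hh.toChecked.mem_weyl_of_word hL) fun l => ?_).1
  show 0 ≤ topWt D _
  have h1 := X.topWt_dom l
  have : topWt D (wperm X.hh.toChecked L (X.hh.toChecked.sroot l.2)) =
      topWt D (X.hh.toChecked.sroot l.2) := by
    simp only [topWt, X.hh.toChecked.wperm_val hL]
    conv_lhs => rw [← e]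
    rw [pairing_perm X.hh hL X.top_lt (Fin.isLt _)]
  rwa [this]

theorem conj_top_mem {g : GL D.Idx K} (hg : g ∈ D.group K) {l m : K} (hl : l ≠ 0)
    (e : g * X.xA l * g⁻¹ = X.xA m) : g ∈ D.parabolicSubgroup K (X.JA : Set ℕ) := by
  obtain ⟨L, hL, hcell, b, hb, m', hm', e'⟩ := X.exists_conj_form hg hl
  have hm : m ≠ 0 := by
    intro hm0
    have h1 : X.xA m = 1 := Units.ext (by rw [xA, coe_xGL, hm0, X.hh.toChecked.x_zero X.top_lt]; rfl)
    rw [h1, conj_eq_one_iff] at e
    exact hl ((X.hh.toChecked.x_eq_one_iff X.top_lt l).1 (congrArg Units.val e))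
  obtain ⟨m'', -, e''⟩ := X.borel_conj_top (inv_mem hb) hm
  have : xGL X.hh.toChecked K (X.hh.toChecked.perm_lt hL X.top_lt) m' =
      xGL X.hh.toChecked K X.top_lt m'' := by
    change _ = X.xA m''
    rw [← e'', ← e, e']
    group
  exact X.hh.mem_parabolic_of_bcell X.JA_subset (X.fix_top hL (xGL_eq_imp X.hh _ _ hm' this)) hcell

theorem parabolic_rat [Finite K] {h : GL D.Idx K} (hhH : h ∈ X.H)
    (hhP : h ∈ D.parabolicSubgroup K (X.JA : Set ℕ)) : h ∈ ratGroup D X.S := by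
  classical
  have hc := X.hh.toChecked
  set P := D.parabolicSubgroup K (X.JA : Set ℕ)
  set Q := rootGen D K (outSet D C X.JA) with hQ
  have hQU : Q ≤ D.posUnipotent K := by
    rw [hc.posUnipotent_eq]; exact rootGen_mono fun r hr => hr.1
  have hnorm := X.hh.parabolic_le_normalizer (F := K) X.JA_subset
  set z := h⁻¹ * glMap D X.S.σ h with hz
  have hzP : z ∈ P := mul_mem (inv_mem hhP) (glMap_parabolic X.hh _ hhP)
  -- `z` centralises the rational root elements of the radical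
  have hcomm : ∀ r, ∀ hr : r ∈ outSet D C X.JA,
      z * xGL X.hh.toChecked K hr.1.2 1 = xGL X.hh.toChecked K hr.1.2 1 * z := by
    intro r hr
    set x := xGL X.hh.toChecked K hr.1.2 (1 : K)
    have hxM : x ∈ ratGroup D X.S := xGL_mem_rat X.hh X.S hr.1.2 (one_mem _)
    have hq : h * x * h⁻¹ ∈ Q := (Subgroup.mem_normalizer_iff.1 (hnorm hhP) x).1 (mem_rootGen hr (coe_xGL _ _ _))
    have h1 := (mem_ratGroup.1 (X.hU _ (hQU hq) (mul_mem (mul_mem hhH (X.hMH hxM)) (inv_mem hhH)))).2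
    rw [map_mul, map_mul, map_inv, (mem_ratGroup.1 hxM).2] at h1
    rw [hz]
    calc h⁻¹ * glMap D X.S.σ h * x = h⁻¹ * (glMap D X.S.σ h * x * (glMap D X.S.σ h)⁻¹) * glMap D X.S.σ h := by
          group
      _ = _ := by rw [h1]; group
  -- its Weyl part is trivial
  obtain ⟨u, hu, hcell⟩ := X.hh.exists_weyl_of_mem_parabolic hzP
  obtain ⟨L, hL, eL⟩ := hc.exists_word_of_weyl (weyl_mono X.hh.toChecked X.JA_subset hu)
  obtain ⟨b₁, hb₁, b₂, hb₂, ez⟩ := X.hh.exists_of_mem_bcell hL (eL.symm ▸ hcell)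
  set n := nProd X.hh.toChecked K L
  have hperm : ∀ r, r < D.nroots → perm C L r < D.nroots := fun r hr => hc.perm_lt hL hr
  have hout : ∀ r ∈ outSet D C X.JA, perm C L r ∈ outSet D C X.JA := by
    intro r hr
    have := hc.outSet_weyl X.JA_subset hu (r := ⟨r, hr.1.2⟩) hr
    rwa [← eL, hc.wperm_val hL] at this
  obtain ⟨N, hN⟩ : ∃ N, N = ht D C (top D) := ⟨_, rfl⟩
  have hfix : ∀ k : ℕ, ∀ r ∈ outSet D C X.JA, N - ht D C r ≤ k → perm C L r = r := by
    intro k
    induction k using Nat.strong_induction_on with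
    | _ k ih =>
    intro r hr hk
    have hhigh : ∀ r' ∈ outSet D C X.JA, ht D C r < ht D C r' → perm C L r' = r' := by
      intro r' hr' hlt
      have h1 := (topRoot_facts X.hh X.hT).2.1 r hr.1.2
      have h2 := (topRoot_facts X.hh X.hT).2.1 r' hr'.1.2
      exact ih (N - ht D C r').toNat (by omega) r' hr' (by omega)
    set k0 := ht D C r with hk0
    have hk1 : 1 ≤ k0 := hc.ht_pos hr.1.2 hr.1.1
    -- conjugates of the root element by Borel elements
    have hconj : ∀ b ∈ D.borelSubgroup K, ∃ χ : K, χ ≠ 0 ∧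
        ∃ y ∈ rootGen D K (outSet D C X.JA ∩ htSet D C (k0 + 1)),
          b * xGL X.hh.toChecked K hr.1.2 1 * b⁻¹ = xGL X.hh.toChecked K hr.1.2 χ * y := by
      intro b hb
      obtain ⟨v, hv, t, ht', rfl⟩ := X.hh.mem_borel_iff.1 hb
      rw [X.hh.diagonalSubgroup_eq] at ht'
      obtain ⟨c, rfl⟩ := ht'
      set χ : K := (torusFun D c r : K)
      set y0 := v * xGL X.hh.toChecked K hr.1.2 χ * v⁻¹
      have hy0 : v * torusHom D K c * xGL X.hh.toChecked K hr.1.2 1 * (v * torusHom D K c)⁻¹ = y0 := by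
        rw [mul_inv_rev]
        calc _ = v * (torusHom D K c * xGL X.hh.toChecked K hr.1.2 1 * (torusHom D K c)⁻¹) * v⁻¹ := by group
          _ = _ := by rw [hc.conj_x hr.1.2, mul_one]
      have hxk : xGL X.hh.toChecked K hr.1.2 χ ∈ rootGen D K (htSet D C k0) :=
        mem_rootGen ⟨hr.1, le_rfl⟩ (coe_xGL _ _ _)
      have hxQ : xGL X.hh.toChecked K hr.1.2 χ ∈ Q := mem_rootGen hr (coe_xGL _ _ _)
      have hy0Q : y0 ∈ Q :=
        (Subgroup.mem_normalizer_iff.1 (hnorm (Subgroup.mem_sup_left (Subgroup.mem_sup_left hv))) _).1 hxQ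
      have hy0k : y0 ∈ rootGen D K (htSet D C k0) := by
        obtain ⟨m, hm⟩ : ∃ m : ℕ, k0 = m := ⟨k0.toNat, by omega⟩
        have hr1 := (raises_conj (C := C) hc (k := k0) (by omega)
          (by rwa [htSet_one hc, ← hc.posUnipotent_eq]) (raises_htGen hc (by omega) hxk).1).1
        rw [hm] at hr1 ⊢
        exact mem_htGen_of_raises X.hh (hQU hy0Q) m (by omega) hr1
      refine ⟨χ, Units.ne_zero _, (xGL X.hh.toChecked K hr.1.2 χ)⁻¹ * y0, ?_, by rw [hy0, mul_inv_cancel_left]⟩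
      refine X.hh.mem_rootGen_inter (fun a ha => ha.1) (htSet_subset _) (closedSet_outSet X.hh)
        (closedSet_htSet hc (by omega)) (mul_mem (inv_mem hxQ) hy0Q) ?_
      refine mem_next X.hh hk1 (mul_mem (inv_mem hxk) hy0k) fun s hs hsk => ?_
      rw [crd_mul X.hh (k := k0) (by omega) hs.2 (by omega) (inv_mem hxk) hy0k,
        crd_inv X.hh (k := k0) (by omega) hs.2 (by omega) hxk,
        crd_conj X.hh (k := k0) (by omega) hs.2 hsk.le hv hxk]
      ring
    obtain ⟨χ, hχ, y, hy, ey⟩ := hconj b₂ hb₂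
    obtain ⟨χ', hχ', y', hy', ey'⟩ := hconj b₁⁻¹ (inv_mem hb₁)
    have hle1 : ∀ {g : GL D.Idx K}, g ∈ rootGen D K (outSet D C X.JA ∩ htSet D C (k0 + 1)) →
        g ∈ rootGen D K (htSet D C (k0 + 1)) := fun hg => rootGen_mono Set.inter_subset_right hg
    have hny : n * y * n⁻¹ ∈ rootGen D K (outSet D C X.JA ∩ htSet D C (k0 + 1)) := by
      refine hc.conj_rootGen_le hL (S := outSet D C X.JA ∩ htSet D C (k0 + 1)) (fun a ha => ha.2.1.2)
        (fun a ha haS t => mem_rootGen (t := t) ?_ (coe_xGL _ _ _)) hy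
      rw [hhigh a haS.1 (by have := haS.2.2; omega)]
      exact haS
    have hkey : n * (b₂ * xGL X.hh.toChecked K hr.1.2 1 * b₂⁻¹) * n⁻¹ =
        b₁⁻¹ * xGL X.hh.toChecked K hr.1.2 1 * b₁⁻¹⁻¹ := by
      have := hcomm r hr
      rw [ez] at this
      calc _ = b₁⁻¹ * (b₁ * n * b₂ * xGL X.hh.toChecked K hr.1.2 1) * (b₁ * n * b₂)⁻¹ * b₁ := by group
        _ = _ := by rw [this]; group
    rw [ey, ey'] at hkey
    have hkey2 : xGL X.hh.toChecked K (hperm r hr.1.2) ((weta C L r : K) * χ) =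
        xGL X.hh.toChecked K hr.1.2 χ' * y' * (n * y * n⁻¹)⁻¹ := by
      rw [← hkey, ← conj_nProd X.hh hL hr.1.2 χ]
      simp only [n]
      group
    set a := perm C L r
    have hap : a ∈ outSet D C X.JA := hout r hr
    have hnz : (weta C L r : K) * χ ≠ 0 := mul_ne_zero (by
      rcases weta_cases (C := C) L r with e | e <;> simp [e]) hχ
    have hrhs : xGL X.hh.toChecked K hr.1.2 χ' * y' * (n * y * n⁻¹)⁻¹ ∈ rootGen D K (htSet D C k0) :=
      mul_mem (mul_mem (mem_rootGen ⟨hr.1, le_rfl⟩ (coe_xGL _ _ _))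
        (rootGen_mono (htSet_mono (by omega)) (hle1 hy'))) (inv_mem (rootGen_mono (htSet_mono (by omega)) (hle1 hny)))
    have hxa : crd X.hh hap.1.2 (xGL X.hh.toChecked K (hperm r hr.1.2) ((weta C L r : K) * χ)) =
        (weta C L r : K) * χ := by
      rw [crd_x X.hh hap.1.2 hap.1 hap.1 le_rfl, if_pos rfl]
    by_contra hne
    rcases lt_trichotomy (ht D C a) k0 with hlt | heq | hgt
    · rw [hkey2, crd_eq_zero X.hh (by omega) hap.1.2 hlt hrhs] at hxa
      exact hnz hxa.symm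
    · rw [hkey2, crd_mul X.hh (k := k0) (by omega) hap.1.2 (by omega)
        (mul_mem (mem_rootGen ⟨hr.1, le_rfl⟩ (coe_xGL _ _ _)) (rootGen_mono (htSet_mono (by omega)) (hle1 hy')))
        (inv_mem (rootGen_mono (htSet_mono (by omega)) (hle1 hny))),
        crd_mul X.hh (k := k0) (by omega) hap.1.2 (by omega)
        (mem_rootGen ⟨hr.1, le_rfl⟩ (coe_xGL _ _ _)) (rootGen_mono (htSet_mono (by omega)) (hle1 hy')),
        crd_x X.hh hap.1.2 hap.1 hr.1 (by omega), if_neg (Ne.symm hne),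
        crd_eq_zero X.hh (k := k0 + 1) (by omega) hap.1.2 (by omega) (hle1 hy'),
        crd_eq_zero X.hh (k := k0 + 1) (by omega) hap.1.2 (by omega) (inv_mem (hle1 hny))] at hxa
      exact hnz (by rw [← hxa]; ring)
    · exact hne (hc.perm_inj hL hap.1.2 hr.1.2 (hhigh a hap hgt))
  have hu1 : u = 1 := by
    refine X.hh.eq_one_of_asc_parabolic X.JA_subset hu fun j hj => ?_
    have hjr := Finset.mem_range.1 (X.JA_subset hj)
    obtain ⟨r, hr, hrp, c, hcm, h11, hcp⟩ := (topRoot_facts X.hh X.hT).2.2.2.2.2 j hjr ((X.mem_JA hjr).1 hj)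
    obtain ⟨hclt, -, -, hφ⟩ := hc.cTerms_spec (hc.simple_lt hjr) hr.2 c hcm
    have hsp : D.simple j ∈ posSet D := ⟨hc.sroot_pos hjr, hc.simple_lt hjr⟩
    have hcpos := (hc.cTerms_pos hsp hr hcm).1
    have f1 := hfix (N - ht D C r).toNat r (X.mem_out_of_pairing hr hrp) (by omega)
    have f2 := hfix (N - ht D C c.1).toNat c.1 (X.mem_out_of_pairing hcpos hcp) (by omega)
    obtain ⟨φ, hadd, eφ⟩ := hc.isAdd_perm_ht hL
    have h1 := hφ φ hadd
    rw [h11, eφ _ hclt, eφ _ (hc.simple_lt hjr), eφ _ hr.2, f1, f2, hφ _ hc.isAdd_ht, h11, hc.simple_ht hjr] at h1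
    simp only [Nat.cast_one, one_mul] at h1
    rw [hc.asc_iff hjr, ← eL, hc.wperm_val hL]
    by_contra hn
    have := hc.ht_neg_of_neg (not_le.1 hn)
    change ht D C (perm C L (D.simple j)) < 0 at this
    omega
  rw [hu1] at hcell
  have hzB : z ∈ D.borelSubgroup K := X.hh.mem_bcell_one.1 hcell
  -- so the coset of the Borel subgroup has a rational representative
  obtain ⟨m, hm, hmb⟩ := exists_rat_rep X.hh X.S (J := ∅) (Finset.empty_subset _) (X.hHG hhH)
    (Subgroup.mem_sup_left hzB)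
  have hbB : m⁻¹ * h ∈ D.borelSubgroup K := by
    have hle : D.parabolicSubgroup K ((∅ : Finset ℕ) : Set ℕ) ≤ D.borelSubgroup K :=
      sup_le le_rfl ((Subgroup.closure_le _).2 fun x ⟨j, hj, _⟩ => absurd hj (by simp))
    exact hle hmb
  have hbH : m⁻¹ * h ∈ X.H := mul_mem (inv_mem (X.hMH hm)) hhH
  suffices m⁻¹ * h ∈ ratGroup D X.S by
    have := mul_mem hm this
    rwa [mul_inv_cancel_left] at this
  obtain ⟨v, hv, t, ht, eb⟩ := X.hh.mem_borel_iff.1 hbB
  rw [X.hh.diagonalSubgroup_eq] at ht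
  obtain ⟨c, rfl⟩ := ht
  have hsimple : ∀ i < D.rank, (torusFun D c (D.simple i) : K) ∈ X.S.k := by
    intro i hi
    have hip : D.simple i ∈ posSet D := ⟨hc.sroot_pos hi, hc.simple_lt hi⟩
    set x := xGL X.hh.toChecked K hip.2 (1 : K)
    have he : (m⁻¹ * h) * x * (m⁻¹ * h)⁻¹ = v * xGL X.hh.toChecked K hip.2 (torusFun D c (D.simple i) : K) * v⁻¹ := by
      rw [eb, mul_inv_rev]
      calc _ = v * (torusHom D K c * x * (torusHom D K c)⁻¹) * v⁻¹ := by group
        _ = _ := by rw [hc.conj_x hip.2, mul_one]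
    have hxu : xGL X.hh.toChecked K hip.2 (torusFun D c (D.simple i) : K) ∈ rootGen D K (htSet D C 1) :=
      mem_rootGen (by rw [htSet_one hc]; exact hip) (coe_xGL _ _ _)
    have hxU : v * xGL X.hh.toChecked K hip.2 (torusFun D c (D.simple i) : K) * v⁻¹ ∈ D.posUnipotent K :=
      mul_mem (mul_mem hv (by rw [hc.posUnipotent_eq]; exact mem_rootGen hip (coe_xGL _ _ _))) (inv_mem hv)
    have h1 := crd_mem_of_rat X.hh hip.2 (X.hU _ hxU (he ▸
      mul_mem (mul_mem hbH (X.hMH (xGL_mem_rat X.hh X.S hip.2 (one_mem _)))) (inv_mem hbH)))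
    rwa [crd_conj X.hh (k := 1) (by omega) hip.2 (hc.simple_ht hi).le hv hxu,
      crd_x X.hh hip.2 hip hip le_rfl, if_pos rfl] at h1
  have htall : ∀ s < D.nroots, (torusFun D c s : K) ∈ X.S.k := by
    intro s hs
    rw [← hc.chiOf_torus c hs, chiOf, Units.coe_prod]
    refine Subfield.prod_mem _ fun l hl => ?_
    rw [Units.val_zpow_eq_zpow_val]
    exact Subfield.zpow_mem _ (hsimple l (Finset.mem_range.1 hl)) _
  have htM : torusHom D K c ∈ ratGroup D X.S := torus_mem_rat X.hh X.S (X.hh.torusHom_mem_group c) htall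
  have hvM : v ∈ ratGroup D X.S := by
    refine X.hU v hv ?_
    have := mul_mem hbH (inv_mem (X.hMH htM))
    rwa [eb, mul_inv_cancel_right] at this
  rw [eb]
  exact mul_mem hvM htM

theorem conj_top_rat [Finite K] {h : GL D.Idx K} (hhH : h ∈ X.H) {l : K} (hl : l ≠ 0) (hlk : l ∈ X.S.k)
    (hy : h * X.xA l * h⁻¹ ∈ ratGroup D X.S) : h ∈ ratGroup D X.S := by
  have e := (mem_ratGroup.1 hy).2
  rw [map_mul, map_mul, map_inv, (mem_ratGroup.1 (X.xA_mem_rat hlk)).2] at e
  have hσG : glMap D X.S.σ h ∈ D.group K := glMap_group_le _ (Subgroup.mem_map_of_mem _ (X.hHG hhH))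
  have hz : h⁻¹ * glMap D X.S.σ h ∈ D.parabolicSubgroup K (X.JA : Set ℕ) := by
    refine X.conj_top_mem (mul_mem (inv_mem (X.hHG hhH)) hσG) hl (m := l) ?_
    rw [mul_inv_rev, inv_inv]
    calc h⁻¹ * glMap D X.S.σ h * X.xA l * ((glMap D X.S.σ h)⁻¹ * h)
        = h⁻¹ * (glMap D X.S.σ h * X.xA l * (glMap D X.S.σ h)⁻¹) * h := by group
      _ = X.xA l := by rw [e]; group
  obtain ⟨m, hm, hmP⟩ := exists_rat_rep X.hh X.S X.JA_subset (X.hHG hhH) hz
  have := mul_mem hm (X.parabolic_rat (mul_mem (inv_mem (X.hMH hm)) hhH) hmP)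
  rwa [mul_inv_cancel_left] at this

/-- The normaliser in `H` of a rational `p`-subgroup is rational. -/
theorem normalizer_rat [Fintype K] (p : ℕ) [Fact p.Prime] [CharP K p] {U : Subgroup (GL D.Idx K)}
    (hUM : U ≤ ratGroup D X.S) (hU : IsPGroup p ↥U) (hne : U ≠ ⊥)
    {y : GL D.Idx K} (hyH : y ∈ X.H) (hy : y ∈ Subgroup.normalizer (U : Set (GL D.Idx K))) :
    y ∈ ratGroup D X.S := by
  have hh := X.hh
  have h := hh.toChecked
  have hUG : U ≤ D.group K := hUM.trans (ratGroup_le _)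
  have hfeas : (btFeasible hh.toChecked U).Nonempty := by
    obtain ⟨g, hg, J, hJ, hJp, -, hUJ⟩ := hh.borel_tits p U hUG hU hne
    refine ⟨fun r => (ht D C r.1 : ℝ), mem_btFeasible.2 ⟨hh.toChecked.btLin_ht,
      fun l => ?_, g, hg, fun u hu => ?_⟩⟩
    · show (0 : ℝ) ≤ ht D C (D.simple l.1)
      rw [h.simple_ht l.2]; norm_num
    · obtain ⟨q, hq, rfl⟩ := Subgroup.mem_map.1 (hUJ hu)
      have : g⁻¹ * (MulAut.conj g).toMonoidHom q * g = q := by simp [mul_assoc]
      rw [this]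
      refine rootGen_mono (fun r hr => ?_) hq
      refine ⟨hr.1, fun hlt => ?_⟩
      show (1 : ℝ) ≤ ht D C r
      exact_mod_cast h.ht_pos hlt hr.1.1
  obtain ⟨v, hv, hmin⟩ := exists_btNorm_min hh.toChecked U hfeas
  obtain ⟨hvl, hvd, g, hg, hgU⟩ := mem_btFeasible.1 hv
  set J := btType hh.toChecked v
  have hJ : J ⊆ Finset.range D.rank := btType_subset _ _
  have hproper : ∃ i < D.rank, i ∉ J := by
    by_contra hall
    simp only [not_exists, not_and, not_not] at hall
    obtain ⟨⟨u, hu⟩, hu1⟩ := (Subgroup.ne_bot_iff_exists_ne_one).1 hne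
    have hempty : rootGen D K (btSet v) = ⊥ := by
      rw [eq_bot_iff, rootGen, Subgroup.closure_le]
      rintro x ⟨r, t, hr, -⟩
      obtain ⟨l, hl, hlJ, -⟩ :=
        h.exists_coef_pos_of_not_supp (hh.toChecked.btSet_subset_outSet hvl hr)
      exact absurd (hall l hl) hlJ
    have h1 := hgU u hu
    rw [hempty, Subgroup.mem_bot] at h1
    refine hu1 (Subtype.ext ?_)
    calc u = g * (g⁻¹ * u * g) * g⁻¹ := by group
      _ = 1 := by rw [h1]; group
  have hσ : g⁻¹ * glMap D X.S.σ g ∈ D.parabolicSubgroup K (J : Set ℕ) := by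
    refine hh.bt_unique U hvl hvd hg hgU hvl hvd (glMap_group_le _ (Subgroup.mem_map_of_mem _ hg))
      (fun u hu => ?_) hmin rfl
    have := glMap_rootGen X.S.σ (hgU u hu)
    rwa [map_mul, map_mul, map_inv, (mem_ratGroup.1 (hUM hu)).2] at this
  obtain ⟨m, hm, hmP⟩ := exists_rat_rep hh X.S hJ hg hσ
  have hyP : g⁻¹ * (y * g) ∈ D.parabolicSubgroup K (J : Set ℕ) := by
    refine hh.bt_unique U hvl hvd hg hgU hvl hvd (mul_mem (X.hHG hyH) hg) (fun u hu => ?_) hmin rfl
    have h1 : y⁻¹ * u * y ∈ U := by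
      have := (Subgroup.mem_normalizer_iff.1 (inv_mem hy) u).1 hu
      simpa using this
    have := hgU _ h1
    convert this using 1
    group
  set k := m⁻¹ * y * m
  have hkH : k ∈ X.H := mul_mem (mul_mem (inv_mem (X.hMH hm)) hyH) (X.hMH hm)
  have hkP : k ∈ D.parabolicSubgroup K (J : Set ℕ) := by
    have e : k = (m⁻¹ * g) * (g⁻¹ * (y * g)) * (m⁻¹ * g)⁻¹ := by simp only [k]; group
    rw [e]
    exact mul_mem (mul_mem hmP hyP) (inv_mem hmP)
  have hx1 : X.xA 1 ∈ ratGroup D X.S := X.xA_mem_rat (one_mem _)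
  have hq : k * X.xA 1 * k⁻¹ ∈ rootGen D K (outSet D C J) :=
    (Subgroup.mem_normalizer_iff.1 (hh.parabolic_le_normalizer hJ hkP) _).1
      (mem_rootGen (X.top_mem_out hproper) (coe_xGL _ _ _))
  have hkM : k ∈ ratGroup D X.S := X.conj_top_rat hkH one_ne_zero (one_mem _)
    (X.hU _ (by rw [h.posUnipotent_eq]; exact rootGen_mono (fun r hr => hr.1) hq)
      (mul_mem (mul_mem hkH (X.hMH hx1)) (inv_mem hkH)))
  have := mul_mem (mul_mem hm hkM) (inv_mem hm)
  simp only [k] at this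
  convert this using 1
  group

/-- The centraliser in `H` of a rational non-trivial `p`-element is rational. -/
theorem centralizer_rat [Fintype K] (p : ℕ) [Fact p.Prime] [CharP K p] {z : GL D.Idx K}
    (hz : z ∈ ratGroup D X.S) (hzp : z ^ p = 1) (hz1 : z ≠ 1)
    {y : GL D.Idx K} (hyH : y ∈ X.H) (hy : y * z = z * y) : y ∈ ratGroup D X.S := by
  refine X.normalizer_rat p (U := Subgroup.zpowers z) (Subgroup.zpowers_le.2 hz) ?_ ?_ hyH ?_
  · rintro ⟨w, hw⟩
    obtain ⟨n, rfl⟩ := Subgroup.mem_zpowers_iff.1 hw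
    refine ⟨1, Subtype.ext ?_⟩
    rw [pow_one, SubmonoidClass.coe_pow, OneMemClass.coe_one]
    rw [← zpow_natCast, ← zpow_mul, mul_comm, zpow_mul, zpow_natCast, hzp, one_zpow]
  · simpa [Subgroup.zpowers_eq_bot] using hz1
  · rw [Subgroup.mem_normalizer_iff]
    intro w
    constructor
    · intro hw
      obtain ⟨n, rfl⟩ := Subgroup.mem_zpowers_iff.1 hw
      have : Commute y (z ^ n) := (show Commute y z from hy).zpow_right n
      rw [this.eq, mul_inv_cancel_right]
      exact hw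
    · intro hw
      obtain ⟨n, hn⟩ := Subgroup.mem_zpowers_iff.1 hw
      have : Commute y (z ^ n) := (show Commute y z from hy).zpow_right n
      have e : w = z ^ n := by
        calc w = y⁻¹ * (y * w * y⁻¹) * y := by group
          _ = z ^ n := by rw [← hn, mul_assoc, ← this.eq, inv_mul_cancel_left]
      rw [e]
      exact ⟨n, rfl⟩

end Ctx

end Cfsg.Agent.Lib.ChevSubfield
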