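import Cfsg.Agent.Lib.SL2.Overgroup
import Cfsg.Agent.Lib.SL2.SmallConj

/-!
Subgroups of `SL₂(F)` generated by unipotent elements over a maximal subfield `k` and further ones.
-/

set_option autoImplicit false

namespace Cfsg.Agent.Lib.ChevSubfield

open Cfsg.Agent.Lib.SL2 Matrix

variable {F : Type*} [Field F] [Fintype F]

lemma A4_orders : ∀ x : alternatingGroup (Fin 4), x * x = 1 ∨ x ^ 3 = 1 := by decide +kernel

lemma S4_orders : ∀ x : Equiv.Perm (Fin 4), x * x = 1 ∨ x ^ 3 = 1 ∨ x ^ 4 = 1 := by decide +kernel

lemma A5_orders : ∀ x : alternatingGroup (Fin 5), x * x = 1 ∨ x ^ 3 = 1 ∨ x ^ 5 = 1 := by decide +kernel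

lemma A4_involutions : ∀ x y : alternatingGroup (Fin 4), x * x = 1 → y * y = 1 → x * y = y * x := by
  decide +kernel

lemma S4_four : ∃ x : Equiv.Perm (Fin 4), x * x ≠ 1 ∧ x ^ 4 = 1 := by decide +kernel

/-- The trace of `upper a * lower b`. -/
lemma tr_upper_lower (a b : F) : tr (upper a * lower b) = 2 + a * b := by
  simp [tr, mul_00, mul_01, mul_10, mul_11]; ring

lemma proj_upper_lower_ne_one {a b : F} (ha : a ≠ 0) : proj (upper a * lower b) ≠ 1 := by
  intro e
  have h01 := ((mem_center_iff_entries _).1 (proj_eq_one_iff.1 e)).1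
  simp [tr, mul_00, mul_01, mul_10, mul_11] at h01
  exact ha h01

lemma proj_upper_lower_comm_ne {a b : F} (ha : a ≠ 0) (hb : b ≠ 0) :
    proj (upper a) * proj (lower b) ≠ proj (lower b) * proj (upper a) := by
  rw [← map_mul, ← map_mul]
  intro e
  have hab : a * b ≠ 0 := mul_ne_zero ha hb
  rcases proj_eq_proj_iff.1 e with e | e
  · have := congrArg (fun g : SLtwo F => g 0 0) e
    simp [mul_00] at this
    rcases this with rfl | rfl
    · exact ha rfl
    · exact hb rfl
  · have h00 := congrArg (fun g : SLtwo F => g 0 0) e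
    have h01 := congrArg (fun g : SLtwo F => g 0 1) e
    simp [Matrix.mul_apply, Fin.sum_univ_two] at h00 h01
    have h2 : (2 : F) * a = 0 := by linear_combination h01
    rcases mul_eq_zero.1 h2 with h2 | h2
    · exact hab (by linear_combination h00 - h2)
    · exact ha h2

lemma pow_p_upper (p : ℕ) [Fact p.Prime] [CharP F p] (a : F) :
    proj (upper a) ^ p = 1 ∧ proj (lower a) ^ p = 1 := by
  rw [← map_pow, ← map_pow, upper_pow, lower_pow, CharP.cast_eq_zero, zero_mul, upper_zero, lower_zero]
  simp

/-- A proper subgroup containing noncommuting root elements is small or of subfield type, with the traces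
in the subfield. -/
theorem small_or_trace (p : ℕ) [Fact p.Prime] [CharP F p] {M : Subgroup (PSLtwo F)} (hM : M ≠ ⊤)
    (h4 : p = 2 → 4 ∣ Nat.card M) {a₀ b₀ : F} (ha₀ : a₀ ≠ 0) (hb₀ : b₀ ≠ 0)
    (hua : proj (upper a₀) ∈ M) (hlb : proj (lower b₀) ∈ M) :
    (Nonempty (M ≃* alternatingGroup (Fin 4)) ∨ Nonempty (M ≃* Equiv.Perm (Fin 4)) ∨
      Nonempty (M ≃* alternatingGroup (Fin 5))) ∨
    ∃ K : Subfield F, K ≠ ⊤ ∧
      ∀ a b : F, proj (upper a) ∈ M → proj (lower b) ∈ M → (2 + a * b) ^ 2 ∈ K := by
  classical
  have hap := (pow_p_upper p a₀).1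
  have hbp := (pow_p_upper p b₀).2
  have hab := proj_upper_lower_comm_ne ha₀ hb₀
  rcases dickson p M with h | ⟨A, hA, hn, hd⟩ | ⟨x, hx, hx1, h⟩ | h | ⟨K, δ, hK, h⟩
  · exfalso
    rw [h, Subgroup.mem_bot] at hua
    exact hab (by rw [hua, one_mul, mul_one])
  · exfalso
    by_cases hp : p = 2
    · have hd' : 4 ∣ 2 * Nat.card A := by
        rcases hd with ⟨-, e⟩ | ⟨⟨e⟩⟩
        · exact (h4 hp).trans (e ▸ dvd_mul_left _ _)
        · exact (h4 hp).trans (by rw [Nat.card_congr e.toEquiv, DihedralGroup.nat_card])
      have h2 := hA.coprime p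
      subst hp
      have : 2 ∣ Nat.card A := Nat.dvd_of_mul_dvd_mul_left two_pos hd'
      exact Nat.prime_two.not_dvd_one (h2 ▸ Nat.dvd_gcd this dvd_rfl)
    · have key : ∀ c : PSLtwo F, c ^ p = 1 → c ≠ 1 → c * c ≠ 1 := fun c hc hc1 e => by
        have h1 := orderOf_dvd_of_pow_eq_one hc
        have h2 := orderOf_dvd_of_pow_eq_one (show c ^ 2 = 1 by rw [sq, e])
        exact hc1 (orderOf_eq_one_iff.1 (Nat.eq_one_of_dvd_coprimes
          ((Nat.coprime_primes (Fact.out : p.Prime) Nat.prime_two).2 hp) h1 h2))
      exact hab (comm_of_normIn_eq hA hn hua hlb (key _ hap fun e => hab (by rw [e, one_mul, mul_one]))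
        (key _ hbp fun e => hab (by rw [e, one_mul, mul_one])))
  · exact absurd (torus_comm hx1 (mem_torus_of_mem_normalizer p hx hx1 (h hua) hap)
      (mem_torus_of_mem_normalizer p hx hx1 (h hlb) hbp)) hab
  · exact Or.inl h
  refine Or.inr ⟨K, ?_, ?_⟩
  · rintro rfl
    have hinj := Matrix.ProjectiveSpecialLinearGroup.toPGL_injective (n := Fin 2) (R := F)
    have hKc : Fintype.card (⊤ : Subfield F) = Fintype.card F := Fintype.card_congr Subfield.topEquiv.toEquiv
    refine hM (Subgroup.eq_top_of_le_card _ ?_)
    rw [card_PSL]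
    rcases h with h | h
    · rw [← Subgroup.card_map_of_injective (K := M) hinj, h,
        Subgroup.card_map_of_injective (MulEquiv.injective _), card_glMap_range, hKc]
      exact Nat.div_le_self _ _
    · rw [← Subgroup.card_map_of_injective (K := M) hinj, h,
        Subgroup.card_map_of_injective (MulEquiv.injective _),
        Nat.card_congr (rangeSlMapEquiv (⊤ : Subfield F)).toEquiv, card_PSL, hKc]
  intro a b ha hb
  set g := upper a * lower b with hg
  have hm : Matrix.ProjectiveSpecialLinearGroup.toPGL (proj g) ∈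
      (glMap K).range.map (MulAut.conj δ).toMonoidHom := by
    have : Matrix.ProjectiveSpecialLinearGroup.toPGL (proj g) ∈
        M.map Matrix.ProjectiveSpecialLinearGroup.toPGL :=
      Subgroup.mem_map_of_mem _ (by rw [hg, map_mul]; exact mul_mem ha hb)
    rcases h with h | h <;> rw [h] at this
    · exact this
    · refine Subgroup.map_mono ?_ this
      rintro _ ⟨z, rfl⟩
      exact ⟨Matrix.SpecialLinearGroup.toGL z, rfl⟩
  obtain ⟨z, ⟨w, rfl⟩, hz⟩ := hm
  obtain ⟨P, rfl⟩ := Matrix.ProjGenLinGroup.mk_surjective δ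
  have hz' : Matrix.ProjGenLinGroup.mk (P * Matrix.GeneralLinearGroup.map K.subtype w * P⁻¹) =
      Matrix.ProjGenLinGroup.mk (Matrix.SpecialLinearGroup.toGL g) := by
    rw [map_mul, map_mul, map_inv]
    exact hz
  obtain ⟨u, hu⟩ := Matrix.ProjGenLinGroup.mk_eq_mk_iff.1 hz'
  have hu' : (g : Matrix (Fin 2) (Fin 2) F) = (u : F) • ((P : Matrix (Fin 2) (Fin 2) F) *
      (w : Matrix (Fin 2) (Fin 2) K).map K.subtype * ((P⁻¹ : GL (Fin 2) F) : Matrix (Fin 2) (Fin 2) F)) := by
    have := congrArg (fun x : GL (Fin 2) F => (x : Matrix (Fin 2) (Fin 2) F)) hu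
    simp only [Units.val_mul, Matrix.GeneralLinearGroup.coe_scalar, Matrix.scalar_apply,
      ← Matrix.smul_one_eq_diagonal, Algebra.mul_smul_comm, mul_one] at this
    exact this.symm
  set W := (w : Matrix (Fin 2) (Fin 2) K).map K.subtype with hW
  have hdet : (u : F) ^ 2 * W.det = 1 := by
    have := congrArg Matrix.det hu'
    rw [Matrix.det_smul, Matrix.det_mul, Matrix.det_mul, Fintype.card_fin, g.2] at this
    rw [this, mul_right_comm (P : Matrix (Fin 2) (Fin 2) F).det, ← Matrix.det_mul, ← Units.val_mul,
      mul_inv_cancel, Units.val_one, Matrix.det_one, one_mul]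
  have htr : tr g = (u : F) * W.trace := by
    have := congrArg Matrix.trace hu'
    rw [Matrix.trace_smul, Matrix.trace_mul_cycle, ← Units.val_mul, inv_mul_cancel, Units.val_one, one_mul,
      smul_eq_mul] at this
    rw [← this, Matrix.trace_fin_two]; rfl
  have hd0 : W.det ≠ 0 := fun e => by rw [e, mul_zero] at hdet; exact zero_ne_one hdet
  have : (2 + a * b) ^ 2 = W.trace ^ 2 / W.det := by
    rw [eq_div_iff hd0, ← tr_upper_lower, ← hg, htr]
    linear_combination W.trace ^ 2 * hdet
  rw [this]
  have hmem : ∀ i j, W i j ∈ K := fun i j => (((w : Matrix (Fin 2) (Fin 2) K)) i j).2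
  rw [Matrix.trace_fin_two, Matrix.det_fin_two]
  exact div_mem (pow_mem (add_mem (hmem 0 0) (hmem 1 1)) 2)
    (sub_mem (mul_mem (hmem 0 0) (hmem 1 1)) (mul_mem (hmem 0 1) (hmem 1 0)))

/-- The subgroup of `PSL₂` given by parameters of upper root elements has order dividing the group's. -/
theorem card_dvd_of_upper {M : Subgroup (PSLtwo F)} (S : AddSubgroup F) (hS : ∀ a ∈ S, proj (upper a) ∈ M) :
    Nat.card S ∣ Nat.card M := by
  let f : Multiplicative S →* M :=
    { toFun := fun a => ⟨proj (upper (a.toAdd : F)), hS _ a.toAdd.2⟩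
      map_one' := Subtype.ext (by simp [upper_zero])
      map_mul' := fun a b => Subtype.ext (by rw [Subgroup.coe_mul, ← map_mul, upper_mul]; rfl) }
  have hf : Function.Injective f := fun a b e => by
    have := proj_upper_injective (congrArg Subtype.val e)
    exact Multiplicative.toAdd.injective (Subtype.ext this)
  exact (Nat.card_congr Multiplicative.ofAdd).dvd.trans (Subgroup.card_dvd_of_injective f hf)

variable {k : Subfield F}

/-- `SL₂(F)` is generated by the upper and lower unitriangular elements. -/
theorem eq_top_of_all {R : Subgroup (SLtwo F)} (hu : ∀ a, upper a ∈ R) (hl : ∀ a, lower a ∈ R) : R = ⊤ := by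
  rw [eq_top_iff]
  intro g _
  -- a generic element is lower·upper·lower·upper
  obtain ⟨s, hs⟩ : ∃ s : F, (lower s * g : SLtwo F) 1 0 ≠ 0 := by
    by_cases h : g 1 0 = 0
    · refine ⟨1, ?_⟩
      have hd := det_entries g
      simp [mul_10, h]
      intro e
      rw [e, h] at hd
      simp at hd
    · exact ⟨0, by simpa [lower_zero] using h⟩
  set g' := lower s * g with hg'
  have e : g' = upper ((g' 0 0 - 1) / g' 1 0) * lower (g' 1 0) * upper ((g' 1 1 - 1) / g' 1 0) := by
    have hd := det_entries g'
    apply ext_entries <;>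
      simp [mul_00, mul_01, mul_10, mul_11] <;> field_simp
    all_goals first
      | ring1
      | linear_combination hd
      | linear_combination -hd
  have : g' ∈ R := e ▸ mul_mem (mul_mem (hu _) (hl _)) (hu _)
  have h2 := mul_mem (inv_mem (hl s)) this
  rwa [hg', inv_mul_cancel_left] at h2

/-- Upper and lower root elements over `k` and one more parameter generate the special linear group. -/
theorem eq_top_of_upper (p : ℕ) [Fact p.Prime] [CharP F p] (hmax : ∀ L : Subfield F, k ≤ L → L = k ∨ L = ⊤)
    {R : Subgroup (SLtwo F)} (hu : ∀ a ∈ k, upper a ∈ R) (hl : ∀ a ∈ k, lower a ∈ R)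
    {t : F} (ht : t ∉ k) (hut : upper t ∈ R) : R = ⊤ := by
  classical
  have hweyl : weyl ∈ R := by
    have e : (weyl : SLtwo F) = upper 1 * lower (-1) * upper 1 := by
      apply ext_entries <;> simp [mul_00, mul_01, mul_10, mul_11]
    rw [e]
    exact mul_mem (mul_mem (hu _ (one_mem k)) (hl _ (neg_mem (one_mem k)))) (hu _ (one_mem k))
  have hlow : ∀ a, upper a ∈ R → lower a ∈ R := fun a ha => by
    have h := mul_mem (mul_mem hweyl (inv_mem ha)) (inv_mem hweyl)
    rwa [upper_inv, weyl_conj_upper, neg_neg] at h
  set M := R.map proj with hMdef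
  have hproj : ∀ g ∈ R, proj g ∈ M := fun g hg => Subgroup.mem_map_of_mem _ hg
  have hp := (Fact.out : p.Prime)
  by_cases hM : M = ⊤
  · have hup : ∀ a, upper a ∈ R := by
      intro a
      obtain ⟨g, hg, e⟩ := (hM.symm ▸ Subgroup.mem_top _ : proj (upper (if p = 2 then a else a / 2)) ∈ M)
      by_cases h2 : p = 2
      · subst h2
        simp only [if_true] at e
        rcases proj_eq_proj_iff.1 e with e | e
        · exact e ▸ hg
        · have h20 : (2 : F) = 0 := CharP.cast_eq_zero F 2
          have : -g = g := by rw [show -g = -1 * g by simp, neg_one_eq_one h20, one_mul]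
          exact (e.trans this) ▸ hg
      · simp only [if_neg h2] at e
        have h20 : (2 : F) ≠ 0 := by
          rw [← Nat.cast_two, Ne, CharP.cast_eq_zero_iff F p]
          exact fun hd => h2 ((Nat.prime_dvd_prime_iff_eq hp Nat.prime_two).1 hd)
        haveI : NeZero (2 : F) := ⟨h20⟩
        have e2 : upper (a / 2) * upper (a / 2) = g * g := by
          rcases proj_eq_proj_iff.1 e with e | e <;> rw [e]
          simp
        rw [upper_mul, add_halves] at e2
        exact e2 ▸ mul_mem hg hg
    exact eq_top_of_all hup fun a => hlow a (hup a)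
  exfalso
  have ht0 : t ≠ 0 := fun e => ht (e ▸ zero_mem k)
  let S : AddSubgroup F :=
    { carrier := {a | upper a ∈ R}
      zero_mem' := by simp [upper_zero, one_mem]
      add_mem' := fun {a b} ha hb => by
        simp only [Set.mem_setOf_eq] at ha hb ⊢
        have := mul_mem ha hb
        rwa [upper_mul] at this
      neg_mem' := fun {a} ha => by
        simp only [Set.mem_setOf_eq] at ha ⊢
        have := inv_mem ha
        rwa [upper_inv] at this }
  have hSdvd : Nat.card S ∣ Nat.card M := card_dvd_of_upper S fun a ha => hproj _ ha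
  -- the parameters contain `k` properly
  have hkS : k.toAddSubgroup ≤ S := fun a ha => hu a ha
  have hkdvd : Nat.card k ∣ Nat.card S := AddSubgroup.card_dvd_of_le hkS
  have hlt : Nat.card k < Nat.card S := by
    refine lt_of_le_of_ne (Nat.le_of_dvd Nat.card_pos hkdvd) fun e => ht ?_
    have := AddSubgroup.eq_of_le_of_card_ge hkS (le_of_eq e.symm)
    exact (this ▸ hut : t ∈ k.toAddSubgroup)
  obtain ⟨n, hn⟩ : ∃ n, Nat.card k = p ^ n := by
    haveI : CharP k p := RingHom.charP k.subtype Subtype.val_injective p
    obtain ⟨n, -, e⟩ := FiniteField.card k p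
    exact ⟨n, by rw [Nat.card_eq_fintype_card, e]⟩
  have hn0 : n ≠ 0 := by
    rintro rfl
    have : 1 < Nat.card k := Finite.one_lt_card
    rw [hn, pow_zero] at this
    omega
  obtain ⟨m, hm⟩ : ∃ m, Nat.card S = p ^ m := by
    obtain ⟨a, -, e⟩ := FiniteField.card F p
    have := AddSubgroup.card_addSubgroup_dvd_card S
    rw [Nat.card_eq_fintype_card (α := F), e] at this
    obtain ⟨m, -, e'⟩ := (Nat.dvd_prime_pow hp).1 this
    exact ⟨m, e'⟩
  have hnm : n < m := (Nat.pow_lt_pow_iff_right hp.one_lt).1 (hn ▸ hm ▸ hlt)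
  have h4 : p = 2 → 4 ∣ Nat.card M := by
    rintro rfl
    exact (dvd_trans (pow_dvd_pow 2 (show 2 ≤ m by omega)) (hm ▸ hSdvd))
  rcases small_or_trace p hM h4 one_ne_zero one_ne_zero (hproj _ (hu _ (one_mem k)))
    (hproj _ (hl _ (one_mem k))) with hs | ⟨L, hL, htr⟩
  · -- the small groups have no elementary abelian subgroup of order p ^ m
    have hpm : p ^ 2 ∣ Nat.card M := dvd_trans (pow_dvd_pow p (show 2 ≤ m by omega)) (hm ▸ hSdvd)
    rcases hs with ⟨⟨e⟩⟩ | ⟨⟨e⟩⟩ | ⟨⟨e⟩⟩
    · rw [Nat.card_congr e.toEquiv, nat_card_alternatingGroup, Nat.card_fin] at hpm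
      have hp2 : p = 2 := by
        by_contra h
        have h3 : 3 ≤ p := by have := hp.two_le; omega
        have h12 : p ^ 2 ∣ 12 := hpm
        have := Nat.le_of_dvd (by decide) h12
        have : p = 3 := by nlinarith
        subst this
        revert hpm; decide
      subst hp2
      have hmu : ∀ a : F, proj (upper a) * proj (upper a) = 1 := fun a => by
        rw [← sq]; exact (pow_p_upper 2 a).1
      have hml : proj (lower (1:F)) * proj (lower (1:F)) = 1 := by
        rw [← sq]; exact (pow_p_upper 2 (1:F)).2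
      have := A4_involutions (e ⟨_, hproj _ (hu _ (one_mem k))⟩) (e ⟨_, hproj _ (hl _ (one_mem k))⟩)
        (by rw [← map_mul, ← map_one e]; exact congrArg e (Subtype.ext (hmu 1)))
        (by rw [← map_mul, ← map_one e]; exact congrArg e (Subtype.ext hml))
      rw [← map_mul, ← map_mul] at this
      exact proj_upper_lower_comm_ne one_ne_zero one_ne_zero (congrArg Subtype.val (e.injective this))
    · rw [Nat.card_congr e.toEquiv, Nat.card_perm, Nat.card_fin] at hpm
      have hp2 : p = 2 := by
        by_contra h
        have h3 : 3 ≤ p := by have := hp.two_le; omega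
        have h5 := Nat.le_of_dvd (by decide) hpm
        simp only [Nat.factorial] at h5
        have : p < 5 := by nlinarith
        interval_cases p
        · revert hpm; decide
        · exact absurd hp (by decide)
      subst hp2
      obtain ⟨x, hx2, hx4⟩ := S4_four
      obtain ⟨g, hg, eg⟩ := (e.symm x).2
      have hne : proj g ≠ 1 := by
        intro e1
        apply hx2
        have : e.symm x = 1 := Subtype.ext (eg ▸ e1)
        rw [MulEquiv.map_eq_one_iff] at this
        simp [this]
      have h4' : proj g ^ 4 = 1 := by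
        have := congrArg (fun y => ((e.symm y : M) : PSLtwo F)) hx4
        simpa [eg, map_pow] using this
      have h20 : (2 : F) = 0 := CharP.cast_eq_zero F 2
      have htr0 : tr g = 0 := by
        rcases (tr_of_pow hne).2.2.1 h4' with h | h
        · exact h
        · rw [h20] at h
          exact mul_self_eq_zero.1 h
      apply hx2
      have hgg : proj g * proj g = 1 := by
        rw [← map_mul, proj_eq_one_iff, mem_center_iff_entries]
        have hd := det_entries g
        simp only [tr] at htr0
        refine ⟨?_, ?_, ?_⟩ <;> simp [mul_01, mul_10, mul_00, mul_11]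
        · linear_combination g 0 1 * htr0
        · linear_combination g 1 0 * htr0
        · linear_combination (g 0 0 - g 1 1) * htr0
      have := congrArg e (show (e.symm x : M) * e.symm x = 1 from Subtype.ext (by
        rw [Subgroup.coe_mul, ← eg]; exact hgg))
      simpa using this
    · have hpm' : p ^ m ∣ 60 := by
        have := hm ▸ hSdvd
        rw [Nat.card_congr e.toEquiv, nat_card_alternatingGroup, Nat.card_fin] at this
        simpa [Nat.factorial] using this
      have hp2 : p = 2 := by
        by_contra h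
        have h3 : 3 ≤ p := by have := hp.two_le; omega
        have h5 := dvd_trans (pow_dvd_pow p (show 2 ≤ m by omega)) hpm'
        have : p ≤ 7 := by have := Nat.le_of_dvd (by decide) h5; nlinarith
        interval_cases p <;> revert h5 hp <;> decide
      subst hp2
      have hm2 : m ≤ 2 := by
        by_contra h
        exact absurd (dvd_trans (pow_dvd_pow 2 (show 3 ≤ m by omega)) hpm') (by decide)
      have hk2 : Nat.card k = 2 := by rw [hn, show n = 1 by omega, pow_one]
      have h20 : (2 : F) = 0 := CharP.cast_eq_zero F 2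
      -- the trace of `upper t * lower 1` is `t`
      have hne := proj_upper_lower_ne_one (b := (1:F)) ht0
      have hmem : proj (upper t * lower (1 : F)) ∈ M := hproj _ (mul_mem hut (hl _ (one_mem k)))
      have htt := tr_of_pow hne
      rw [tr_upper_lower, h20, zero_add, mul_one] at htt
      have ht1 : t ≠ 1 := fun e1 => ht (e1 ▸ one_mem k)
      have ht4 : t * t + t + 1 = 0 := by
        have hord := A5_orders (e ⟨_, hmem⟩)
        simp only [← map_mul, ← map_pow, MulEquiv.map_eq_one_iff, Subtype.ext_iff, Subgroup.coe_mul,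
          SubmonoidClass.coe_pow, OneMemClass.coe_one] at hord
        rcases hord with h | h | h
        · exact absurd (htt.1 h) ht0
        · have h1 := htt.2.1 h
          exact absurd (show (t - 1) * (t - 1) = 0 by linear_combination h1 + (1 - t) * h20)
            (mul_ne_zero (sub_ne_zero.2 ht1) (sub_ne_zero.2 ht1))
        · have h1 := htt.2.2.2 h
          have e0 : (t * t + t + 1) * (t * t + t + 1) = 0 := by
            linear_combination h1 + (t ^ 3 + 3 * t ^ 2 + t) * h20
          exact mul_self_eq_zero.1 e0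
      have hfin : ∀ a : F, a ∈ k → a = 0 ∨ a = 1 := by
        intro a ha
        by_contra hcon
        rw [not_or] at hcon
        have hsub : ({⟨0, zero_mem k⟩, ⟨1, one_mem k⟩, ⟨a, ha⟩} : Finset k).card ≤ 2 :=
          (Finset.card_le_univ _).trans_eq (by rw [← Nat.card_eq_fintype_card, hk2])
        rw [Finset.card_insert_of_notMem (by simp [Subtype.ext_iff, Ne.symm hcon.1]),
          Finset.card_insert_of_notMem (by simp [Subtype.ext_iff, Ne.symm hcon.2]), Finset.card_singleton] at hsub
        omega
      -- the elements fixed by the fourth power form a subfield containing `t`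
      let L : Subfield F := RingHom.eqLocusField (iterateFrobenius F 2 2) (RingHom.id F)
      have hmemL : ∀ a : F, a ∈ L ↔ a ^ 4 = a := fun a => by
        show iterateFrobenius F 2 2 a = a ↔ _
        rw [iterateFrobenius_def]; norm_num
      have hkL : k ≤ L := fun a ha => (hmemL a).2 (by rcases hfin a ha with rfl | rfl <;> simp)
      rcases hmax L hkL with h | h
      · exact ht (h ▸ (hmemL t).2 (by linear_combination (t * t - t) * ht4))
      · have hall : ∀ a : F, a ^ 4 = a := fun a => (hmemL a).1 (h ▸ Subfield.mem_top a)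
        have hcard : Fintype.card F ≤ 4 := by
          have hP : (Polynomial.X ^ 4 - Polynomial.X : Polynomial F) ≠ 0 :=
            FiniteField.X_pow_card_sub_X_ne_zero F (by norm_num)
          have hsub : (Finset.univ : Finset F).val ≤ (Polynomial.X ^ 4 - Polynomial.X : Polynomial F).roots := by
            refine (Multiset.le_iff_subset Finset.univ.nodup).2 fun a _ => ?_
            rw [Polynomial.mem_roots hP]
            simp [hall a]
          exact (Multiset.card_le_card hsub).trans ((Polynomial.card_roots' _).trans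
            (by rw [FiniteField.X_pow_card_sub_X_natDegree_eq F (by norm_num)]))
        refine hM (Subgroup.eq_top_of_le_card _ ?_)
        rw [card_PSL, Nat.card_congr e.toEquiv, nat_card_alternatingGroup, Nat.card_fin]
        refine le_trans (Nat.div_le_self _ _) ?_
        have : Fintype.card F ^ 2 - 1 ≤ 15 := by
          have := Nat.pow_le_pow_left hcard 2
          omega
        calc Fintype.card F * (Fintype.card F ^ 2 - 1) ≤ 4 * 15 := Nat.mul_le_mul hcard this
          _ = _ := by decide
  · -- the subfield contains `k` and `t`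
    have hmem : ∀ a, upper a ∈ R → a ∈ L := by
      intro a ha
      have h1 := htr a 1 (hproj _ ha) (hproj _ (hl _ (one_mem k)))
      have h2 := htr (-a) 1 (hproj _ (by have := inv_mem ha; rwa [upper_inv] at this)) (hproj _ (hl _ (one_mem k)))
      rw [mul_one] at h1 h2
      by_cases h2' : p = 2
      · subst h2'
        have h20 : (2 : F) = 0 := CharP.cast_eq_zero F 2
        rw [h20, zero_add] at h1
        haveI : CharP L 2 := RingHom.charP L.subtype Subtype.val_injective 2
        obtain ⟨⟨b, hb⟩, eb⟩ := (Finite.injective_iff_surjective.1 (frobenius_inj L 2)) ⟨a ^ 2, h1⟩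
        have : frobenius F 2 b = frobenius F 2 a := congrArg Subtype.val eb
        rwa [← frobenius_inj F 2 this]
      · have h20 : (2 : F) ≠ 0 := by
          rw [← Nat.cast_two, Ne, CharP.cast_eq_zero_iff F p]
          exact fun hd => h2' ((Nat.prime_dvd_prime_iff_eq hp Nat.prime_two).1 hd)
        have h8 : (2 : F) * 2 * 2 * a ∈ L := by
          have := sub_mem h1 h2
          convert this using 1
          ring
        have h3 : (2 : F) * 2 * 2 ∈ L := by
          have := (natCast_mem L 8); convert this using 1; norm_num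
        have := div_mem h8 h3
        rwa [mul_div_cancel_left₀ _ (mul_ne_zero (mul_ne_zero h20 h20) h20)] at this
    rcases hmax L (fun a ha => hmem a (hu a ha)) with h | h
    · exact ht (h ▸ hmem t hut)
    · exact hL h

/-- Root elements over `k` and scaled opposite ones. -/
theorem mem_or_of_pair (p : ℕ) [Fact p.Prime] [CharP F p] (hp2 : p ≠ 2)
    (hmax : ∀ L : Subfield F, k ≤ L → L = k ∨ L = ⊤) (hk : k ≠ ⊤)
    {R : Subgroup (SLtwo F)} {c : F} (hc : c ≠ 0) (hu : ∀ a ∈ k, upper a ∈ R)
    (hl : ∀ a ∈ k, lower (a * c) ∈ R) (hR : ∀ a, upper a ∈ R → a ∈ k) :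
    c ∈ k ∨ (Nat.card k = 3 ∧ c * c = -1) := by
  classical
  have hp := (Fact.out : p.Prime)
  have h20 : (2 : F) ≠ 0 := by
    rw [← Nat.cast_two, Ne, CharP.cast_eq_zero_iff F p]
    exact fun hd => hp2 ((Nat.prime_dvd_prime_iff_eq hp Nat.prime_two).1 hd)
  set M := R.map proj with hMdef
  have hproj : ∀ g ∈ R, proj g ∈ M := fun g hg => Subgroup.mem_map_of_mem _ hg
  have hcard : Nat.card k ∣ Nat.card M := card_dvd_of_upper k.toAddSubgroup fun a ha => hproj _ (hu a ha)
  have hM : M ≠ ⊤ := by
    intro hM
    obtain ⟨a, ha⟩ : ∃ a, a ∉ k := by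
      by_contra h
      push Not at h
      exact hk (eq_top_iff.2 fun a _ => h a)
    obtain ⟨g, hg, e⟩ := (hM.symm ▸ Subgroup.mem_top _ : proj (upper (a / 2)) ∈ M)
    haveI : NeZero (2 : F) := ⟨h20⟩
    have e2 : upper (a / 2) * upper (a / 2) = g * g := by
      rcases proj_eq_proj_iff.1 e with e | e <;> rw [e]
      simp
    rw [upper_mul, add_halves] at e2
    exact ha (hR a (e2 ▸ mul_mem hg hg))
  have hlc : lower c ∈ R := by have := hl 1 (one_mem k); rwa [one_mul] at this
  have hlc' : lower (-c) ∈ R := by have := hl (-1) (neg_mem (one_mem k)); rwa [neg_one_mul] at this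
  rcases small_or_trace p hM (fun h => absurd h hp2) one_ne_zero hc (hproj _ (hu _ (one_mem k)))
    (hproj _ hlc) with hs | ⟨L, hL, htr⟩
  · have hne := proj_upper_lower_ne_one (b := c) (one_ne_zero (α := F))
    have hne' := proj_upper_lower_ne_one (b := -c) (one_ne_zero (α := F))
    have hmem : proj (upper 1 * lower c) ∈ M := hproj _ (mul_mem (hu _ (one_mem k)) hlc)
    have hmem' : proj (upper 1 * lower (-c)) ∈ M := hproj _ (mul_mem (hu _ (one_mem k)) hlc')
    have ht := tr_of_pow hne
    have ht' := tr_of_pow hne'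
    rw [tr_upper_lower, one_mul] at ht ht'
    obtain ⟨n, hn0, hn⟩ : ∃ n, 1 ≤ n ∧ Nat.card k = p ^ n := by
      haveI : CharP k p := RingHom.charP k.subtype Subtype.val_injective p
      obtain ⟨n, -, e⟩ := FiniteField.card k p
      exact ⟨n, n.pos, by rw [Nat.card_eq_fintype_card, e]⟩
    have hp3 : 3 ≤ p := by have := hp.two_le; omega
    have hkey : ∀ N : ℕ, Nat.card M ∣ N → N ∣ 120 →
        (Nat.card k = 3 ∧ p = 3) ∨ (Nat.card k = 5 ∧ p = 5) := by
      intro N h1 h2
      have hd : p ^ n ∣ 120 := dvd_trans (hn ▸ hcard) (dvd_trans h1 h2)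
      have hp5 : p ≤ 5 := by
        have h3 : p ∣ 2 * 2 * 2 * 3 * 5 := dvd_trans (dvd_pow_self p (by omega)) hd
        rcases hp.dvd_mul.1 h3 with h | h
        · rcases hp.dvd_mul.1 h with h | h
          · rcases hp.dvd_mul.1 h with h | h
            · rcases hp.dvd_mul.1 h with h | h <;> have := Nat.le_of_dvd (by decide) h <;> omega
            · have := Nat.le_of_dvd (by decide) h; omega
          · have := Nat.le_of_dvd (by decide) h; omega
        · have := Nat.le_of_dvd (by decide) h; omega
      have hn1 : n = 1 := by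
        by_contra h
        have := dvd_trans (pow_dvd_pow p (show 2 ≤ n by omega)) hd
        interval_cases p <;> revert this hp <;> decide
      subst hn1
      rw [pow_one] at hn
      interval_cases p
      · exact Or.inl ⟨hn, rfl⟩
      · exact absurd hp (by decide)
      · exact Or.inr ⟨hn, rfl⟩
    -- prime field elements lie in `k`
    have hint : ∀ z : ℤ, (z : F) ∈ k := fun z => intCast_mem k z
    have hin : ∀ z : ℤ, 2 + c = (z : F) → c ∈ k := fun z h => by
      have : c = ((z - 2 : ℤ) : F) := by push_cast; linear_combination h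
      exact this ▸ hint _
    have hin' : ∀ z : ℤ, 2 + -c = (z : F) → c ∈ k := fun z h => by
      have : c = ((2 - z : ℤ) : F) := by push_cast; linear_combination -h
      exact this ▸ hint _
    have sq1 : ∀ x : F, x * x = 1 → x = ((1 : ℤ) : F) ∨ x = ((-1 : ℤ) : F) := fun x h => by
      rcases mul_self_eq_one_iff.1 h with rfl | rfl <;> simp
    rcases hs with ⟨⟨e⟩⟩ | ⟨⟨e⟩⟩ | ⟨⟨e⟩⟩
    · refine Or.inl ?_
      have h := A4_orders (e ⟨_, hmem⟩)
      simp only [← map_mul, ← map_pow, MulEquiv.map_eq_one_iff, Subtype.ext_iff, Subgroup.coe_mul,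
        SubmonoidClass.coe_pow, OneMemClass.coe_one] at h
      rcases h with h | h
      · exact hin 0 (by rw [ht.1 h]; simp)
      · rcases sq1 _ (ht.2.1 h) with h1 | h1 <;> exact hin _ h1
    · refine Or.inl ?_
      have hN := hkey 24 (by rw [Nat.card_congr e.toEquiv, Nat.card_perm, Nat.card_fin]; decide) (by decide)
      rcases hN with ⟨hk3, rfl⟩ | ⟨hk5, rfl⟩
      · have h3 : (3 : F) = 0 := CharP.cast_eq_zero F 3
        have g := S4_orders (e ⟨_, hmem⟩)
        have g' := S4_orders (e ⟨_, hmem'⟩)
        simp only [← map_mul, ← map_pow, MulEquiv.map_eq_one_iff, Subtype.ext_iff, Subgroup.coe_mul,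
          SubmonoidClass.coe_pow, OneMemClass.coe_one] at g g'
        rcases g with h | h | h
        · exact hin 0 (by rw [ht.1 h]; simp)
        · rcases sq1 _ (ht.2.1 h) with h1 | h1 <;> exact hin _ h1
        rcases g' with h' | h' | h'
        · exact hin' 0 (by rw [ht'.1 h']; simp)
        · rcases sq1 _ (ht'.2.1 h') with h1 | h1 <;> exact hin' _ h1
        rcases ht.2.2.1 h with h1 | h1
        · exact hin 0 (by rw [h1]; simp)
        rcases ht'.2.2.1 h' with h2 | h2
        · exact hin' 0 (by rw [h2]; simp)
        exact absurd (show (2 : F) * 2 * 2 * c = 0 by linear_combination h1 - h2)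
          (mul_ne_zero (mul_ne_zero (mul_ne_zero h20 h20) h20) hc)
      · have := hcard
        rw [hk5, Nat.card_congr e.toEquiv, Nat.card_perm, Nat.card_fin] at this
        exact absurd this (by decide)
    · have hN := hkey 60 (by rw [Nat.card_congr e.toEquiv, nat_card_alternatingGroup, Nat.card_fin]; decide)
        (by decide)
      have g := A5_orders (e ⟨_, hmem⟩)
      have g' := A5_orders (e ⟨_, hmem'⟩)
      simp only [← map_mul, ← map_pow, MulEquiv.map_eq_one_iff, Subtype.ext_iff, Subgroup.coe_mul,
        SubmonoidClass.coe_pow, OneMemClass.coe_one] at g g'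
      rcases g with h | h | h
      · exact Or.inl (hin 0 (by rw [ht.1 h]; simp))
      · exact Or.inl (by rcases sq1 _ (ht.2.1 h) with h1 | h1 <;> exact hin _ h1)
      rcases g' with h' | h' | h'
      · exact Or.inl (hin' 0 (by rw [ht'.1 h']; simp))
      · exact Or.inl (by rcases sq1 _ (ht'.2.1 h') with h1 | h1 <;> exact hin' _ h1)
      have h1 := ht.2.2.2 h
      have h2 := ht'.2.2.2 h'
      rcases hN with ⟨hk3, rfl⟩ | ⟨hk5, rfl⟩
      · have h3 : (3 : F) = 0 := CharP.cast_eq_zero F 3
        refine Or.inr ⟨hk3, ?_⟩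
        -- x⁴ - 3 x² + 1 at `2 + c` and at `2 - c`
        have e0 : c * (c * c + 1) = 0 := by
          linear_combination h1 - h2 + (-(5 * c ^ 3) - 13 * c) * h3
        rcases mul_eq_zero.1 e0 with e1 | e1
        · exact absurd e1 hc
        · linear_combination e1
      · refine Or.inl ?_
        have h5 : (5 : F) = 0 := CharP.cast_eq_zero F 5
        have key : ((2 + c) - 2) * ((2 + c) + 2) = 0 := by
          have : (((2 + c) - 2) * ((2 + c) + 2)) * (((2 + c) - 2) * ((2 + c) + 2)) = 0 := by
            linear_combination h1 + (-((2 + c) ^ 2) + 3) * h5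
          exact mul_self_eq_zero.1 this
        rcases mul_eq_zero.1 key with h3 | h3
        · exact hin 2 (by push_cast; linear_combination h3)
        · exact hin (-2) (by push_cast; linear_combination h3)
  · refine Or.inl ?_
    have h3 : ∀ a ∈ k, a * c ∈ L := by
      intro a ha
      have h1 := htr 1 (a * c) (hproj _ (hu _ (one_mem k))) (hproj _ (hl a ha))
      have h2 := htr 1 (-(a * c)) (hproj _ (hu _ (one_mem k))) (hproj _ (by
        have := hl (-a) (neg_mem ha)
        rwa [neg_mul] at this))
      rw [one_mul] at h1 h2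
      have h8 : (2 : F) * 2 * 2 * (a * c) ∈ L := by
        have := sub_mem h1 h2
        convert this using 1
        ring
      have h3 : (2 : F) * 2 * 2 ∈ L := by
        have := (natCast_mem L 8); convert this using 1; norm_num
      have := div_mem h8 h3
      rwa [mul_div_cancel_left₀ _ (mul_ne_zero (mul_ne_zero h20 h20) h20)] at this
    have hcL : c ∈ L := by simpa using h3 1 (one_mem k)
    have hkL : k ≤ L := fun a ha => by
      have := div_mem (h3 a ha) hcL
      rwa [mul_div_cancel_right₀ _ hc] at this
    rcases hmax L hkL with h | h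
    · exact h ▸ hcL
    · exact absurd h hL

end Cfsg.Agent.Lib.ChevSubfield
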