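import Cfsg.Agent.Lib.ChevSubfield.Coord
import Cfsg.Agent.Lib.ChevSubfield.SLTwo
import Cfsg.Agent.Lib.ChevField.Fixed

/-!
The group of rational points and overgroups containing a full root subgroup.
-/

set_option autoImplicit false

namespace Cfsg.Agent.Lib.ChevSubfield

open Cfsg.Lie Cfsg.Agent.Lib.Chev Cfsg.Agent.Lib.ChevField

/-- A maximal subfield given as a fixed field. -/
structure SubData (K : Type*) [Field K] where
  /-- the subfield -/
  k : Subfield K
  /-- the endomorphism fixing exactly the subfield -/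
  σ : K →+* K
  fix : ∀ x, σ x = x ↔ x ∈ k
  ne_top : k ≠ ⊤
  max : ∀ L : Subfield K, k ≤ L → L = k ∨ L = ⊤

variable {D : ChevalleyDatum} {C : Cert} {K : Type*} [Field K]

/-- The rational points. -/
def ratGroup (D : ChevalleyDatum) (S : SubData K) : Subgroup (GL D.Idx K) :=
  D.group K ⊓ MonoidHom.eqLocus (glMap D S.σ) (MonoidHom.id _)

theorem mem_ratGroup {S : SubData K} {g : GL D.Idx K} :
    g ∈ ratGroup D S ↔ g ∈ D.group K ∧ glMap D S.σ g = g := Iff.rfl

theorem ratGroup_le (S : SubData K) : ratGroup D S ≤ D.group K := inf_le_left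

theorem ratGroup_iff_entries {S : SubData K} {g : GL D.Idx K} :
    g ∈ ratGroup D S ↔ g ∈ D.group K ∧ ∀ i j, (g : Matrix D.Idx D.Idx K) i j ∈ S.k := by
  rw [mem_ratGroup]
  refine and_congr Iff.rfl ⟨fun e i j => (S.fix _).1 ?_, fun e => Units.ext (Matrix.ext fun i j => ?_)⟩
  · have := congrArg (fun x : GL D.Idx K => (x : Matrix D.Idx D.Idx K) i j) e
    simpa [coe_glMap] using this
  · exact (S.fix _).2 (e i j)

section

variable (hh : Rooted D C) (S : SubData K)
include hh

theorem xGL_mem_rat {r : ℕ} (hr : r < D.nroots) {t : K} (ht : t ∈ S.k) : xGL hh.toChecked K hr t ∈ ratGroup D S :=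
  ⟨hh.toChecked.xGL_mem_group hr t, by
    show glMap D S.σ _ = _
    rw [glMap_xGL, (S.fix t).2 ht]; rfl⟩

theorem xGL_rat_iff {r : ℕ} (hr : r < D.nroots) {t : K} : xGL hh.toChecked K hr t ∈ ratGroup D S ↔ t ∈ S.k := by
  refine ⟨fun h => ?_, xGL_mem_rat hh S hr⟩
  have e : glMap D S.σ (xGL hh.toChecked K hr t) = xGL hh.toChecked K hr t := h.2
  rw [glMap_xGL] at e
  exact (S.fix t).1 (hh.toChecked.x_injective hr (congrArg Units.val e))

theorem nProd_mem_rat {L : List ℕ} (hL : IsWord D L) : nProd hh.toChecked K L ∈ ratGroup D S :=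
  ⟨hh.monomial_le_group (hh.nProd_mem_monomial hL), by
    show glMap D S.σ _ = _
    rw [glMap_nProd]; rfl⟩

theorem nS_mem_rat {i : ℕ} (hi : i < D.rank) : nS hh.toChecked K i ∈ ratGroup D S := by
  have := nProd_mem_rat hh S (L := [i]) (by simp [IsWord, hi])
  rwa [nProd_singleton] at this

omit hh in
theorem weta_cases (L : List ℕ) (r : ℕ) : weta C L r = 1 ∨ weta C L r = -1 := by
  induction L with
  | nil => exact Or.inl rfl
  | cons i L ih =>
    simp only [weta]
    rcases ih with e | e <;> rcases eta_cases (C := C) i (perm C L r) with e' | e' <;> simp [e, e']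

theorem conj_nProd {L : List ℕ} (hL : IsWord D L) {r : ℕ} (hr : r < D.nroots) (t : K) :
    nProd hh.toChecked K L * xGL hh.toChecked K hr t * (nProd hh.toChecked K L)⁻¹ =
      xGL hh.toChecked K (hh.toChecked.perm_lt hL hr) ((weta C L r : K) * t) := by
  rw [mul_inv_eq_iff_eq_mul]
  exact Units.ext (by rw [Units.val_mul, Units.val_mul, coe_xGL, coe_xGL]; exact hh.toChecked.nProd_mul_x hL hr t)

/-- A fixed torus element. -/
theorem torus_mem_rat {c : ℕ → Kˣ} (hG : torusHom D K c ∈ D.group K)
    (h : ∀ s < D.nroots, (torusFun D c s : K) ∈ S.k) : torusHom D K c ∈ ratGroup D S := by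
  refine ratGroup_iff_entries.2 ⟨hG, fun i j => ?_⟩
  rw [coe_torusHom, ChevalleyDatum.charDiag, Matrix.diagonal_apply]
  split_ifs with e
  · rcases i with i | s
    · simp [one_mem]
    · exact h s.1 s.2
  · exact zero_mem _

theorem glMap_parabolic {J : Set ℕ} (σ : K →+* K) {g : GL D.Idx K} (hg : g ∈ D.parabolicSubgroup K J) :
    glMap D σ g ∈ D.parabolicSubgroup K J := by
  suffices (D.parabolicSubgroup K J).map (glMap D σ) ≤ D.parabolicSubgroup K J from
    this (Subgroup.mem_map_of_mem _ hg)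
  rw [ChevalleyDatum.parabolicSubgroup, Subgroup.map_sup]
  refine sup_le_sup ?_ ?_
  · rintro _ ⟨b, hb, rfl⟩
    exact glMap_borel hh σ hb
  · rw [MonoidHom.map_closure, Subgroup.closure_le]
    rintro _ ⟨x, ⟨j, hjJ, hj, e⟩, rfl⟩
    have ex : x = nS hh.toChecked K j := Units.ext (by rw [e, coe_nS _ hj])
    refine Subgroup.subset_closure ⟨j, hjJ, hj, ?_⟩
    rw [ex, glMap_nS, coe_nS _ hj]

/-- A coset of a parabolic subgroup fixed by the field endomorphism has a rational representative. -/
theorem exists_rat_rep {J : Finset ℕ} (hJ : J ⊆ Finset.range D.rank) {g : GL D.Idx K} (hg : g ∈ D.group K)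
    (hfix : g⁻¹ * glMap D S.σ g ∈ D.parabolicSubgroup K (J : Set ℕ)) :
    ∃ m ∈ ratGroup D S, m⁻¹ * g ∈ D.parabolicSubgroup K (J : Set ℕ) := by
  have h := hh.toChecked
  set P := D.parabolicSubgroup K (J : Set ℕ) with hP
  obtain ⟨w, hw⟩ := hh.exists_bcell hg
  obtain ⟨q, hq, w', hw', hgq⟩ := hh.parabolic_exists hJ hw
  have hσq : glMap D S.σ (g * q) ∈ bcell hh.toChecked K w' := by
    obtain ⟨L, hL, e⟩ := h.exists_word_of_weyl (bcell_mem_weyl hgq)
    obtain ⟨b, hb, c, hc, e'⟩ := hh.exists_of_mem_bcell hL (e.symm ▸ hgq)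
    rw [e', map_mul, map_mul, glMap_nProd]
    refine bcell_mul_right (bcell_mul_left (glMap_borel hh _ hb) ?_) (glMap_borel hh _ hc)
    exact e ▸ hh.nProd_mem_bcell hL
  have hp : (g * q)⁻¹ * glMap D S.σ (g * q) ∈ P := by
    have : (g * q)⁻¹ * glMap D S.σ (g * q) = q⁻¹ * (g⁻¹ * glMap D S.σ g) * glMap D S.σ q := by
      rw [map_mul]; group
    rw [this]
    exact mul_mem (mul_mem (inv_mem hq) hfix) (glMap_parabolic hh _ hq)
  obtain ⟨-, hB⟩ := hh.parabolic_inj hJ hgq hσq hw' hw' hp
  obtain ⟨L, hL, b, hb, u, hu, e⟩ := hh.exists_canonical (inv_mem (mul_mem hg (hh.parabolic_le_group J hq)))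
  have e1 : glMap D S.σ (g * q)⁻¹ = ((g * q)⁻¹ * glMap D S.σ (g * q))⁻¹ * (g * q)⁻¹ := by
    rw [map_inv]; group
  obtain ⟨-, eu⟩ := hh.canonical_unique hL (glMap_borel hh S.σ hb)
    (mul_mem (inv_mem hB) hb) (glMap_rootGen S.σ hu) hu (by
      calc glMap D S.σ b * nProd hh.toChecked K L * glMap D S.σ u = glMap D S.σ (g * q)⁻¹ := by
            rw [e, map_mul, map_mul, glMap_nProd]
        _ = _ := by rw [e1, e]; group)
  refine ⟨u⁻¹ * (nProd hh.toChecked K L)⁻¹,
    mul_mem (inv_mem ⟨?_, eu⟩) (inv_mem (nProd_mem_rat hh S hL)), ?_⟩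
  · exact h.posUnipotent_le_group (by rw [h.posUnipotent_eq]; exact rootGen_mono (h.invSet_subset L) hu)
  have : (u⁻¹ * (nProd hh.toChecked K L)⁻¹)⁻¹ * g = b⁻¹ * q⁻¹ := by
    have h2 : g * q = u⁻¹ * (nProd hh.toChecked K L)⁻¹ * b⁻¹ := by
      rw [← inv_inv (g * q), e]; group
    calc _ = (u⁻¹ * (nProd hh.toChecked K L)⁻¹)⁻¹ * (g * q) * q⁻¹ := by group
      _ = _ := by rw [h2]; group
  rw [this]
  exact mul_mem (inv_mem (Subgroup.mem_sup_left hb)) (inv_mem hq)

end

section

variable (hh : Rooted D C)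
include hh

/-- The whole root subgroup lies in `H`. -/
def Full (H : Subgroup (GL D.Idx K)) (r : ℕ) : Prop :=
  ∀ hr : r < D.nroots, ∀ t : K, xGL hh.toChecked K hr t ∈ H

variable {S : SubData K} {H : Subgroup (GL D.Idx K)} (hMH : ratGroup D S ≤ H)
include hMH

theorem full_refl {i r : ℕ} (hi : i < D.rank) (hr : r < D.nroots) (hf : Full hh H r) : Full hh H (refl C i r) := by
  intro hr' t
  have hn := hMH (nS_mem_rat hh S hi)
  have e := hh.toChecked.nS_conj_x (F := K) hi hr ((eta C i r : K) * t)
  rw [← mul_assoc, etaF_sq, one_mul] at e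
  have : xGL hh.toChecked K hr' t =
      nS hh.toChecked K i * xGL hh.toChecked K hr ((eta C i r : K) * t) * (nS hh.toChecked K i)⁻¹ := by
    rw [e, mul_inv_cancel_right]
  rw [this]
  exact mul_mem (mul_mem hn (hf hr _)) (inv_mem hn)

/-- One non-rational parameter gives the whole root subgroup and its opposite. -/
theorem full_of_notMem [Fintype K] (p : ℕ) [Fact p.Prime] [CharP K p]
    (hs : Twisted.chkEtaSigns D C = true) {r : ℕ} (hr : r < D.nroots) {t : K}
    (ht : t ∉ S.k) (htH : xGL hh.toChecked K hr t ∈ H) : Full hh H r ∧ Full hh H (ng D r) := by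
  obtain ⟨φ, -, hφ⟩ := hh.hasSL2 (F := K) hs r hr hr
  have hu : ∀ a, φ (SL2.upper a) = xGL hh.toChecked K hr a := fun a => (hφ a).1
  have hl : ∀ a, φ (SL2.lower a) = xGL hh.toChecked K (Checked.ng_lt hr) a := fun a => (hφ a).2
  have htop : H.comap φ = ⊤ := by
    refine eq_top_of_upper (k := S.k) p S.max (fun a ha => ?_) (fun a ha => ?_) ht ?_ <;> rw [Subgroup.mem_comap]
    · rw [hu]; exact hMH (xGL_mem_rat hh S hr ha)
    · rw [hl]; exact hMH (xGL_mem_rat hh S _ ha)
    · rwa [hu]
  refine ⟨fun hr' a => ?_, fun hr' a => ?_⟩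
  · rw [← hu a]; exact (htop.symm ▸ Subgroup.mem_top _ : SL2.upper a ∈ H.comap φ)
  · rw [← hl a]; exact (htop.symm ▸ Subgroup.mem_top _ : SL2.lower a ∈ H.comap φ)

theorem full_of_pairing [Fintype K] (p : ℕ) [Fact p.Prime] [CharP K p] {i j : ℕ}
    (hi : i < D.rank) (hj : j < D.rank) (hf : Full hh H (D.simple i))
    (hexp : okExp p (D.pairing (D.simple i) (D.simple j)) = true) : Full hh H (D.simple j) := by
  have h := hh.toChecked
  intro hj' u
  by_cases hu : u = 0
  · subst hu
    have : xGL hh.toChecked K hj' (0 : K) = 1 := Units.ext (by rw [coe_xGL, h.x_zero hj']; rfl)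
    rw [this]; exact one_mem H
  set a := D.simple i
  have ha : a < D.nroots := h.simple_lt hi
  have hfn : Full hh H (ng D a) := by
    have := full_refl hh hMH hi ha hf
    rwa [h.simple_refl hi] at this
  set m := D.pairing a (D.simple j)
  -- every unit is an `m`-th power
  have hsurj : Function.Surjective fun x : Kˣ => x ^ m := by
    haveI : Finite Kˣ := inferInstance
    refine Finite.injective_iff_surjective.1 fun x y e => ?_
    have hnat : x ^ m.natAbs = y ^ m.natAbs := by
      rcases Int.natAbs_eq m with e' | e'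
      · have e2 : x ^ m = y ^ m := e
        rw [e', zpow_natCast, zpow_natCast] at e2
        exact e2
      · have e2 : x ^ m = y ^ m := e
        rw [e', zpow_neg, zpow_neg, zpow_natCast, zpow_natCast, inv_inj] at e2
        exact e2
    simp only [okExp, Bool.or_eq_true, natBeq_iff] at hexp
    rcases hexp with e1 | e1 <;> rw [e1] at hnat
    · simpa using hnat
    · exact Units.ext (frobenius_inj K p (by
        simpa [frobenius_def] using congrArg Units.val hnat))
  obtain ⟨lam, hlam⟩ := hsurj (Units.mk0 u hu)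
  have hlet : ∀ z ∈ D.hWord a (lam : K), z.1 ∈ ({a, ng D a} : Set ℕ) := by
    intro z hz
    simp [ChevalleyDatum.hWord, ChevalleyDatum.nWord, h.neg_eq ha] at hz
    rcases hz with rfl | rfl | rfl | rfl | rfl | rfl <;> simp
  obtain ⟨g, hg, eg⟩ := h.exists_wordGL (F := K) (S := {a, ng D a}) (by
    rintro r (rfl | rfl)
    · exact ha
    · exact Checked.ng_lt ha) (D.hWord a (lam : K)) hlet
  have hgH : g ∈ H := by
    refine (Subgroup.closure_le _).2 ?_ hg
    rintro x ⟨r, t, (rfl | rfl), e⟩
    · have : x = xGL hh.toChecked K ha t := Units.ext e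
      exact this ▸ hf ha t
    · have : x = xGL hh.toChecked K (Checked.ng_lt ha) t := Units.ext e
      exact this ▸ hfn _ t
  have egt : g = torusHom D K (fun l => lam ^ cor D C l a) :=
    Units.ext (by rw [eg]; exact hh.hMat_torus ha lam)
  have hval : torusFun D (fun l => lam ^ cor D C l a) (D.simple j) = Units.mk0 u hu := by
    rw [← hlam, torusFun]
    show _ = lam ^ m
    rw [show m = D.pairing a (D.simple j) from rfl, h.pairing_eq ha]
    generalize Finset.range D.rank = T
    induction T using Finset.induction_on with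
    | empty => simp
    | insert b T hb ih => rw [Finset.prod_insert hb, Finset.sum_insert hb, ih, zpow_add, ← zpow_mul]
  have e := h.conj_x (c := fun l => lam ^ cor D C l a) hj' (1 : K)
  rw [hval, Units.val_mk0, mul_one, ← egt] at e
  rw [← e]
  exact mul_mem (mul_mem hgH (hMH (xGL_mem_rat hh S hj' (one_mem _)))) (inv_mem hgH)

omit hMH in
theorem eq_group_of_full_simple (hMH : ratGroup D S ≤ H) (hHG : H ≤ D.group K)
    (hall : ∀ j < D.rank, Full hh H (D.simple j)) : H = D.group K := by
  refine le_antisymm hHG ?_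
  rw [group_eq_rootGen, rootGen, Subgroup.closure_le]
  rintro g ⟨r, t, hr, e⟩
  have hf := hh.root_induction (P := fun r => Full hh H r) hall
    (fun i hi r hr hf => full_refl hh hMH hi hr hf) r hr
  have : g = xGL hh.toChecked K hr t := Units.ext e
  exact this ▸ hf hr t

theorem full_descend : ∀ fuel r i0, r < D.nroots → descend D C fuel r = some i0 → Full hh H r →
    Full hh H (D.simple i0)
  | 0, _, _, _, e, _ => by simp [descend] at e
  | fuel + 1, r, i0, hr, e, hf => by
    unfold descend at e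
    split at e
    · rename_i i hfind
      obtain rfl := Option.some.inj e
      have : r = D.simple i := natBeq_iff.1 (List.find?_some (p := fun i => Nat.beq r (D.simple i)) hfind)
      exact this ▸ hf
    split at e
    · rename_i i hfind
      have hi := List.mem_range.1 (List.mem_of_find?_eq_some hfind)
      exact full_descend fuel _ i0 (hh.toChecked.refl_lt hi hr) e (full_refl hh hMH hi hr hf)
    · simp at e

/-- A non-rational root element at a root of `Z` forces everything. -/
theorem eq_group_of_root [Fintype K] (p : ℕ) [Fact p.Prime] [CharP K p] {p' : ℕ} (hp' : ∀ m, okExp p' m = true → okExp p m = true)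
    (hs : Twisted.chkEtaSigns D C = true) (hHG : H ≤ D.group K) {Z : List ℕ} (hspread : chkSpread D C p' Z = true)
    {z : ℕ} (hz : z ∈ Z) (hzn : z < D.nroots) {t : K} (ht : t ∉ S.k) (htH : xGL hh.toChecked K hzn t ∈ H) :
    H = D.group K := by
  simp only [chkSpread, List.all_eq_true] at hspread
  have h1 := hspread z hz
  split at h1
  case h_2 => simp at h1
  rename_i i0 hd
  simp only [Bool.and_eq_true, Nat.blt_eq, allN_iff, List.contains_iff_mem] at h1
  obtain ⟨hi0, hall⟩ := h1
  have hf0 := full_descend hh hMH D.nroots z i0 hzn hd (full_of_notMem hh hMH p hs hzn ht htH).1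
  have key : ∀ n, ∀ j ∈ ((spreadStep D p')^[n] [i0]), j < D.rank ∧ Full hh H (D.simple j) := by
    intro n
    induction n with
    | zero => intro j hj; simp at hj; subst hj; exact ⟨hi0, hf0⟩
    | succ n ih =>
      intro j hj
      rw [Function.iterate_succ_apply', spreadStep, List.mem_filter, List.mem_range, Bool.or_eq_true,
        List.contains_iff_mem, List.any_eq_true] at hj
      refine ⟨hj.1, ?_⟩
      rcases hj.2 with hm | ⟨i, hi, he⟩
      · exact (ih j hm).2
      · exact full_of_pairing hh hMH p (ih i hi).1 hj.1 (ih i hi).2 (hp' _ he)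
  exact eq_group_of_full_simple hh hMH hHG fun j hj => (key _ j (hall j hj)).2

end

end Cfsg.Agent.Lib.ChevSubfield
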