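import Cfsg.Agent.Lib.ChevSubfield.Unipotent

/-!
The centre of the positive unipotent group in the two special characteristics.
-/

set_option autoImplicit false

namespace Cfsg.Agent.Lib.ChevSubfield

open Cfsg.Lie Cfsg.Agent.Lib.Chev Cfsg.Agent.Lib.ChevField

/-- An additive set of pairs closed under the twisted product contains a non-rational second axis. -/
theorem exists_axis {K : Type*} [Field K] [Fintype K] [CharP K 2] (S : SubData K) (L : AddSubgroup (K × K))
    (h1 : ∀ a ∈ S.k, (a, (0 : K)) ∈ L ∧ ((0 : K), a) ∈ L)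
    (hmul : ∀ p ∈ L, ∀ q ∈ L, (p.2 * q.1, p.2 * q.1 ^ 2) ∈ L)
    {β ν : K} (hβν : (β, ν) ∈ L) (hne : β ∉ S.k ∨ ν ∉ S.k) : ∃ x, x ∉ S.k ∧ ((0 : K), x) ∈ L := by
  classical
  let F₁ : AddSubgroup K := L.map (AddMonoidHom.fst K K)
  let F₂ : AddSubgroup K := L.map (AddMonoidHom.snd K K)
  have hmem1 : ∀ {p : K × K}, p ∈ L → p.1 ∈ F₁ := fun hp => ⟨_, hp, rfl⟩
  have hmem2 : ∀ {p : K × K}, p ∈ L → p.2 ∈ F₂ := fun hp => ⟨_, hp, rfl⟩
  have hprod : ∀ ν ∈ F₂, ∀ b ∈ F₁, (ν * b, ν * b ^ 2) ∈ L := by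
    rintro _ ⟨p, hp, rfl⟩ _ ⟨q, hq, rfl⟩
    exact hmul p hp q hq
  have hone1 : (1 : K) ∈ F₁ := hmem1 (h1 1 (one_mem _)).1
  have hone2 : (1 : K) ∈ F₂ := hmem2 (h1 1 (one_mem _)).2
  have h21 : F₂ ≤ F₁ := fun ν hν => by
    have := hmem1 (hprod ν hν 1 hone1)
    simpa using this
  have hsq : ∀ b ∈ F₁, b ^ 2 ∈ F₂ := fun b hb => by
    have := hmem2 (hprod 1 hone2 b hb)
    simpa using this
  have h12 : F₁ = F₂ := by
    refine (AddSubgroup.eq_of_le_of_card_ge h21 ?_).symm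
    refine Nat.card_le_card_of_injective (fun b : F₁ => (⟨b.1 ^ 2, hsq _ b.2⟩ : F₂)) fun a b e => ?_
    exact Subtype.ext (frobenius_inj K 2 (by simpa [frobenius_def] using congrArg Subtype.val e))
  have hmulF : ∀ a ∈ F₁, ∀ b ∈ F₁, a * b ∈ F₁ := fun a ha b hb => hmem1 (hprod a (h12 ▸ ha) b hb)
  have hpow : ∀ n : ℕ, ∀ a ∈ F₁, a ^ n ∈ F₁ := by
    intro n a ha
    induction n with
    | zero => simpa using hone1
    | succ n ih => rw [pow_succ]; exact hmulF _ ih _ ha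
  let L' : Subfield K :=
    { carrier := F₁
      mul_mem' := fun ha hb => hmulF _ ha _ hb
      one_mem' := hone1
      add_mem' := fun ha hb => add_mem ha hb
      zero_mem' := zero_mem _
      neg_mem' := fun ha => neg_mem ha
      inv_mem' := fun a ha => by
        by_cases h0 : a = 0
        · rw [h0, inv_zero]; exact zero_mem _
        have hc : 1 < Fintype.card K := Fintype.one_lt_card
        have : a⁻¹ = a ^ (Fintype.card K - 2) := by
          refine inv_eq_of_mul_eq_one_right ?_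
          rw [← pow_succ', show Fintype.card K - 2 + 1 = Fintype.card K - 1 by omega,
            FiniteField.pow_card_sub_one_eq_one a h0]
        rw [this]; exact hpow _ a ha }
  have hk : S.k ≤ L' := fun a ha => hmem1 (h1 a ha).1
  have htop : ∀ a, a ∈ F₁ := by
    rcases S.max L' hk with e | e
    · exfalso
      rcases hne with h | h
      · exact h (e ▸ (hmem1 hβν : β ∈ L'))
      · exact h (e ▸ (h21 (hmem2 hβν) : ν ∈ L'))
    · exact fun a => (e ▸ Subfield.mem_top a : a ∈ L')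
  obtain ⟨b, hb⟩ : ∃ b, b ∉ S.k := by
    by_contra h
    push Not at h
    exact S.ne_top (eq_top_iff.2 fun a _ => h a)
  have hb0 : b ≠ 0 := fun e => hb (e ▸ zero_mem _)
  have h20 : (2 : K) = 0 := CharP.cast_eq_zero K 2
  have hb1 : b + 1 ≠ 0 := fun e => hb (by
    rw [show b = 1 by linear_combination e - h20]; exact one_mem _)
  set ν₀ := b / (b * (b + 1))
  refine ⟨b, hb, ?_⟩
  have e1 := hprod ν₀ (h12 ▸ htop _) b (htop b)
  have e2 := hprod (ν₀ * b) (h12 ▸ htop _) 1 (htop 1)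
  have e3 := add_mem e1 e2
  have : (ν₀ * b + ν₀ * b * 1, ν₀ * b ^ 2 + ν₀ * b * 1 ^ 2) = ((0 : K), b) := by
    refine Prod.ext ?_ ?_
    · linear_combination ν₀ * b * h20
    · show ν₀ * b ^ 2 + ν₀ * b * 1 ^ 2 = b
      simp only [ν₀]
      field_simp
  rwa [Prod.mk_add_mk, this] at e3

variable {D : ChevalleyDatum} {C : Cert} {K : Type*} [Field K]

section

variable (hh : Rooted D C)
include hh

theorem commute_of_nil {r s : ℕ} (hr : r < D.nroots) (hs : s < D.nroots) (h1 : s ≠ r) (h2 : s ≠ ng D r)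
    (hnil : cTerms C r s = []) (t u : K) :
    xGL hh.toChecked K hs u * xGL hh.toChecked K hr t = xGL hh.toChecked K hr t * xGL hh.toChecked K hs u := by
  refine Units.ext ?_
  rw [Units.val_mul, Units.val_mul, coe_xGL, coe_xGL, hh.toChecked.commutator_formula hr hs h1 h2 t u,
    hh.toChecked.commWord_eq hr hs, hnil]
  simp [ChevalleyDatum.wordMat]

theorem mem_zGroup_one {z : ℕ} (hz : z < D.nroots) {v : GL D.Idx K} (hv : v ∈ zGroup D K [z]) :
    ∃ t, v = xGL hh.toChecked K hz t := by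
  refine (hh.toChecked.rootSubgroup_mem_iff hz).1 ?_
  refine (Subgroup.closure_le _).2 ?_ hv
  rintro x ⟨r, t, hr, e⟩
  simp only [List.mem_cons, List.not_mem_nil, or_false, Set.mem_setOf_eq] at hr
  subst hr
  exact Subgroup.subset_closure ⟨t, e⟩

theorem mem_zGroup_two {a b : ℕ} (ha : a < D.nroots) (hb : b < D.nroots)
    (hZ : IsCentralSet D C K [a, b]) {v : GL D.Idx K} (hv : v ∈ zGroup D K [a, b]) :
    ∃ t u, v = xGL hh.toChecked K ha t * xGL hh.toChecked K hb u := by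
  have h := hh.toChecked
  have hcomm : ∀ t u : K, xGL hh.toChecked K hb u * xGL hh.toChecked K ha t =
      xGL hh.toChecked K ha t * xGL hh.toChecked K hb u := fun t u =>
    (zGroup_central hh hZ ((h.posUnipotent_eq (F := K)).symm ▸
      mem_rootGen (hZ a (by simp)).1 (coe_xGL h ha t))
      (mem_rootGen (S := {r | r ∈ [a, b]}) (by simp) (coe_xGL h hb u)))
  induction hv using Subgroup.closure_induction with
  | mem x hx =>
    obtain ⟨r, t, hr, e⟩ := hx
    simp only [List.mem_cons, List.not_mem_nil, or_false, Set.mem_setOf_eq] at hr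
    rcases hr with rfl | rfl
    · exact ⟨t, 0, Units.ext (by rw [e, Units.val_mul, coe_xGL, coe_xGL, h.x_zero hb, mul_one])⟩
    · exact ⟨0, t, Units.ext (by rw [e, Units.val_mul, coe_xGL, coe_xGL, h.x_zero ha, one_mul])⟩
  | one => exact ⟨0, 0, Units.ext (by rw [Units.val_mul, coe_xGL, coe_xGL, h.x_zero ha, h.x_zero hb]; simp)⟩
  | mul x y _ _ ihx ihy =>
    obtain ⟨t, u, rfl⟩ := ihx
    obtain ⟨t', u', rfl⟩ := ihy
    refine ⟨t + t', u + u', ?_⟩
    rw [← h.xGL_add ha, ← h.xGL_add hb, mul_assoc, ← mul_assoc (xGL hh.toChecked K hb u), hcomm]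
    group
  | inv x _ ih =>
    obtain ⟨t, u, rfl⟩ := ih
    refine ⟨-t, -u, ?_⟩
    rw [mul_inv_rev, h.xGL_inv, h.xGL_inv, hcomm]

variable {S : SubData K} {H : Subgroup (GL D.Idx K)} (hMH : ratGroup D S ≤ H)
include hMH

/-- With a single central root. -/
theorem central_rat_one {z : ℕ} (hz : z < D.nroots)
    (hno : ∀ t, xGL hh.toChecked K hz t ∈ H → t ∈ S.k) :
    ∀ v ∈ zGroup D K [z], v ∈ H → v ∈ ratGroup D S := by
  intro v hv hvH
  obtain ⟨t, rfl⟩ := mem_zGroup_one hh hz hv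
  exact xGL_mem_rat hh S hz (hno t hvH)

/-- Type `G₂` in characteristic three. -/
theorem central_rat_g2 (hG : chkG2Top D C = true) (hr : 1 < D.rank) (hA : top D < D.nroots) (h9 : 9 < D.nroots)
    (hZ : IsCentralSet D C K [top D, 9]) (h6 : 6 ∈ posSet D)
    (hnoA : ∀ t, xGL hh.toChecked K hA t ∈ H → t ∈ S.k) (hno9 : ∀ t, xGL hh.toChecked K h9 t ∈ H → t ∈ S.k) :
    ∀ v ∈ zGroup D K [top D, 9], v ∈ H → v ∈ ratGroup D S := by
  intro v hv hvH
  have h := hh.toChecked
  obtain ⟨ν, β, rfl⟩ := mem_zGroup_two hh hA h9 hZ hv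
  simp only [chkG2Top, Bool.and_eq_true, decide_eq_true_eq, List.isEmpty_iff] at hG
  obtain ⟨⟨hr9, hrA, -⟩, h96, h106⟩ := hG
  suffices hν : ν ∈ S.k by
    have hx := xGL_mem_rat hh S hA hν
    have := mul_mem (inv_mem (hMH hx)) hvH
    rw [inv_mul_cancel_left] at this
    exact mul_mem hx (xGL_mem_rat hh S h9 (hno9 β this))
  have h10 : 10 < D.nroots := hrA ▸ h.refl_lt hr hA
  -- the reflection in the long fundamental root moves the highest root down
  set n := nS hh.toChecked K 1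
  have hn : n ∈ H := hMH (nS_mem_rat hh S hr)
  set e1 : K := (eta C 1 (top D) : K)
  set e2 : K := (eta C 1 9 : K)
  have econj : n * (xGL hh.toChecked K hA ν * xGL hh.toChecked K h9 β) * n⁻¹ =
      xGL hh.toChecked K h10 (e1 * ν) * xGL hh.toChecked K h9 (e2 * β) := by
    rw [mul_inv_eq_iff_eq_mul, ← mul_assoc, h.nS_conj_x hr hA, mul_assoc, h.nS_conj_x hr h9, ← mul_assoc]
    congr 2 <;> refine Units.ext ?_ <;> simp only [coe_xGL, hrA, hr9] <;> rfl
  set X := xGL hh.toChecked K h6.2 (1 : K)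
  set Y := xGL hh.toChecked K h10 (e1 * ν)
  set B := xGL hh.toChecked K h9 (e2 * β)
  have hYB : Y * B ∈ H := econj ▸ mul_mem (mul_mem hn hvH) (inv_mem hn)
  have hX : X ∈ H := hMH (xGL_mem_rat hh S h6.2 (one_mem _))
  have hBX : X * B = B * X := commute_of_nil hh h9 h6.2 (by omega)
    (Checked.ne_ng_of_pos (hZ 9 (by simp)).1 h6 h.two_mul_half) h96 _ _
  -- the commutator is a root element at the highest root
  obtain ⟨c, hc⟩ : ∃ c, cTerms C 10 6 = [c] := by
    rcases hl : cTerms C 10 6 with _ | ⟨c, _ | ⟨d, l⟩⟩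
    · simp [hl] at h106
    · exact ⟨c, rfl⟩
    · simp [hl] at h106
  rw [hc, List.map_cons, List.map_nil, List.cons.injEq, Prod.mk.injEq, Prod.mk.injEq] at h106
  obtain ⟨⟨hc1, hc2, hc3⟩, -⟩ := h106
  have hform : X * Y = Y * X * xGL hh.toChecked K hA ((c.2.1 : K) * (-(e1 * ν)) ^ 1 * 1 ^ 1) := by
    refine Units.ext ?_
    simp only [Units.val_mul, X, Y, coe_xGL]
    rw [h.commutator_formula h10 h6.2 (by omega)
      (fun e => by
        have h10p : 10 ∈ posSet D := ⟨le_trans h6.1 (by omega), h10⟩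
        exact Checked.ne_ng_of_pos h10p h6 h.two_mul_half e),
      h.commWord_eq h10 h6.2, hc]
    simp [ChevalleyDatum.wordMat, hc1, hc3]
  have hcomm : (Y * B * X)⁻¹ * (X * (Y * B)) = xGL hh.toChecked K hA ((c.2.1 : K) * (-(e1 * ν)) ^ 1 * 1 ^ 1) := by
    have hBA : xGL hh.toChecked K hA ((c.2.1 : K) * (-(e1 * ν)) ^ 1 * 1 ^ 1) * B =
        B * xGL hh.toChecked K hA ((c.2.1 : K) * (-(e1 * ν)) ^ 1 * 1 ^ 1) :=
      zGroup_central hh hZ ((h.posUnipotent_eq (F := K)).symm ▸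
        mem_rootGen (hZ 9 (by simp)).1 (coe_xGL h h9 (e2 * β)))
        (mem_rootGen (S := {r | r ∈ [top D, 9]}) (by simp) (coe_xGL h hA _))
    rw [← mul_assoc X Y B, hform, mul_assoc (Y * X), hBA, mul_assoc Y B X, ← hBX]
    group
  have := hnoA _ (hcomm ▸ mul_mem (inv_mem (mul_mem hYB hX)) (mul_mem hX hYB))
  have he1 : e1 = 1 ∨ e1 = -1 := by
    rcases eta_cases (C := C) 1 (top D) with e | e <;> simp [e1, e]
  have hm : (c.2.1 : K) = 1 ∨ (c.2.1 : K) = -1 := by
    rcases Int.natAbs_eq c.2.1 with e | e <;> rw [hc2] at e <;> simp [e]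
  simp only [pow_one, one_pow, mul_one] at this
  rcases he1 with e | e <;> rcases hm with e' | e' <;> simp [e, e'] at this <;> exact this

/-- Types `B₂` and `F₄` in characteristic two. -/
theorem central_rat_two [Fintype K] [CharP K 2] {As a b : ℕ} {L₁ L₂ : List ℕ}
    (hS : chkShortTop D C As a b L₁ L₂ = true) (hA : top D < D.nroots) (hAs : As < D.nroots)
    (hZ : IsCentralSet D C K [top D, As])
    (hnoA : ∀ t, xGL hh.toChecked K hA t ∈ H → t ∈ S.k) :
    ∀ v ∈ zGroup D K [top D, As], v ∈ H → v ∈ ratGroup D S := by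
  intro v hv hvH
  have h := hh.toChecked
  have h20 : (2 : K) = 0 := CharP.cast_eq_zero K 2
  have hm1 : (-1 : K) = 1 := by linear_combination -h20
  simp only [chkShortTop, Bool.and_eq_true, List.all_eq_true, Nat.blt_eq, Nat.ble_eq, natBeq_iff,
    Bool.not_eq_true', Bool.eq_false_iff, ne_eq] at hS
  obtain ⟨⟨⟨⟨⟨⟨⟨⟨⟨⟨⟨⟨hL1, hL2⟩, -⟩, ha⟩, hb⟩, hap⟩, hbp⟩, hab⟩, p1⟩, p2⟩, p3⟩, p4⟩, hshape⟩ := hS
  have hap' : a ∈ posSet D := ⟨hap, ha⟩
  have hbp' : b ∈ posSet D := ⟨hbp, hb⟩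
  obtain ⟨c, d, hcd⟩ : ∃ c d, cTerms C b a = [c, d] := by
    rcases hl : cTerms C b a with _ | ⟨c, _ | ⟨d, _ | ⟨e, l⟩⟩⟩ <;> simp [hl] at hshape
    exact ⟨c, d, rfl⟩
  rw [hcd] at hshape
  simp only [Bool.and_eq_true, decide_eq_true_eq] at hshape
  obtain ⟨⟨hc1, hc2, hc3⟩, hd1, hd2, hd3⟩ := hshape
  let X := fun t : K => xGL hh.toChecked K hAs t
  let Y := fun t : K => xGL hh.toChecked K hA t
  have hU : ∀ {r : ℕ} (hr : r ∈ posSet D) (t : K), xGL hh.toChecked K hr.2 t ∈ D.posUnipotent K := fun hr t => by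
    rw [h.posUnipotent_eq]; exact mem_rootGen hr (coe_xGL _ _ _)
  have hz1 : ∀ t, X t ∈ zGroup D K [top D, As] := fun t => mem_rootGen (by simp) (coe_xGL h hAs t)
  have hz2 : ∀ t, Y t ∈ zGroup D K [top D, As] := fun t => mem_rootGen (by simp) (coe_xGL h hA t)
  have cX : ∀ {g : GL D.Idx K}, g ∈ D.posUnipotent K → ∀ t, Commute (X t) g := fun hg t =>
    zGroup_central hh hZ hg (hz1 t)
  have cY : ∀ {g : GL D.Idx K}, g ∈ D.posUnipotent K → ∀ t, Commute (Y t) g := fun hg t =>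
    zGroup_central hh hZ hg (hz2 t)
  have hXU : ∀ t, X t ∈ D.posUnipotent K := fun t => hU (hZ As (by simp)).1 t
  let L : AddSubgroup (K × K) :=
    { carrier := {p | X p.1 * Y p.2 ∈ H}
      zero_mem' := by
        simp only [Set.mem_setOf_eq, Prod.fst_zero, Prod.snd_zero]
        exact mul_mem (hMH (xGL_mem_rat hh S _ (zero_mem _))) (hMH (xGL_mem_rat hh S _ (zero_mem _)))
      add_mem' := fun {p q} hp hq => by
        simp only [Set.mem_setOf_eq, Prod.fst_add, Prod.snd_add] at hp hq ⊢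
        have e : X (p.1 + q.1) * Y (p.2 + q.2) = X p.1 * Y p.2 * (X q.1 * Y q.2) := by
          simp only [X, Y]
          rw [← h.xGL_add hAs, ← h.xGL_add hA]
          have := (cY (hXU q.1) p.2).eq
          simp only [X, Y] at this
          rw [mul_assoc, ← mul_assoc (xGL hh.toChecked K hAs q.1), ← this]
          group
        exact e ▸ mul_mem hp hq
      neg_mem' := fun {p} hp => by
        simp only [Set.mem_setOf_eq, Prod.fst_neg, Prod.snd_neg] at hp ⊢
        have e : X (-p.1) * Y (-p.2) = (X p.1 * Y p.2)⁻¹ := by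
          have := ((cY (hXU p.1) p.2).eq)
          rw [← this, mul_inv_rev]
          simp only [X, Y, h.xGL_inv]
        exact e ▸ inv_mem hp }
  have hw1 : ∀ (Lw : List ℕ) (r : ℕ), (weta C Lw r : K) = 1 := fun Lw r => by
    rcases weta_cases (C := C) Lw r with e | e <;> simp [e, hm1]
  have hconj : ∀ (Lw : List ℕ) (hLw : IsWord D Lw) {r r' : ℕ} (hr : r < D.nroots) (hr' : r' < D.nroots),
      perm C Lw r = r' → ∀ t : K, nProd hh.toChecked K Lw * xGL hh.toChecked K hr t *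
        (nProd hh.toChecked K Lw)⁻¹ = xGL hh.toChecked K hr' t := by
    intro Lw hLw r r' hr hr' e t
    subst e
    rw [conj_nProd hh hLw hr, hw1, one_mul]
  have hmul : ∀ p ∈ L, ∀ q ∈ L, (p.2 * q.1, p.2 * q.1 ^ 2) ∈ L := by
    intro p hp q hq
    show X (p.2 * q.1) * Y (p.2 * q.1 ^ 2) ∈ H
    have hp' : X p.1 * Y p.2 ∈ H := hp
    have hq' : X q.1 * Y q.2 ∈ H := hq
    have P1 : X p.1 * xGL hh.toChecked K hb p.2 ∈ H := by
      have hn := hMH (nProd_mem_rat hh S hL1)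
      have e : nProd hh.toChecked K L₁ * (X p.1 * Y p.2) * (nProd hh.toChecked K L₁)⁻¹ =
          X p.1 * xGL hh.toChecked K hb p.2 := by
        simp only [X, Y]
        rw [← conj_mul, hconj L₁ hL1 hAs hAs p1, hconj L₁ hL1 hA hb p2]
      exact e ▸ mul_mem (mul_mem hn hp') (inv_mem hn)
    have P2 : xGL hh.toChecked K ha q.1 * Y q.2 ∈ H := by
      have hn := hMH (nProd_mem_rat hh S hL2)
      have e : nProd hh.toChecked K L₂ * (X q.1 * Y q.2) * (nProd hh.toChecked K L₂)⁻¹ =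
          xGL hh.toChecked K ha q.1 * Y q.2 := by
        simp only [X, Y]
        rw [← conj_mul, hconj L₂ hL2 hAs ha p4, hconj L₂ hL2 hA hA p3]
      exact e ▸ mul_mem (mul_mem hn hq') (inv_mem hn)
    set xb := xGL hh.toChecked K hb p.2
    set xa := xGL hh.toChecked K ha q.1
    have hform : xa * xb = xb * xa * (X (p.2 * q.1) * Y (p.2 * q.1 ^ 2)) := by
      refine Units.ext ?_
      simp only [Units.val_mul, xa, xb, X, Y, coe_xGL]
      rw [h.commutator_formula hb ha (fun e => hab e)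
        (Checked.ne_ng_of_pos hbp' hap' h.two_mul_half), h.commWord_eq hb ha, hcd]
      have hc' : (c.2.1 : K) = 1 := by rcases hc3 with e | e <;> simp [e, hm1]
      have hd' : (d.2.1 : K) = 1 := by rcases hd3 with e | e <;> simp [e, hm1]
      have hneg : -p.2 = p.2 := by linear_combination -p.2 * h20
      simp [ChevalleyDatum.wordMat, hc1, hc2, hd1, hd2, hc', hd', hneg, mul_assoc]
    have e : (X p.1 * xb * (xa * Y q.2))⁻¹ * (xa * Y q.2 * (X p.1 * xb)) =
        X (p.2 * q.1) * Y (p.2 * q.1 ^ 2) := by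
      have hxb : xb ∈ D.posUnipotent K := hU hbp' p.2
      have hxa : xa ∈ D.posUnipotent K := hU hap' q.1
      have e1 : xa * Y q.2 * (X p.1 * xb) = X p.1 * Y q.2 * (xa * xb) := by
        rw [← (cY hxa q.2).eq, mul_assoc, ← mul_assoc xa, ← (cX hxa p.1).eq, mul_assoc, ← mul_assoc,
          (cY (hXU p.1) q.2).eq]
      have e2 : X p.1 * xb * (xa * Y q.2) = X p.1 * Y q.2 * (xb * xa) := by
        rw [← mul_assoc, mul_assoc (X p.1) xb, mul_assoc (X p.1), ← (cY (mul_mem hxb hxa) q.2).eq]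
        group
      rw [e1, e2, hform]
      group
    exact e ▸ mul_mem (inv_mem (mul_mem P1 P2)) (mul_mem P2 P1)
  obtain ⟨ν, β, rfl⟩ := mem_zGroup_two hh hA hAs hZ hv
  have hX0 : X 0 = 1 := Units.ext (by simp only [X, coe_xGL, h.x_zero hAs]; rfl)
  have hY0 : Y 0 = 1 := Units.ext (by simp only [Y, coe_xGL, h.x_zero hA]; rfl)
  have hmem : (β, ν) ∈ L := by
    show X β * Y ν ∈ H
    rw [← (cY (hXU β) ν).eq]
    exact hvH
  by_cases hr : β ∈ S.k ∧ ν ∈ S.k
  · exact mul_mem (xGL_mem_rat hh S hA hr.2) (xGL_mem_rat hh S hAs hr.1)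
  exfalso
  have hax : ∀ t ∈ S.k, (t, (0 : K)) ∈ L ∧ ((0 : K), t) ∈ L := by
    intro t ht
    refine ⟨?_, ?_⟩
    · show X t * Y 0 ∈ H
      rw [hY0, mul_one]; exact hMH (xGL_mem_rat hh S hAs ht)
    · show X 0 * Y t ∈ H
      rw [hX0, one_mul]; exact hMH (xGL_mem_rat hh S hA ht)
  obtain ⟨x, hx, hxL⟩ := exists_axis S L hax hmul hmem (not_and_or.1 hr)
  have : X 0 * Y x ∈ H := hxL
  rw [hX0, one_mul] at this
  exact hx (hnoA x this)

end

end Cfsg.Agent.Lib.ChevSubfield
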