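import Cfsg.Agent.Lib.ChevSubfield.Setup

/-!
The unipotent part of an overgroup of the rational points.
-/

set_option autoImplicit false

namespace Cfsg.Agent.Lib.ChevSubfield

open Cfsg.Lie Cfsg.Agent.Lib.Chev Cfsg.Agent.Lib.ChevField

variable {D : ChevalleyDatum} {C : Cert} {K : Type*} [Field K]

section

variable (hh : Rooted D C)
include hh

theorem crd_glMap (σ : K →+* K) {r : ℕ} (hr : r < D.nroots) (g : GL D.Idx K) :
    crd hh hr (glMap D σ g) = σ (crd hh hr g) := by
  simp only [crd, dEnt, map_div₀, map_intCast, Matrix.sub_apply, ne_eq, reduceCtorEq, not_false_eq_true,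
    Matrix.one_apply_ne, sub_zero, coe_glMap, Matrix.map_apply]

theorem crd_mem_of_rat {S : SubData K} {r : ℕ} (hr : r < D.nroots) {g : GL D.Idx K} (hg : g ∈ ratGroup D S) :
    crd hh hr g ∈ S.k := by
  refine (S.fix _).1 ?_
  rw [← crd_glMap hh, (mem_ratGroup.1 hg).2]

theorem topRoot_facts (hT : chkTopRoot D C = true) :
    top D ∈ posSet D ∧ (∀ s < D.nroots, ht D C s ≤ ht D C (top D)) ∧
    (∀ s < D.nroots, ht D C s = ht D C (top D) → s = top D) ∧
    (∀ s ∈ posSet D, cTerms C (top D) s = [] ∧ cTerms C s (top D) = []) ∧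
    (∀ l < D.rank, 0 ≤ D.pairing (top D) (D.simple l) ∧ 0 < coef D C l (top D)) ∧
    ∀ j < D.rank, D.pairing (top D) (D.simple j) = 0 → ∃ r ∈ posSet D, 0 < D.pairing (top D) r ∧
      ∃ c ∈ cTerms C (D.simple j) r, c.2.2 = (1, 1) ∧ 0 < D.pairing (top D) c.1 := by
  have h := hh.toChecked
  have htB : ∀ s, htB D C s = ht D C s := fun s => by rw [htB, zsum_eq]; rfl
  have hn := h.two_mul_half
  simp only [chkTopRoot, Bool.and_eq_true, allN_iff, Bool.or_eq_true, natBeq_iff, decide_eq_true_eq,
    List.isEmpty_iff, List.any_eq_true, List.mem_range, Nat.blt_eq, htB] at hT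
  obtain ⟨⟨⟨⟨h0, h1⟩, h2⟩, h3⟩, h4⟩ := hT
  have hpos : ∀ s ∈ posSet D, cTerms C (top D) s = [] ∧ cTerms C s (top D) = [] := by
    intro s hs
    obtain ⟨hs1, hs2⟩ := hs
    have := h2 (s - D.nroots / 2) (by omega)
    rwa [show D.nroots / 2 + (s - D.nroots / 2) = s by omega] at this
  refine ⟨⟨by simp only [top]; omega, by simp only [top]; omega⟩, fun s hs => ?_, fun s hs e => ?_, hpos, h3,
    fun j hj hz => ?_⟩
  · rcases h1 s hs with e | e
    · rw [e]
    · omega
  · rcases h1 s hs with e' | e'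
    · exact e'
    · omega
  · obtain ⟨r0, hr0, hp, c, hc, hc1, hc2⟩ := (h4 j hj).resolve_left (fun hne => hne hz)
    exact ⟨D.nroots / 2 + r0, ⟨by omega, by omega⟩, hp, c, hc, hc1, hc2⟩

/-- The central part. -/
def zGroup (D : ChevalleyDatum) (K : Type*) [Field K] (Z : List ℕ) : Subgroup (GL D.Idx K) :=
  rootGen D K {r | r ∈ Z}

theorem chkCentral_facts {p' : ℕ} {Z : List ℕ} (hC : chkCentral D C p' Z = true) :
    (∀ z ∈ Z, z ∈ posSet D) ∧ ∀ z ∈ Z, ∀ s ∈ posSet D, ∀ c ∈ cTerms C z s, (p' : ℤ) ∣ c.2.1 := by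
  simp only [chkCentral, List.all_eq_true, Bool.and_eq_true, Nat.ble_eq, Nat.blt_eq, allN_iff,
    decide_eq_true_eq] at hC
  refine ⟨fun z hz => ⟨(hC z hz).1.1, (hC z hz).1.2⟩, fun z hz s hs c hc => ?_⟩
  obtain ⟨hs1, hs2⟩ := hs
  have := hh.toChecked.two_mul_half
  have h2 := (hC z hz).2 (s - D.nroots / 2) (by omega)
  rw [show D.nroots / 2 + (s - D.nroots / 2) = s by omega] at h2
  exact h2 c hc

end

/-- The roots of `Z` are central among the positive ones over `K`. -/
def IsCentralSet (D : ChevalleyDatum) (C : Cert) (K : Type*) [Field K] (Z : List ℕ) : Prop :=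
  ∀ z ∈ Z, z ∈ posSet D ∧ ∀ s ∈ posSet D, ∀ c ∈ cTerms C z s, (c.2.1 : K) = 0

/-- Every positive root outside `Z` is seen by a commutator over `K`. -/
def IsVisible (D : ChevalleyDatum) (C : Cert) (K : Type*) [Field K] (Z : List ℕ) : Prop :=
  ∀ r ∈ posSet D, r ∉ Z → ∃ s ∈ posSet D, s ≠ r ∧ ∃ c ∈ cTerms C r s, c.2.2 = (1, 1) ∧ (c.2.1 : K) ≠ 0 ∧
    ((cTerms C r s).filter fun d => Nat.beq d.1 c.1) = [c]

section

variable (hh : Rooted D C)
include hh

theorem zGroup_le {Z : List ℕ} (hZ : IsCentralSet D C K Z) : zGroup D K Z ≤ D.posUnipotent K := by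
  rw [hh.toChecked.posUnipotent_eq]
  exact rootGen_mono fun r hr => (hZ r hr).1

theorem zGroup_central {Z : List ℕ} (hZ : IsCentralSet D C K Z) {g : GL D.Idx K} (hg : g ∈ D.posUnipotent K)
    {v : GL D.Idx K} (hv : v ∈ zGroup D K Z) : v * g = g * v := by
  have h := hh.toChecked
  have hle : zGroup D K Z ≤ Subgroup.centralizer (D.posUnipotent K : Set (GL D.Idx K)) := by
    refine (Subgroup.closure_le _).2 ?_
    rintro x ⟨z, t, hz, e⟩
    rw [SetLike.mem_coe, Subgroup.mem_centralizer_iff]
    intro y hy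
    rw [SetLike.mem_coe, h.posUnipotent_eq] at hy
    have hgen : rootGen D K (posSet D) ≤ Subgroup.centralizer {x} := by
      refine (Subgroup.closure_le _).2 ?_
      rintro w ⟨s, a, hs, ew⟩
      rw [SetLike.mem_coe, Subgroup.mem_centralizer_singleton_iff]
      refine Units.ext ?_
      rw [Units.val_mul, Units.val_mul, e, ew]
      by_cases hsz : s = z
      · subst hsz; rw [h.x_add hs.2, h.x_add hs.2, add_comm]
      · rw [h.commutator_formula (hZ z hz).1.2 hs.2 hsz
          (Checked.ne_ng_of_pos (hZ z hz).1 hs h.two_mul_half) t a]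
        have hw : D.wordMat K (D.commWord K z s t a) = 1 := by
          rw [h.commWord_eq (hZ z hz).1.2 hs.2, ChevalleyDatum.wordMat, List.map_map]
          refine List.prod_eq_one fun m hm => ?_
          obtain ⟨c, hc, rfl⟩ := List.mem_map.1 hm
          simp [(hZ z hz).2 s hs c hc, h.x_zero (h.cTerms_lt (hZ z hz).1.2 hs.2 c hc)]
        rw [hw, mul_one]
    exact Subgroup.mem_centralizer_singleton_iff.1 (hgen hy)
  exact (Subgroup.mem_centralizer_iff.1 (hle hv) g hg).symm

variable {S : SubData K} {H : Subgroup (GL D.Idx K)} (hMH : ratGroup D S ≤ H)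
include hMH

/-- The unipotent elements of `H` are rational when its central ones are. -/
theorem unipotent_rat (hT : chkTopRoot D C = true) {Z : List ℕ} (hZ : IsCentralSet D C K Z)
    (hV : IsVisible D C K Z) (hHZ : ∀ v ∈ zGroup D K Z, v ∈ H → v ∈ ratGroup D S) :
    ∀ u ∈ D.posUnipotent K, u ∈ H → u ∈ ratGroup D S := by
  classical
  have h := hh.toChecked
  obtain ⟨-, hmax, -, -⟩ := topRoot_facts hh hT
  set N := ht D C (top D)
  have key : ∀ n : ℕ, ∀ k : ℤ, 1 ≤ k → N + 1 - k ≤ n → ∀ u ∈ rootGen D K (htSet D C k), ∀ z ∈ zGroup D K Z,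
      z * u ∈ H → z * u ∈ ratGroup D S := by
    intro n
    induction n with
    | zero =>
      intro k hk hn u hu z hz hzu
      have : u = 1 := by
        have : rootGen D K (htSet D C k) = ⊥ := by
          rw [eq_bot_iff, rootGen, Subgroup.closure_le]
          rintro x ⟨r, t, hr, -⟩
          have := hmax r hr.1.2
          have := hr.2
          omega
        rwa [this, Subgroup.mem_bot] at hu
      rw [this, mul_one] at hzu ⊢
      exact hHZ z hz hzu
    | succ n ih =>
      intro k hk hn u hu z hz hzu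
      have huU : u ∈ D.posUnipotent K := by
        rw [h.posUnipotent_eq]; exact rootGen_mono (htSet_subset k) hu
      -- the coordinates outside `Z` are rational
      have hrat : ∀ r, ∀ hr : r ∈ posSet D, ht D C r = k → r ∉ Z → crd hh hr.2 u ∈ S.k := by
        intro r hr hrk hrZ
        obtain ⟨s, hs, hsr, c, hc, h11, hne, huniq⟩ := hV r hr hrZ
        have hcp := h.cTerms_lt hr.2 hs.2 c hc
        set X := xGL hh.toChecked K hs.2 (1 : K)
        have hXM : X ∈ ratGroup D S := xGL_mem_rat hh S hs.2 (one_mem _)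
        have hl : (1 : ℤ) ≤ ht D C s := h.ht_pos hs.2 hs.1
        set w := u * X * u⁻¹ * X⁻¹
        have hXU : X ∈ D.posUnipotent K := by
          rw [h.posUnipotent_eq]; exact mem_rootGen hs (coe_xGL _ _ _)
        have hw : w ∈ rootGen D K (htSet D C (k + ht D C s)) := by
          have h1 := (dEnt_comm h hk hl hu (mem_rootGen (S := htSet D C (ht D C s)) ⟨hs, le_rfl⟩ (coe_xGL h hs.2 (1 : K)))).1
          obtain ⟨m, hm⟩ : ∃ m : ℕ, k + ht D C s = m := ⟨(k + ht D C s).toNat, by omega⟩
          rw [hm] at h1 ⊢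
          exact mem_htGen_of_raises hh (mul_mem (mul_mem (mul_mem huU hXU) (inv_mem huU)) (inv_mem hXU)) m
            (by omega) h1
        have hwH : w ∈ H := by
          have e : w = (z * u) * X * (z * u)⁻¹ * X⁻¹ := by
            have hc' : z * (u * X * u⁻¹) * z⁻¹ = u * X * u⁻¹ := by
              rw [zGroup_central hh hZ (mul_mem (mul_mem huU hXU) (inv_mem huU)) hz, mul_inv_cancel_right]
            show u * X * u⁻¹ * X⁻¹ = _
            rw [← hc']
            group
          rw [e]
          exact mul_mem (mul_mem (mul_mem hzu (hMH hXM)) (inv_mem hzu)) (inv_mem (hMH hXM))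
        have hwM : w ∈ ratGroup D S := by
          have := ih (k + ht D C s) (by omega) (by push_cast at hn ⊢; omega) w hw 1 (one_mem _) (by rwa [one_mul])
          rwa [one_mul] at this
        have h2 := crd_mem_of_rat hh hcp hwM
        rw [crd_comm hh hk hr hrk hs hsr hc h11 huniq hcp hu] at h2
        have := div_mem h2 (intCast_mem S.k c.2.1)
        rwa [mul_div_cancel_left₀ _ hne] at this
      let f : ℕ → K := fun r => if hr : r < D.nroots then crd hh hr u else 0
      obtain ⟨v1, hv1, hc1, hv1M⟩ := exists_layer hh (F := K) k hk fun r => if r ∈ Z then 0 else f r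
      obtain ⟨v2, hv2, hc2, hv2M⟩ := exists_layer hh (F := K) k hk fun r => if r ∈ Z then f r else 0
      have hv1r : v1 ∈ ratGroup D S := hv1M _ fun r hr hrk => xGL_mem_rat hh S hr.2 (by
        split_ifs with hz
        · exact zero_mem _
        · simp only [f, dif_pos hr.2]; exact hrat r hr hrk hz)
      have hv2z : v2 ∈ zGroup D K Z := hv2M _ fun r hr hrk => by
        by_cases hz : r ∈ Z
        · exact mem_rootGen hz (coe_xGL _ _ _)
        · rw [if_neg hz, show xGL hh.toChecked K hr.2 (0 : K) = 1 from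
            Units.ext (by rw [coe_xGL, h.x_zero hr.2]; rfl)]
          exact one_mem _
      have hu2 : (v1 * v2)⁻¹ * u ∈ rootGen D K (htSet D C (k + 1)) := by
        refine mem_next hh hk (mul_mem (inv_mem (mul_mem hv1 hv2)) hu) fun r hr hrk => ?_
        rw [crd_mul hh (by omega) hr.2 (by omega) (inv_mem (mul_mem hv1 hv2)) hu,
          crd_inv hh (k := k) (by omega) hr.2 (by omega) (mul_mem hv1 hv2),
          crd_mul hh (k := k) (by omega) hr.2 (by omega) hv1 hv2, hc1 r hr hrk, hc2 r hr hrk]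
        simp only [f, dif_pos hr.2]
        split_ifs <;> ring
      have hv1U : v1 ∈ D.posUnipotent K := by
        rw [h.posUnipotent_eq]; exact rootGen_mono (htSet_subset k) hv1
      have e : z * u = v1 * (z * v2 * ((v1 * v2)⁻¹ * u)) := by
        rw [← mul_assoc, ← mul_assoc v1, ← zGroup_central hh hZ hv1U hz]
        group
      have h3 := ih (k + 1) (by omega) (by push_cast at hn ⊢; omega) _ hu2 (z * v2) (mul_mem hz hv2z) (by
        have := mul_mem (inv_mem (hMH hv1r)) (e ▸ hzu : v1 * (z * v2 * ((v1 * v2)⁻¹ * u)) ∈ H)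
        rwa [inv_mul_cancel_left] at this)
      rw [e]
      exact mul_mem hv1r h3
  intro u hu huH
  have h1 : u ∈ rootGen D K (htSet D C 1) := by rw [htSet_one h, ← h.posUnipotent_eq]; exact hu
  have := key (N + 1).toNat 1 le_rfl (by omega) u h1 1 (one_mem _) (by rwa [one_mul])
  rwa [one_mul] at this

end

end Cfsg.Agent.Lib.ChevSubfield
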